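import Mathlib
import Cfsg.Prelude.Def_GeometricClasses
import Cfsg.Agent.Lib.Helper10.SU3KDefs

/-!
# K-SU3F-C (keystone 577813): two elements of order 7 of `SU_3(q)`, `q = 3, 5`, generate conjugate subgroups

Sylow's theorem in the subgroup: `49 ∤ |GL_3(q^2)|`, so a subgroup of order 7 of any subgroup `S ≤ GL_3(q^2)` is a
Sylow 7-subgroup of `S`.
-/

set_option autoImplicit false
set_option linter.unusedSectionVars false

namespace Cfsg.Agent.Lib.Helper92.SU3F

open Cfsg Cfsg.Geo Matrix Cfsg.Agent.Lib.Helper10.SU3K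
open scoped Matrix MatrixGroups

variable {F : Type*} [Field F] [Fintype F] {q : ℕ}

/-- `49 ∤ |GL_3(F)|` for `|F| = 9, 25`. -/
theorem not_dvd_card_GL [DecidableEq F] (hF : Fintype.card F = q ^ 2) (hq : q = 3 ∨ q = 5) :
    ¬ 49 ∣ Nat.card (GL (Fin 3) F) := by
  rw [Matrix.card_GL_field, hF]
  rcases hq with rfl | rfl
  · rw [Fin.prod_univ_three]; norm_num
  · rw [Fin.prod_univ_three]; norm_num

/-- Sylow conjugacy for cyclic subgroups of order `7` in a finite group whose order is not divisible by `49`. -/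
theorem exists_conj_of_order_seven_aux {S : Type*} [Group S] [Finite S] (h49 : ¬ 49 ∣ Nat.card S)
    (c d : S) (hc : orderOf c = 7) (hd : orderOf d = 7) :
    ∃ g : S, g * c * g⁻¹ ∈ Subgroup.zpowers d := by
  have : Fact (Nat.Prime 7) := ⟨by norm_num⟩
  have h7 : 7 ∣ Nat.card S := by rw [← hc]; exact orderOf_dvd_natCard c
  have hpos : Nat.card S ≠ 0 := Nat.card_pos.ne'
  have hfac : (Nat.card S).factorization 7 = 1 := by
    apply le_antisymm
    · by_contra hlt
      push Not at hlt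
      apply h49
      have : 7 ^ 2 ∣ Nat.card S :=
        (Nat.Prime.pow_dvd_iff_le_factorization (by norm_num) hpos).2 hlt
      simpa using this
    · exact (Nat.Prime.pow_dvd_iff_le_factorization (by norm_num) hpos).1 (by simpa using h7)
  have hcardc : Nat.card (Subgroup.zpowers c) = 7 ^ (Nat.card S).factorization 7 := by
    rw [Nat.card_zpowers, hc, hfac, pow_one]
  have hcardd : Nat.card (Subgroup.zpowers d) = 7 ^ (Nat.card S).factorization 7 := by
    rw [Nat.card_zpowers, hd, hfac, pow_one]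
  let P : Sylow 7 S := Sylow.ofCard (Subgroup.zpowers c) hcardc
  let Q : Sylow 7 S := Sylow.ofCard (Subgroup.zpowers d) hcardd
  obtain ⟨g, hg⟩ := MulAction.exists_smul_eq S P Q
  refine ⟨g, ?_⟩
  have hmem : g * c * g⁻¹ ∈ ((g • P : Sylow 7 S) : Subgroup S) := by
    rw [Sylow.coe_subgroup_smul, Subgroup.mem_pointwise_smul_iff_inv_smul_mem, MulAut.smul_def,
      MulAut.conj_inv_apply]
    have : g⁻¹ * (g * c * g⁻¹) * g = c := by group
    rw [this]
    exact Subgroup.mem_zpowers c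
  rw [hg] at hmem
  exact hmem

/-- K-SU3F-C -/
theorem exists_conj_of_order_seven (hF : Fintype.card F = q ^ 2) (hq : q = 3 ∨ q = 5) (c d : GL (Fin 3) F)
    (hc : orderOf c = 7) (hd : orderOf d = 7) (hcSU : c ∈ SUg 3 F q) (hdSU : d ∈ SUg 3 F q) :
    ∃ g ∈ SUg 3 F q, g * c * g⁻¹ ∈ Subgroup.zpowers d := by
  classical
  have h49 : ¬ 49 ∣ Nat.card (SUg 3 F q) := fun h =>
    not_dvd_card_GL hF hq (h.trans (Subgroup.card_subgroup_dvd_card _))
  have hc' : orderOf (⟨c, hcSU⟩ : SUg 3 F q) = 7 := by rw [← hc]; exact Subgroup.orderOf_mk c hcSU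
  have hd' : orderOf (⟨d, hdSU⟩ : SUg 3 F q) = 7 := by rw [← hd]; exact Subgroup.orderOf_mk d hdSU
  obtain ⟨g, hg⟩ := exists_conj_of_order_seven_aux h49 ⟨c, hcSU⟩ ⟨d, hdSU⟩ hc' hd'
  refine ⟨g.1, g.2, ?_⟩
  obtain ⟨m, hm⟩ := Subgroup.mem_zpowers_iff.1 hg
  refine Subgroup.mem_zpowers_iff.2 ⟨m, ?_⟩
  have := congrArg (Subtype.val) hm
  simpa using this

end Cfsg.Agent.Lib.Helper92.SU3F
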