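import Cfsg.Agent.Lib.Helper92.M24Normal

set_option autoImplicit false

/-! Involutions of `Cfsg.M24`: each is conjugate to one of two explicit involutions. -/

namespace Cfsg.Agent.Lib.Helper92

open Cfsg Cfsg.Agent.Lib.Helper10

/-! ### distinctness lemmas -/

theorem nodup5 {p0 p1 p2 p3 p4 : GolayPt} (h01 : p0 ≠ p1) (h02 : p0 ≠ p2) (h03 : p0 ≠ p3)
    (h04 : p0 ≠ p4) (h12 : p1 ≠ p2) (h13 : p1 ≠ p3) (h14 : p1 ≠ p4) (h23 : p2 ≠ p3)
    (h24 : p2 ≠ p4) (h34 : p3 ≠ p4) : [p0, p1, p2, p3, p4].Nodup := by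
  simp only [List.nodup_cons, List.mem_cons, List.not_mem_nil, or_false, not_or, List.nodup_nil,
    and_true, not_false_eq_true]
  exact ⟨⟨h01, h02, h03, h04⟩, ⟨h12, h13, h14⟩, ⟨h23, h24⟩, h34⟩

theorem ne_of_fix_of_move (g : Equiv.Perm GolayPt) (_hgg : ∀ x, g (g x) = x) {p a : GolayPt}
    (hp : g p = p) (ha : g a ≠ a) : p ≠ a :=
  fun h => ha (by rw [← h]; exact hp)

section
variable (g : Equiv.Perm GolayPt) (hgg : ∀ x, g (g x) = x)
include hgg

theorem ne_img_of_fix_of_move {p a : GolayPt} (hp : g p = p) (ha : g a ≠ a) : p ≠ g a := by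
  intro h
  have := congrArg g h
  rw [hp, hgg] at this
  exact ha (h.symm.trans this)

theorem move_img {a : GolayPt} (ha : g a ≠ a) : g (g a) ≠ g a := by
  rw [hgg]; exact ha.symm

theorem nodup_fix_swap_swap {p a c : GolayPt}
    (hp : g p = p) (ha : g a ≠ a) (hc : g c ≠ c) (hca : c ≠ a) (hcb : c ≠ g a) :
    [p, a, g a, c, g c].Nodup := by
  apply nodup5
  · exact ne_of_fix_of_move g hgg hp ha
  · exact ne_img_of_fix_of_move g hgg hp ha
  · exact ne_of_fix_of_move g hgg hp hc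
  · exact ne_img_of_fix_of_move g hgg hp hc
  · exact ha.symm
  · exact hca.symm
  · intro h
    have := congrArg g h
    rw [hgg] at this
    exact hcb this.symm
  · exact hcb.symm
  · intro h
    exact hca (g.injective h).symm
  · exact hc.symm

theorem nodup_fix_swap_fix_fix {p a c d : GolayPt}
    (hp : g p = p) (ha : g a ≠ a) (hc : g c = c) (hd : g d = d) (hpc : p ≠ c) (hpd : p ≠ d)
    (hcd : c ≠ d) : [p, a, g a, c, d].Nodup := by
  apply nodup5
  · exact ne_of_fix_of_move g hgg hp ha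
  · exact ne_img_of_fix_of_move g hgg hp ha
  · exact hpc
  · exact hpd
  · exact ha.symm
  · exact (ne_of_fix_of_move g hgg hc ha).symm
  · exact (ne_of_fix_of_move g hgg hd ha).symm
  · exact (ne_img_of_fix_of_move g hgg hc ha).symm
  · exact (ne_img_of_fix_of_move g hgg hd ha).symm
  · exact hcd

theorem nodup_swap_swap_pt {a c e : GolayPt}
    (ha : g a ≠ a) (hc : g c ≠ c) (hca : c ≠ a) (hcb : c ≠ g a)
    (hea : e ≠ a) (heb : e ≠ g a) (hec : e ≠ c) (hed : e ≠ g c) :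
    [a, g a, c, g c, e].Nodup := by
  apply nodup5
  · exact ha.symm
  · exact hca.symm
  · intro h
    have := congrArg g h
    rw [hgg] at this
    exact hcb this.symm
  · exact hea.symm
  · exact hcb.symm
  · intro h
    exact hca (g.injective h).symm
  · exact heb.symm
  · exact hc.symm
  · exact hec.symm
  · exact hed.symm

end

/-! ### the four shapes -/

/-- the four shapes, as lists of base indices: the `i`-th base point goes to the base point
with the listed index. -/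
def forms : List (List ℕ) := [[0, 2, 1, 4, 3], [0, 2, 1, 3, 4], [1, 0, 3, 2, 5], [1, 0, 3, 2, 6]]

/-- `g` has shape `f` on the first five base points. -/
def HasForm (g : Equiv.Perm GolayPt) (f : ℕ) : Prop :=
  ∀ i < 5, g (bpt i) = bpt ((forms.getD f []).getD i 0)

theorem hasForm_of {g : Equiv.Perm GolayPt} {f : ℕ} {j0 j1 j2 j3 j4 : ℕ}
    (hf : forms.getD f [] = [j0, j1, j2, j3, j4])
    (h0 : g (bpt 0) = bpt j0) (h1 : g (bpt 1) = bpt j1) (h2 : g (bpt 2) = bpt j2)
    (h3 : g (bpt 3) = bpt j3) (h4 : g (bpt 4) = bpt j4) : HasForm g f := by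
  intro i hi
  rw [hf]
  interval_cases i
  · exact h0
  · exact h1
  · exact h2
  · exact h3
  · exact h4

theorem card3 (a b c : GolayPt) : ({a, b, c} : Finset GolayPt).card < 24 :=
  lt_of_le_of_lt Finset.card_le_three (by decide)
theorem card4 (a b c d : GolayPt) : ({a, b, c, d} : Finset GolayPt).card < 24 :=
  lt_of_le_of_lt Finset.card_le_four (by decide)
theorem card2 (a b : GolayPt) : ({a, b} : Finset GolayPt).card < 24 :=
  lt_of_le_of_lt Finset.card_le_two (by decide)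

theorem target5_or_6 (c : GolayPt) (hc : ∀ i < 5, c ≠ bpt i) :
    okTarget 5 (idx c) = true ∨ okTarget 6 (idx c) = true := by
  by_cases h : octO.testBit (idx c) = true
  · right
    apply target6 ⟨idx c, idx_lt c⟩ h
    intro i hi
    apply hc i i.2
    show c = pt (base.getD i 0)
    rw [← hi, pt_idx]
  · left
    rw [ok5_iff]
    simpa using h

/-- every involution of `M24` is conjugate to one with one of the four shapes. -/
theorem normal_form (g : Equiv.Perm GolayPt) (ho : orderOf g = 2) :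
    ∃ k ∈ M24, ∃ f < 4, HasForm (k⁻¹ * g * k) f := by
  have hgg : ∀ x, g (g x) = x := by
    intro x
    have h := pow_orderOf_eq_one g
    rw [ho, sq] at h
    exact congrArg (fun σ : Equiv.Perm GolayPt => σ x) h
  have hne : g ≠ 1 := by
    intro h
    rw [h, orderOf_one] at ho
    omega
  obtain ⟨a, ha⟩ : ∃ a, g a ≠ a := by
    by_contra h
    push Not at h
    exact hne (Equiv.ext h)
  by_cases hfix : ∃ p, g p = p
  · obtain ⟨p, hp⟩ := hfix
    -- a fixed point and a moved point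
    have shape0 : ∀ c, g c ≠ c → c ≠ a → c ≠ g a → ∃ k ∈ M24, ∃ f < 4, HasForm (k⁻¹ * g * k) f := by
      intro c hc hca hcb
      obtain ⟨k, hk, k0, k1, k2, k3, k4⟩ :=
        exists_five p a (g a) c (g c) (nodup_fix_swap_swap g hgg hp ha hc hca hcb)
      refine ⟨k, hk, 0, by decide, ?_⟩
      exact hasForm_of (f := 0) rfl (conj_apply k0 k0 hp) (conj_apply k1 k2 rfl)
        (conj_apply k2 k1 (hgg a)) (conj_apply k3 k4 rfl) (conj_apply k4 k3 (hgg c))
    obtain ⟨c, hc⟩ := exists_notMem (card3 p a (g a))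
    simp only [Finset.mem_insert, Finset.mem_singleton, not_or] at hc
    obtain ⟨hcp, hca, hcb⟩ := hc
    by_cases hgc : g c = c
    · obtain ⟨d, hd⟩ := exists_notMem (card4 p a (g a) c)
      simp only [Finset.mem_insert, Finset.mem_singleton, not_or] at hd
      obtain ⟨hdp, hda, hdb, hdc⟩ := hd
      by_cases hgd : g d = d
      · obtain ⟨k, hk, k0, k1, k2, k3, k4⟩ :=
          exists_five p a (g a) c d
            (nodup_fix_swap_fix_fix g hgg hp ha hgc hgd (Ne.symm hcp) (Ne.symm hdp) (Ne.symm hdc))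
        refine ⟨k, hk, 1, by decide, ?_⟩
        exact hasForm_of (f := 1) rfl (conj_apply k0 k0 hp) (conj_apply k1 k2 rfl)
          (conj_apply k2 k1 (hgg a)) (conj_apply k3 k3 hgc) (conj_apply k4 k4 hgd)
      · exact shape0 d hgd hda hdb
    · exact shape0 c hgc hca hcb
  · push Not at hfix
    obtain ⟨c, hc⟩ := exists_notMem (card2 a (g a))
    simp only [Finset.mem_insert, Finset.mem_singleton, not_or] at hc
    obtain ⟨hca, hcb⟩ := hc
    obtain ⟨e, he⟩ := exists_notMem (card4 a (g a) c (g c))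
    simp only [Finset.mem_insert, Finset.mem_singleton, not_or] at he
    obtain ⟨hea, heb, hec, hed⟩ := he
    have hnd := nodup_swap_swap_pt g hgg ha (hfix c) hca hcb hea heb hec hed
    obtain ⟨k, hk, k0, k1, k2, k3, k4⟩ := exists_five a (g a) c (g c) e hnd
    -- the image of the fifth point
    have hf' : ∀ i < 5, k⁻¹ (g e) ≠ bpt i := by
      intro i hi h
      have h1 : g e = k (bpt i) := by rw [← h]; simp
      have hge : ∀ x, g e = x → e = g x := fun x hx => by rw [← hx, hgg]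
      interval_cases i
      · rw [k0] at h1; exact heb (hge _ h1)
      · rw [k1] at h1; have := hge _ h1; rw [hgg] at this; exact hea this
      · rw [k2] at h1; exact hed (hge _ h1)
      · rw [k3] at h1; have := hge _ h1; rw [hgg] at this; exact hec this
      · rw [k4] at h1; exact hfix e h1
    have common : ∀ u : Equiv.Perm GolayPt, (∀ i < 5, u (bpt i) = bpt i) → ∀ j,
        u (bpt j) = k⁻¹ (g e) →
        ((k * u)⁻¹ * g * (k * u)) (bpt 0) = bpt 1 ∧ ((k * u)⁻¹ * g * (k * u)) (bpt 1) = bpt 0 ∧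
        ((k * u)⁻¹ * g * (k * u)) (bpt 2) = bpt 3 ∧ ((k * u)⁻¹ * g * (k * u)) (bpt 3) = bpt 2 ∧
        ((k * u)⁻¹ * g * (k * u)) (bpt 4) = bpt j := by
      intro u hu j huj
      have e0 : (k * u) (bpt 0) = a := by show k (u (bpt 0)) = a; rw [hu 0 (by decide), k0]
      have e1 : (k * u) (bpt 1) = g a := by show k (u (bpt 1)) = g a; rw [hu 1 (by decide), k1]
      have e2 : (k * u) (bpt 2) = c := by show k (u (bpt 2)) = c; rw [hu 2 (by decide), k2]
      have e3 : (k * u) (bpt 3) = g c := by show k (u (bpt 3)) = g c; rw [hu 3 (by decide), k3]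
      have e4 : (k * u) (bpt 4) = e := by show k (u (bpt 4)) = e; rw [hu 4 (by decide), k4]
      have ej : (k * u) (bpt j) = g e := by show k (u (bpt j)) = g e; rw [huj]; simp
      exact ⟨conj_apply e0 e1 rfl, conj_apply e1 e0 (hgg a), conj_apply e2 e3 rfl,
        conj_apply e3 e2 (hgg c), conj_apply e4 ej rfl⟩
    rcases target5_or_6 (k⁻¹ (g e)) hf' with h5 | h6
    · obtain ⟨u, hu, hu1, hu2⟩ := level 5 (by decide) _ h5
      obtain ⟨c0, c1, c2, c3, c4⟩ := common u hu1 5 hu2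
      refine ⟨k * u, M24.mul_mem hk (H_le_M24 hu), 2, by decide, ?_⟩
      exact hasForm_of (f := 2) rfl c0 c1 c2 c3 c4
    · obtain ⟨u, hu, hu1, hu2⟩ := level 6 (by decide) _ h6
      obtain ⟨c0, c1, c2, c3, c4⟩ := common u (fun i hi => hu1 i (by omega)) 6 hu2
      refine ⟨k * u, M24.mul_mem hk (H_le_M24 hu), 3, by decide, ?_⟩
      exact hasForm_of (f := 3) rfl c0 c1 c2 c3 c4

/-! ### the certificates -/

/-- words with the four shapes on the first five base points. -/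
def formWords : List (List ℕ) := [
  [0, 3, 3, 3, 3, 4, 0, 0, 3, 4, 4, 3, 3, 2, 0, 0, 1, 3, 2, 3, 2, 3, 4, 4, 3, 1],
  [0, 3, 3, 3, 3, 4, 0, 0, 2, 0, 4, 4, 3, 2, 0, 2, 2, 3, 4, 0, 0, 0, 4, 3, 3, 3, 2, 0],
  [1, 0, 4, 4, 3, 2, 0, 0, 0, 2, 0, 2, 0, 2, 2, 3, 2, 2, 0, 4, 4, 0, 0, 4, 4, 0, 2, 3],
  [1, 0, 4, 4, 3, 2, 0, 0, 0, 2, 0, 2, 0, 2, 2, 3, 3, 4, 0, 0, 0, 4, 3, 3, 3, 2, 0]]

theorem formWords_spec : ∀ f : Fin 4, ∀ i : Fin 5,
    evalW (formWords.getD f []) (base.getD i 0) = base.getD ((forms.getD f []).getD i 0) 0 := by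
  decide +kernel

/-- an involution fixing the eight points of an octad. -/
def z1w : List ℕ := [0, 2, 0, 2, 0, 2]

/-- an involution without fixed points. -/
def z2w : List ℕ := [1]

/-- for each candidate involution `(shape, c5, c6)`: its class (1 or 2) and a conjugating word. -/
def certs : List (ℕ × ℕ × ℕ × ℕ × List ℕ) := [
  (0, 8, 5, 1, [0, 1, 3, 2, 3, 4]),
  (0, 15, 14, 1, [1, 3, 4, 0, 4, 3, 3, 3]),
  (0, 16, 5, 1, [0, 4, 0, 2, 0, 2, 2, 0]),
  (0, 19, 5, 1, [1, 2, 0, 0, 4, 0, 4, 4]),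
  (1, 4, 5, 1, [0, 4, 0, 4, 3, 2, 2, 3]),
  (1, 6, 14, 1, [0, 0, 1, 4, 4, 0, 4, 4]),
  (1, 8, 14, 1, [3, 2, 0, 4, 0, 4, 0]),
  (1, 10, 17, 1, [0, 1, 3, 3, 2, 3, 2, 3]),
  (1, 13, 5, 1, [0, 0, 1, 3, 4, 0, 0]),
  (1, 13, 14, 1, [1, 0, 2, 0, 2, 3, 3]),
  (1, 13, 17, 1, [0, 4, 0, 0, 4, 3, 1, 0]),
  (1, 16, 14, 1, [1, 2, 3, 2, 2]),
  (1, 18, 5, 1, [3, 4, 4, 0, 4, 3, 3]),
  (1, 20, 14, 1, [1, 0, 4, 0, 4, 4]),
  (1, 21, 14, 1, [2, 3, 3, 4, 3]),
  (1, 22, 17, 1, [3, 2, 0, 2, 2, 0, 0, 4]),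
  (2, 19, 5, 2, [0, 2, 3, 3, 3, 3, 1, 4]),
  (2, 19, 14, 2, [3, 3, 3, 3, 3, 4, 3, 3]),
  (2, 19, 17, 2, [3, 4, 4, 0, 2, 2, 0, 0, 0]),
  (3, 6, 5, 2, [0, 1, 4, 0, 4, 0, 2, 2, 0, 1]),
  (3, 7, 17, 2, [3, 3, 1, 4, 4, 0, 0, 1, 4]),
  (3, 9, 17, 2, [3, 2, 0, 0, 4, 0, 0, 1]),
  (3, 10, 17, 1, [2, 2, 0, 2, 0, 1, 4, 0]),
  (3, 15, 5, 2, [0, 0, 4, 0, 4, 3, 3, 1, 4, 0]),
  (3, 19, 17, 2, [3, 3, 3, 3, 3, 1, 4, 0, 1]),
  (3, 20, 14, 1, [2, 0, 1, 3, 3, 2, 3, 3, 1]),
  (3, 21, 5, 2, [0, 2, 0, 1, 4, 3, 4])]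

/-- the candidate word with shape `f` and last two transversal targets `c5`, `c6`. -/
def candWord (f c5 c6 : ℕ) : List ℕ := formWords.getD f [] ++ wordAt 5 c5 ++ wordAt 6 c6

/-- a candidate that is an involution is conjugate to one of the two standard involutions;
the certificate is looked up by its key. -/
def candOK' (f c5 c6 : ℕ) : Bool :=
  !(okTarget 5 c5 && okTarget 6 c6 && isInvolTab (candWord f c5 c6)) ||
    certs.any (fun c => c.1 == f && c.2.1 == c5 && c.2.2.1 == c6 &&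
      (conjOK (candWord f c5 c6) c.2.2.2.2 z1w || conjOK (candWord f c5 c6) c.2.2.2.2 z2w))

theorem cand_check : ∀ f : Fin 4, ∀ c5 c6 : Fin 24, candOK' f c5 c6 = true := by decide +kernel

/-- every involution of `M24` is conjugate to one of the two standard involutions. -/
theorem invol_conj (g : Equiv.Perm GolayPt) (hg : g ∈ M24) (ho : orderOf g = 2) :
    ∃ k ∈ M24, k * g * k⁻¹ = wordPerm z1w ∨ k * g * k⁻¹ = wordPerm z2w := by
  obtain ⟨k, hk, f, hf, hform⟩ := normal_form g ho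
  have hg' : k⁻¹ * g * k ∈ M24 := M24.mul_mem (M24.mul_mem (M24.inv_mem hk) hg) hk
  have hform' : ∀ i < 5, (k⁻¹ * g * k) (bpt i) = wordPerm (formWords.getD f []) (bpt i) := by
    intro i hi
    rw [hform i hi]
    symm
    exact wordPerm_pt (base_lt ⟨i, by omega⟩) (formWords_spec ⟨f, hf⟩ ⟨i, hi⟩)
  obtain ⟨c5, c6, h5, h6, heq⟩ := eq_candidate _ _ hg' hform'
  have hgsq : g * g = 1 := by
    have h := pow_orderOf_eq_one g
    rw [ho, sq] at h
    exact h
  have hne : g ≠ 1 := by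
    intro h
    rw [h, orderOf_one] at ho
    omega
  have h2 : (k⁻¹ * g * k) * (k⁻¹ * g * k) = 1 := by
    calc (k⁻¹ * g * k) * (k⁻¹ * g * k) = k⁻¹ * (g * g) * k := by group
      _ = 1 := by rw [hgsq]; group
  have h1 : k⁻¹ * g * k ≠ 1 := by
    intro h
    apply hne
    calc g = k * (k⁻¹ * g * k) * k⁻¹ := by group
      _ = 1 := by rw [h]; group
  have hcw : wordPerm (candWord f c5 c6) = k⁻¹ * g * k := heq.symm
  have hinv : isInvolTab (candWord f c5 c6) = true := by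
    apply isInvolTab_of
    · rw [hcw]; exact h2
    · rw [hcw]; exact h1
  have hc := cand_check ⟨f, hf⟩ c5 c6
  unfold candOK' at hc
  simp only [h5, h6, hinv, Bool.and_self, Bool.not_true, Bool.false_or, List.any_eq_true,
    Bool.and_eq_true, Bool.or_eq_true] at hc
  obtain ⟨c, _, _, hconj⟩ := hc
  have key : ∀ zw, conjOK (candWord f c5 c6) c.2.2.2.2 zw = true →
      (wordPerm c.2.2.2.2 * k⁻¹) * g * (wordPerm c.2.2.2.2 * k⁻¹)⁻¹ = wordPerm zw := by
    intro zw hzw
    have h3 := conj_of_conjOK hzw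
    rw [← h3, hcw]
    group
  refine ⟨wordPerm c.2.2.2.2 * k⁻¹, M24.mul_mem (wordPerm_mem_M24 _) (M24.inv_mem hk), ?_⟩
  rcases hconj with h | h
  · exact Or.inl (key _ h)
  · exact Or.inr (key _ h)

/-! ### the two standard involutions -/

theorem z1_sq : wordPerm z1w * wordPerm z1w = 1 ∧ wordPerm z1w ≠ 1 :=
  isInvolTab_iff_of_true (by decide +kernel)

theorem z2_sq : wordPerm z2w * wordPerm z2w = 1 ∧ wordPerm z2w ≠ 1 :=
  isInvolTab_iff_of_true (by decide +kernel)

theorem orderOf_eq_two_of {σ : Equiv.Perm GolayPt} (h : σ * σ = 1 ∧ σ ≠ 1) : orderOf σ = 2 := by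
  apply orderOf_eq_prime
  · rw [sq]; exact h.1
  · exact h.2

/-- mask of the fixed points of the first standard involution. -/
def z1fix : ℕ := 11010247

theorem z1fix_spec : ∀ i : Fin 24, z1fix.testBit i = decide (evalW z1w i = i) := by decide +kernel

theorem z2_noFix : ∀ i : Fin 24, evalW z2w i ≠ i := by decide +kernel

theorem z1fix_octad : z1fix < 2 ^ 24 ∧ enc z1fix = z1fix ∧ pc z1fix = 8 := by decide +kernel

theorem wordPerm_fix_iff (w : List ℕ) (p : GolayPt) :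
    wordPerm w p = p ↔ evalW w (idx p) = idx p := by
  rw [← evalW_spec]
  constructor
  · intro h; rw [h]
  · intro h; exact idx_injective h

theorem z1_fixed : (Finset.univ.filter fun p => wordPerm z1w p = p) = fs z1fix := by
  ext p
  rw [Finset.mem_filter, mem_fs, wordPerm_fix_iff]
  have := z1fix_spec ⟨idx p, idx_lt p⟩
  simp only at this
  rw [this]
  simp

theorem z1_fixed_mem_octads : (Finset.univ.filter fun p => wordPerm z1w p = p) ∈ octads := by
  rw [z1_fixed]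
  exact fs_mem_octads z1fix_octad.1 z1fix_octad.2.1 z1fix_octad.2.2

theorem z2_fixed (p : GolayPt) : wordPerm z2w p ≠ p := by
  rw [Ne, wordPerm_fix_iff]
  exact z2_noFix ⟨idx p, idx_lt p⟩

end Cfsg.Agent.Lib.Helper92
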