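import Cfsg.Agent.Lib.Helper92.GolayPerm

set_option autoImplicit false

namespace Cfsg.Agent.Lib.Helper92

open Cfsg Cfsg.Agent.Lib.Helper10 Cfsg.Agent.Lib.Helper95

/-- five-fold transitivity with explicit points. -/
theorem map5 (p0 p1 p2 p3 p4 q0 q1 q2 q3 q4 : GolayPt) (hp : [p0, p1, p2, p3, p4].Nodup)
    (hq : [q0, q1, q2, q3, q4].Nodup) :
    ∃ σ ∈ M24, σ p0 = q0 ∧ σ p1 = q1 ∧ σ p2 = q2 ∧ σ p3 = q3 ∧ σ p4 = q4 := by
  let x : Fin 5 ↪ GolayPt := ⟨[p0, p1, p2, p3, p4].get, List.nodup_iff_injective_get.mp hp⟩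
  let y : Fin 5 ↪ GolayPt := ⟨[q0, q1, q2, q3, q4].get, List.nodup_iff_injective_get.mp hq⟩
  obtain ⟨σ, hσ, h⟩ := five_trans x y
  exact ⟨σ, H_le_M24 hσ, h 0, h 1, h 2, h 3, h 4⟩

/-- fixing at most four points and moving a further point anywhere outside them. -/
theorem fix_move (F : Finset GolayPt) (hF : F.card ≤ 4) (p q : GolayPt) (hp : p ∉ F) (hq : q ∉ F) :
    ∃ σ ∈ M24, (∀ x ∈ F, σ x = x) ∧ σ p = q := by
  have hsub : F ⊆ (Finset.univ \ {p, q} : Finset GolayPt) := by
    intro x hx
    simp only [Finset.mem_sdiff, Finset.mem_univ, true_and, Finset.mem_insert,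
      Finset.mem_singleton]
    rintro (rfl | rfl) <;> contradiction
  have hcard : 4 ≤ (Finset.univ \ {p, q} : Finset GolayPt).card := by
    have h1 := Finset.card_sdiff_add_card_inter (Finset.univ : Finset GolayPt) {p, q}
    have h2 : ((Finset.univ : Finset GolayPt) ∩ {p, q}).card ≤ 2 := by
      rw [Finset.univ_inter]; exact Finset.card_le_two
    rw [Finset.card_univ, golayPt_card] at h1
    omega
  obtain ⟨F', hFF', hF't, hF'c⟩ := Finset.exists_subsuperset_card_eq hsub hF hcard
  let e := (F'.equivFinOfCardEq hF'c).symm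
  have hinj : ∀ i j : Fin 4, i ≠ j → (e i : GolayPt) ≠ e j := by
    intro i j hij h
    exact hij (e.injective (Subtype.ext h))
  have hmem : ∀ i, (e i : GolayPt) ∈ F' := fun i => (e i).2
  have hp' : p ∉ F' := by
    intro h; have := hF't h; simp at this
  have hq' : q ∉ F' := by
    intro h; have := hF't h; simp at this
  have hne_p : ∀ i, (e i : GolayPt) ≠ p := fun i h => hp' (h ▸ hmem i)
  have hne_q : ∀ i, (e i : GolayPt) ≠ q := fun i h => hq' (h ▸ hmem i)
  have h01 := hinj 0 1 (by decide)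
  have h02 := hinj 0 2 (by decide)
  have h03 := hinj 0 3 (by decide)
  have h12 := hinj 1 2 (by decide)
  have h13 := hinj 1 3 (by decide)
  have h23 := hinj 2 3 (by decide)
  obtain ⟨σ, hσ, h0, h1, h2, h3, h4⟩ := map5 (e 0) (e 1) (e 2) (e 3) p (e 0) (e 1) (e 2) (e 3) q
    (by simp [h01, h02, h03, h12, h13, h23, hne_p]) (by simp [h01, h02, h03, h12, h13, h23, hne_q])
  refine ⟨σ, hσ, ?_, h4⟩
  intro x hx
  have hx' := hFF' hx
  obtain ⟨i, hi⟩ : ∃ i, (e i : GolayPt) = x := ⟨e.symm ⟨x, hx'⟩, by simp⟩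
  subst hi
  fin_cases i
  · exact h0
  · exact h1
  · exact h2
  · exact h3


theorem two_trans (a b p q : GolayPt) (hab : a ≠ b) (hpq : p ≠ q) :
    ∃ σ ∈ M24, σ a = p ∧ σ b = q := by
  obtain ⟨σ1, h1, -, h1a⟩ := fix_move ∅ (by simp) a p (by simp) (by simp)
  have hne : σ1 b ≠ p := by
    rw [← h1a]
    exact fun h => hab (σ1.injective h).symm
  obtain ⟨σ2, h2, h2f, h2b⟩ := fix_move {p} (by simp) (σ1 b) q (by simpa using hne)
    (by simpa using hpq.symm)
  refine ⟨σ2 * σ1, M24.mul_mem h2 h1, ?_, ?_⟩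
  · show σ2 (σ1 a) = p
    rw [h1a]
    exact h2f p (by simp)
  · exact h2b

theorem permWord_single (σ : Equiv.Perm GolayPt) (a : GolayPt) :
    permWord σ (Pi.single a 1) = Pi.single (σ a) 1 := by
  funext p
  rw [permWord_apply, Pi.single_apply, Pi.single_apply]
  simp only [Equiv.symm_apply_eq]

theorem permWord_ones (σ : Equiv.Perm GolayPt) : permWord σ 1 = 1 := rfl

theorem permWord_of_fix (σ : Equiv.Perm GolayPt) (w : GolayPt → ZMod 2) (x : GolayPt)
    (hx : σ x = x) : permWord σ w x = w x := by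
  rw [permWord_apply]
  congr 1
  rw [Equiv.symm_apply_eq, hx]

theorem zadd_self (x : ZMod 2) : x + x = 0 := by
  revert x; decide

theorem wadd_self (w : GolayPt → ZMod 2) : w + w = 0 := by
  funext p; exact zadd_self _

/-- invariance of a subspace under the coordinate action of the group. -/
def InvSub (W : Submodule (ZMod 2) (GolayPt → ZMod 2)) : Prop :=
  ∀ σ ∈ M24, ∀ w ∈ W, permWord σ w ∈ W

theorem inv_golayCode : InvSub golayCode := fun _ hσ w hw => permWord_mem_of_mem_M24 hσ w hw

theorem InvSub.sup {W V : Submodule (ZMod 2) (GolayPt → ZMod 2)} (hW : InvSub W) (hV : InvSub V) :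
    InvSub (W ⊔ V) := by
  intro σ hσ w hw
  rw [Submodule.mem_sup] at hw ⊢
  obtain ⟨y, hy, z, hz, rfl⟩ := hw
  exact ⟨permWord σ y, hW σ hσ y hy, permWord σ z, hV σ hσ z hz, rfl⟩

theorem InvSub.inf {W V : Submodule (ZMod 2) (GolayPt → ZMod 2)} (hW : InvSub W) (hV : InvSub V) :
    InvSub (W ⊓ V) := by
  intro σ hσ w hw
  rw [Submodule.mem_inf] at hw ⊢
  exact ⟨hW σ hσ w hw.1, hV σ hσ w hw.2⟩

/-- an even word is a sum of pairs. -/
theorem even_mem_of_pairs (W : Submodule (ZMod 2) (GolayPt → ZMod 2))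
    (hpair : ∀ p q : GolayPt, p ≠ q → Pi.single p 1 + Pi.single q 1 ∈ W)
    (w : GolayPt → ZMod 2) (hw : ∑ p, w p = 0) : w ∈ W := by
  have key : w = ∑ p, w p • (Pi.single p (1 : ZMod 2) + Pi.single (none : GolayPt) 1) := by
    have h1 : ∑ p, w p • (Pi.single p (1 : ZMod 2) : GolayPt → ZMod 2) = w := by
      funext x
      rw [Finset.sum_apply]
      simp [Pi.single_apply]
    have h2 : ∑ p, w p • (Pi.single (none : GolayPt) (1 : ZMod 2) : GolayPt → ZMod 2) = 0 := by
      rw [← Finset.sum_smul, hw, zero_smul]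
    simp only [smul_add]
    rw [Finset.sum_add_distrib, h1, h2, add_zero]
  rw [key]
  apply Submodule.sum_mem
  intro p _
  apply Submodule.smul_mem
  by_cases hp : p = none
  · rw [hp, wadd_self]; exact W.zero_mem
  · exact hpair p none hp

/-- an invariant subspace containing one pair contains all even words. -/
theorem even_mem_of_pair (W : Submodule (ZMod 2) (GolayPt → ZMod 2)) (hW : InvSub W)
    (a b : GolayPt) (hab : a ≠ b) (h : Pi.single a 1 + Pi.single b 1 ∈ W)
    (w : GolayPt → ZMod 2) (hw : ∑ p, w p = 0) : w ∈ W := by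
  apply even_mem_of_pairs W _ w hw
  intro p q hpq
  obtain ⟨σ, hσ, h1, h2⟩ := two_trans a b p q hab hpq
  have := hW σ hσ _ h
  rwa [permWord_add, permWord_single, permWord_single, h1, h2] at this


theorem val_eq_ite (u : GolayPt → ZMod 2) (x : GolayPt) :
    u x = if x ∈ support₂ u then 1 else 0 := by
  by_cases hx : x ∈ support₂ u
  · rw [if_pos hx]
    rw [mem_support₂] at hx
    rcases zmod2_cases (u x) with h | h
    · exact absurd h hx
    · exact h
  · rw [if_neg hx]
    rw [mem_support₂] at hx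
    push Not at hx
    exact hx

/-- fixing the support apart from one point which leaves the support gives a pair. -/
theorem add_permWord_eq_pair (u : GolayPt → ZMod 2) (σ : Equiv.Perm GolayPt) (p q : GolayPt)
    (hfix : ∀ x ∈ support₂ u, x ≠ p → σ x = x) (hp : p ∈ support₂ u) (hq : q ∉ support₂ u)
    (hσ : σ p = q) : u + permWord σ u = Pi.single p 1 + Pi.single q 1 := by
  have hpq : p ≠ q := fun h => hq (h ▸ hp)
  funext x
  rw [Pi.add_apply, permWord_apply, Pi.add_apply, Pi.single_apply, Pi.single_apply]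
  obtain ⟨y, rfl⟩ : ∃ y, σ y = x := ⟨σ.symm x, σ.apply_symm_apply x⟩
  rw [Equiv.symm_apply_apply]
  by_cases hy : y ∈ support₂ u
  · by_cases hyp : y = p
    · subst hyp
      rw [hσ, val_eq_ite u y, val_eq_ite u q, if_pos hy, if_neg hq]
      simp [hpq.symm]
    · have h1 := hfix y hy hyp
      rw [h1, zadd_self]
      have hyq : y ≠ q := fun h => hq (h ▸ hy)
      simp [hyp, hyq]
  · rw [val_eq_ite u y, if_neg hy, add_zero]
    by_cases hx : σ y ∈ support₂ u
    · by_cases hxp : σ y = p
      · rw [hxp, val_eq_ite u p, if_pos hp]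
        simp [hpq]
      · have h1 := hfix (σ y) hx hxp
        have h2 : σ y = y := σ.injective h1
        rw [h2] at hx
        exact absurd hx hy
    · rw [val_eq_ite u (σ y), if_neg hx]
      have h1 : σ y ≠ p := fun h => hx (h ▸ hp)
      have h2 : σ y ≠ q := by
        intro h
        rw [← hσ] at h
        have h3 := σ.injective h
        subst h3
        exact hy hp
      simp [h1, h2]

/-- an invariant subspace with a nonzero word of weight at most four contains a pair. -/
theorem pair_of_light (W : Submodule (ZMod 2) (GolayPt → ZMod 2)) (hW : InvSub W)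
    (u : GolayPt → ZMod 2) (hu : u ∈ W) (hu0 : u ≠ 0) (h4 : (support₂ u).card ≤ 4) :
    ∃ a b : GolayPt, a ≠ b ∧ Pi.single a 1 + Pi.single b 1 ∈ W := by
  have hne : (support₂ u).Nonempty := by
    rw [Finset.nonempty_iff_ne_empty]
    intro h
    exact hu0 (support₂_eq_empty h)
  obtain ⟨p, hp⟩ := hne
  obtain ⟨q, hq⟩ : ∃ q, q ∉ support₂ u := by
    by_contra h
    push Not at h
    have h1 : support₂ u = Finset.univ := Finset.eq_univ_iff_forall.mpr h
    rw [h1, Finset.card_univ, golayPt_card] at h4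
    omega
  obtain ⟨σ, hσ, hfix, hpq⟩ := fix_move ((support₂ u).erase p) (by
      have := Finset.card_erase_of_mem hp
      omega) p q (by simp) (by
      intro h
      exact hq (Finset.mem_of_mem_erase h))
  refine ⟨p, q, fun h => hq (h ▸ hp), ?_⟩
  rw [← add_permWord_eq_pair u σ p q
    (fun x hx hxp => hfix x (Finset.mem_erase.mpr ⟨hxp, hx⟩)) hp hq hpq]
  exact W.add_mem hu (hW σ hσ u hu)

/-- every coset of the code has a word of weight at most four. -/
theorem exists_light (w : GolayPt → ZMod 2) :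
    ∃ u, u + w ∈ golayCode ∧ (support₂ u).card ≤ 4 := by
  have hcard : ∀ u : GolayPt → ZMod 2, (support₂ u).card = hammingNorm u := by
    intro u
    rw [support₂_eq_bsupp, ← hammingNorm_eq_card_bsupp]
  rcases g24_coset_dichotomy golayPt_card golayCode golayCode_finrank golayCode_hmin w with
    ⟨u, hu, -⟩ | ⟨A, hA, hA6, -, -, -⟩
  · obtain ⟨h1, h2⟩ := (hu u).mpr rfl
    refine ⟨u, ?_, by rw [hcard]; exact h2⟩
    rwa [sub_eq_add_zmod2] at h1
  · obtain ⟨u, huA⟩ : A.Nonempty := by
      rw [← Finset.card_pos, hA6]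
      norm_num
    obtain ⟨h1, h2⟩ := (hA u).mpr huA
    refine ⟨u, ?_, by rw [hcard]; exact h2⟩
    rwa [sub_eq_add_zmod2] at h1


/-! ### weight 16 to weight 8 -/

def w16Tabs : List (List ℕ) := [
  [0, 18, 6, 3, 2, 21, 1, 5, 16, 12, 7, 19, 8, 9, 17, 15, 13, 11, 4, 22, 10, 20, 14, 23],
  [0, 4, 1, 3, 6, 20, 18, 21, 13, 8, 5, 22, 16, 12, 11, 15, 9, 19, 2, 14, 7, 10, 17, 23],
  [15, 1, 19, 7, 4, 3, 22, 2, 6, 17, 13, 8, 20, 9, 10, 18, 16, 14, 12, 5, 0, 11, 21, 23],
  [23, 22, 11, 15, 17, 9, 19, 13, 20, 5, 16, 2, 21, 7, 18, 3, 10, 4, 14, 6, 8, 12, 1, 0],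
  [17, 5, 2, 1, 20, 0, 4, 15, 11, 6, 18, 7, 8, 16, 14, 12, 10, 3, 21, 9, 19, 13, 22, 23]]

def w16Words : List (List ℕ) := [[2], [2, 2], [0, 2, 3], [1], [3, 2, 0]]

theorem w16Tabs_spec : ∀ j : Fin 5, ∀ i : Fin 24,
    evalW (w16Words.getD j []) i = (w16Tabs.getD j []).getD i 0 := by decide +kernel

def w16OK (m : ℕ) : Bool :=
  pc m != 16 || w16Tabs.any (fun t => pc (m ^^^ pmT t m) == 8)

theorem w16_check : (List.range 4096).all (fun k => w16OK (enc k)) = true := by decide +kernel

/-- a code word of weight 16 is at distance 8 from one of its images. -/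
theorem exists_perm_of_w16 (w : GolayPt → ZMod 2) (hw : w ∈ golayCode)
    (h16 : (support₂ w).card = 16) :
    ∃ σ ∈ M24, (support₂ (w + permWord σ w)).card = 8 := by
  have h := forall_code_bool w16OK w16_check w hw
  unfold w16OK at h
  rw [card_support₂] at h16
  simp only [h16, bne_self_eq_false, Bool.false_or, List.any_eq_true, beq_iff_eq] at h
  obtain ⟨t, ht, hpc⟩ := h
  obtain ⟨j, hj, rfl⟩ := List.getElem_of_mem ht
  have hj' : j < 5 := hj
  have hspec := w16Tabs_spec ⟨j, hj'⟩
  simp only at hspec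
  rw [List.getD_eq_getElem _ _ hj] at hspec
  refine ⟨(wordPerm (w16Words.getD j []))⁻¹, wordPerm_inv_mem_M24 _, ?_⟩
  rw [card_support₂, wmask_add, wmask_permWord_inv _ _ hspec]
  exact hpc

theorem support₂_ones : support₂ (1 : GolayPt → ZMod 2) = Finset.univ := by
  ext p; simp [mem_support₂]

theorem eq_ones_of_card (w : GolayPt → ZMod 2) (h : (support₂ w).card = 24) : w = 1 := by
  have h1 : support₂ w = Finset.univ := by
    apply Finset.eq_univ_of_card
    rw [h, golayPt_card]
  funext p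
  rw [val_eq_ite w p, h1]
  simp

/-- the invariant subspaces of the code. -/
theorem inv_le_code (W : Submodule (ZMod 2) (GolayPt → ZMod 2)) (hW : InvSub W)
    (hle : W ≤ golayCode) :
    W = ⊥ ∨ W = Submodule.span (ZMod 2) {(1 : GolayPt → ZMod 2)} ∨ W = golayCode := by
  by_cases hex : ∃ w ∈ W, w ≠ 0 ∧ w ≠ 1
  · right; right
    have step1 : ∃ u ∈ W, (support₂ u).card = 8 ∨ (support₂ u).card = 16 := by
      obtain ⟨w, hwW, hw0, hw1⟩ := hex
      have hwt := weight_mem w (hle hwW)
      simp only [List.mem_cons, List.not_mem_nil, or_false] at hwt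
      rcases hwt with h | h | h | h | h
      · exact absurd (support₂_eq_empty (Finset.card_eq_zero.mp h)) hw0
      · exact ⟨w, hwW, Or.inl h⟩
      · obtain ⟨σ, hσ, hc⟩ := exists_perm_of_dodecad w (hle hwW) h
        exact ⟨w + permWord σ w, W.add_mem hwW (hW σ hσ w hwW), hc⟩
      · exact ⟨w, hwW, Or.inr h⟩
      · exact absurd (eq_ones_of_card w h) hw1
    have step2 : ∃ u ∈ W, (support₂ u).card = 8 := by
      obtain ⟨u, huW, h | h⟩ := step1
      · exact ⟨u, huW, h⟩
      · obtain ⟨σ, hσ, hc⟩ := exists_perm_of_w16 u (hle huW) h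
        exact ⟨u + permWord σ u, W.add_mem huW (hW σ hσ u huW), hc⟩
    obtain ⟨u, huW, hu8⟩ := step2
    have step3 : ∀ v ∈ golayCode, (support₂ v).card = 8 → v ∈ W := by
      intro v hv hv8
      obtain ⟨σ, hσ, rfl⟩ := octad_word_trans u v (hle huW) hv hu8 hv8
      exact hW σ hσ u huW
    apply le_antisymm hle
    have hspan := g24_span_octads golayPt_card golayCode golayCode_finrank golayCode_hmin
    calc golayCode = Submodule.span (ZMod 2)
          {w : GolayPt → ZMod 2 | w ∈ golayCode ∧ hammingNorm w = 8} := hspan.symm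
      _ ≤ W := by
        rw [Submodule.span_le]
        rintro v ⟨hv, h8⟩
        apply step3 v hv
        rw [support₂_eq_bsupp, ← hammingNorm_eq_card_bsupp]
        exact h8
  · push Not at hex
    by_cases h1 : (1 : GolayPt → ZMod 2) ∈ W
    · right; left
      apply le_antisymm
      · intro w hw
        by_cases h0 : w = 0
        · rw [h0]; exact Submodule.zero_mem _
        · rw [hex w hw h0]
          exact Submodule.subset_span rfl
      · rw [Submodule.span_le]
        intro w hw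
        rw [Set.mem_singleton_iff] at hw
        rw [hw]
        exact h1
    · left
      rw [Submodule.eq_bot_iff]
      intro w hw
      by_contra h0
      exact h1 (hex w hw h0 ▸ hw)

end Cfsg.Agent.Lib.Helper92
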