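import Cfsg.Agent.Lib.Helper92.M24Seven
import Cfsg.Prelude.Def_SporadicCombinatorics

set_option autoImplicit false

namespace Cfsg.Agent.Lib.Helper92

open Cfsg Cfsg.Agent.Lib.Helper10 Cfsg.Agent.Lib.Helper95
open scoped Pointwise
open Classical

/-- the elements of the group normalising the standard subgroup of order 7. -/
noncomputable def normSeven : Finset (Equiv.Perm GolayPt) :=
  (nKeys.map (fun k => wordPerm (nCand k))).toFinset

/-- the keys of the centralising elements. -/
def cKeys : List (ℕ × ℕ × ℕ × ℕ) := nKeys.filter (fun k => k.1 == 1)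

/-- the elements of the group centralising the standard element of order 7. -/
noncomputable def centSeven : Finset (Equiv.Perm GolayPt) :=
  (cKeys.map (fun k => wordPerm (nCand k))).toFinset

theorem nKeys_map_nodup : (nKeys.map (fun k => wordPerm (nCand k))).Nodup := by
  apply nodup_map_wordPerm
  have h1 : nKeys.map (fun k => tabW (nCand k)) = nKeys.map nCandT := by
    apply List.map_congr_left
    intro k hk
    exact tabW_nCand_of_mem hk
  rw [h1]
  exact nKeys_nodup

theorem card_normSeven : normSeven.card = 126 := by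
  unfold normSeven
  rw [List.toFinset_card_of_nodup nKeys_map_nodup]
  simp [nKeys]

theorem cKeys_length : cKeys.length = 42 := by decide +kernel

theorem card_centSeven : centSeven.card = 42 := by
  unfold centSeven
  rw [List.toFinset_card_of_nodup, List.length_map, cKeys_length]
  exact List.Nodup.sublist (List.Sublist.map _ List.filter_sublist) nKeys_map_nodup

theorem mem_cKeys (k : ℕ × ℕ × ℕ × ℕ) : k ∈ cKeys ↔ k ∈ nKeys ∧ k.1 = 1 := by
  unfold cKeys
  rw [List.mem_filter]
  simp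

theorem mem_normSeven (n : Equiv.Perm GolayPt) :
    n ∈ normSeven ↔ n ∈ M24 ∧ ∃ j, 1 ≤ j ∧ j < 7 ∧ n * s0 = s0 ^ j * n := by
  unfold normSeven
  rw [List.mem_toFinset, List.mem_map]
  constructor
  · rintro ⟨k, hk, rfl⟩
    obtain ⟨h1, -, -, -, h5, -⟩ := nKeys_ok k hk
    refine ⟨wordPerm_mem_M24 _, k.1, ?_, h1, nKeys_rel hk⟩
    unfold nValid at h5
    simp only [Bool.and_eq_true, decide_eq_true_eq] at h5
    exact h5.1.1
  · rintro ⟨hn, j, hj1, hj7, hrel⟩
    obtain ⟨k, hk, -, hnk⟩ := norm_mem n hn j hj1 hj7 hrel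
    exact ⟨k, hk, hnk.symm⟩

theorem mem_centSeven (c : Equiv.Perm GolayPt) :
    c ∈ centSeven ↔ c ∈ M24 ∧ c * s0 = s0 * c := by
  unfold centSeven
  rw [List.mem_toFinset, List.mem_map]
  constructor
  · rintro ⟨k, hk, rfl⟩
    rw [mem_cKeys] at hk
    have := nKeys_rel hk.1
    rw [hk.2, pow_one] at this
    exact ⟨wordPerm_mem_M24 _, this⟩
  · rintro ⟨hc, hrel⟩
    obtain ⟨k, hk, hk1, hck⟩ := norm_mem c hc 1 le_rfl (by norm_num) (by rw [pow_one]; exact hrel)
    exact ⟨k, (mem_cKeys k).mpr ⟨hk, hk1⟩, hck.symm⟩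

/-! ### the invariant trio -/

def trioMasks : List ℕ := [1584464, 6656640, 8536111]

/-- the trio left invariant by the normaliser. -/
noncomputable def trio7 : Finset (Finset GolayPt) := (trioMasks.map fs).toFinset

theorem mem_trio7 (o : Finset GolayPt) : o ∈ trio7 ↔ ∃ m ∈ trioMasks, fs m = o := by
  unfold trio7
  rw [List.mem_toFinset, List.mem_map]

theorem trioMasks_facts : (∀ a ∈ trioMasks, a < 2 ^ 24 ∧ enc a = a ∧ pc a = 8) ∧
    ∀ a ∈ trioMasks, ∀ b ∈ trioMasks, a ≠ b → a &&& b = 0 := by decide +kernel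

theorem fs_zero : fs 0 = ∅ := by
  ext p
  simp [mem_fs]

theorem trio7_mem : trio7 ∈ trios := by
  refine ⟨?_, ?_, ?_⟩
  · unfold trio7
    rw [List.toFinset_card_of_nodup]
    · simp [trioMasks]
    · apply List.Nodup.map_on
      · intro a ha b hb h
        exact fs_injOn (trioMasks_facts.1 a ha).1 (trioMasks_facts.1 b hb).1 h
      · decide
  · intro o ho
    obtain ⟨m, hm, rfl⟩ := (mem_trio7 o).mp ho
    obtain ⟨h1, h2, h3⟩ := trioMasks_facts.1 m hm
    exact fs_mem_octads h1 h2 h3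
  · intro o ho o' ho' hne
    obtain ⟨a, ha, rfl⟩ := (mem_trio7 o).mp ho
    obtain ⟨b, hb, rfl⟩ := (mem_trio7 o').mp ho'
    have hab : a ≠ b := fun h => hne (by rw [h])
    rw [Finset.disjoint_iff_inter_eq_empty, ← fs_inter, trioMasks_facts.2 a ha b hb hab, fs_zero]

theorem trio_check : ∀ k ∈ nKeys, ∀ m ∈ trioMasks, pmT (nCandT k) m ∈ trioMasks := by
  decide +kernel

theorem normSeven_trio (n : Equiv.Perm GolayPt) (hn : n ∈ normSeven) : n • trio7 = trio7 := by
  unfold normSeven at hn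
  rw [List.mem_toFinset, List.mem_map] at hn
  obtain ⟨k, hk, rfl⟩ := hn
  have hsub : (wordPerm (nCand k))⁻¹ • trio7 ⊆ trio7 := by
    intro o ho
    obtain ⟨o', ho', rfl⟩ := Finset.mem_smul_finset.mp ho
    obtain ⟨m, hm, rfl⟩ := (mem_trio7 o').mp ho'
    rw [smul_fs_inv (nCand k) (nCandT k) (fun i => by
      rw [← tabW_nCand_of_mem hk, tabW_getD _ i.2]) m]
    exact (mem_trio7 _).mpr ⟨_, trio_check k hk m hm, rfl⟩
  have heq : (wordPerm (nCand k))⁻¹ • trio7 = trio7 :=
    Finset.eq_of_subset_of_card_le hsub (by rw [Finset.card_smul_finset])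
  calc wordPerm (nCand k) • trio7 = wordPerm (nCand k) • ((wordPerm (nCand k))⁻¹ • trio7) := by
        rw [heq]
    _ = trio7 := by rw [smul_smul, mul_inv_cancel, one_smul]

/-! ### the centraliser is not abelian -/

theorem noncomm_check : compT (nCandT (1, 0, 18, 14)) (nCandT (1, 4, 15, 14)) ≠
    compT (nCandT (1, 4, 15, 14)) (nCandT (1, 0, 18, 14)) := by decide +kernel

theorem noncomm_keys : (1, 0, 18, 14) ∈ cKeys ∧ (1, 4, 15, 14) ∈ cKeys := by decide +kernel

theorem centSeven_noncomm : ∃ x ∈ centSeven, ∃ y ∈ centSeven, x * y ≠ y * x := by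
  obtain ⟨ha, hb⟩ := noncomm_keys
  refine ⟨wordPerm (nCand (1, 0, 18, 14)), ?_, wordPerm (nCand (1, 4, 15, 14)), ?_, ?_⟩
  · unfold centSeven
    rw [List.mem_toFinset, List.mem_map]
    exact ⟨_, ha, rfl⟩
  · unfold centSeven
    rw [List.mem_toFinset, List.mem_map]
    exact ⟨_, hb, rfl⟩
  · intro h
    rw [← wordPerm_append, ← wordPerm_append] at h
    have h1 := tabW_eq_of_wordPerm h
    rw [tabW_append, tabW_append, tabW_nCand_of_mem ((mem_cKeys _).mp ha).1,
      tabW_nCand_of_mem ((mem_cKeys _).mp hb).1] at h1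
    exact noncomm_check h1

end Cfsg.Agent.Lib.Helper92
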