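import Mathlib
import Cfsg.Prelude.Def_LieExceptional

/-!
# K-StO-A5 (keystone 254725, architect helper48, S2547): a (B,N)-pair restricts to a normal subgroup `H`
with `H (B ∩ N) = G`.
-/

set_option autoImplicit false
set_option linter.unusedSectionVars false
set_option linter.unusedVariables false

namespace Cfsg.Agent.Lib.Helper92.StO

open Cfsg

section
variable {G : Type*} [Group G] (P : Cfsg.BNPair G) (H : Subgroup G) [H.Normal]
  (hHT : H ⊔ (P.B ⊓ P.N) = ⊤)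

include hHT in
theorem decomp (g : G) : ∃ h ∈ H, ∃ t ∈ P.B ⊓ P.N, g = h * t := by
  have h1 : g ∈ ((H ⊔ (P.B ⊓ P.N) : Subgroup G) : Set G) := by rw [hHT]; trivial
  rw [Subgroup.normal_mul, Set.mem_mul] at h1
  obtain ⟨h, hh, t, ht, e⟩ := h1
  exact ⟨h, hh, t, ht, e.symm⟩

theorem T_conj (n : G) (hn : n ∈ P.N) (t : G) (ht : t ∈ P.B ⊓ P.N) : n * t * n⁻¹ ∈ P.B ⊓ P.N :=
  ⟨P.conj_mem n hn t ht, P.N.mul_mem (P.N.mul_mem hn ht.2) (P.N.inv_mem hn)⟩

theorem T_conj' (n : G) (hn : n ∈ P.N) (t : G) (ht : t ∈ P.B ⊓ P.N) : n⁻¹ * t * n ∈ P.B ⊓ P.N := by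
  have := T_conj P n⁻¹ (P.N.inv_mem hn) t ht
  rwa [inv_inv] at this

include hHT in
theorem exists_tau (s : G) : ∃ t ∈ P.B ⊓ P.N, s * t ∈ H := by
  obtain ⟨h, hh, t, ht, e⟩ := decomp P H hHT s
  refine ⟨t⁻¹, (P.B ⊓ P.N).inv_mem ht, ?_⟩
  rw [e, mul_inv_cancel_right]; exact hh

/-- the correcting elements of `B ∩ N` -/
noncomputable def tau (s : G) : G := by
  classical
  exact if h : ∃ t ∈ P.B ⊓ P.N, s * t ∈ H then Classical.choose h else 1

include hHT in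
theorem tau_spec (s : G) : tau P H s ∈ P.B ⊓ P.N ∧ s * tau P H s ∈ H := by
  classical
  unfold tau
  rw [dif_pos (exists_tau P H hHT s)]
  exact Classical.choose_spec (exists_tau P H hHT s)

/-- the new distinguished representatives -/
def Sset' : Set ↥H := {x | ∃ s ∈ P.S, (x : G) = s * tau P H s}

/-- `B ∩ N` normalises `(B ∩ H) (N ∩ H)` -/
theorem conj_mem_sup (t : G) (ht : t ∈ P.B ⊓ P.N) (k : ↥H)
    (hk : k ∈ P.B.subgroupOf H ⊔ P.N.subgroupOf H) :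
    MulAut.conjNormal t k ∈ P.B.subgroupOf H ⊔ P.N.subgroupOf H := by
  have hle : P.B.subgroupOf H ⊔ P.N.subgroupOf H ≤
      (P.B.subgroupOf H ⊔ P.N.subgroupOf H).comap (MulAut.conjNormal t : MulAut H).toMonoidHom := by
    rw [sup_le_iff]
    constructor
    · intro b hb
      rw [Subgroup.mem_comap]
      apply Subgroup.mem_sup_left
      rw [Subgroup.mem_subgroupOf] at hb ⊢
      show ((MulAut.conjNormal t b : H) : G) ∈ P.B
      rw [MulAut.conjNormal_apply]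
      exact P.B.mul_mem (P.B.mul_mem ht.1 hb) (P.B.inv_mem ht.1)
    · intro b hb
      rw [Subgroup.mem_comap]
      apply Subgroup.mem_sup_right
      rw [Subgroup.mem_subgroupOf] at hb ⊢
      show ((MulAut.conjNormal t b : H) : G) ∈ P.N
      rw [MulAut.conjNormal_apply]
      exact P.N.mul_mem (P.N.mul_mem ht.2 hb) (P.N.inv_mem ht.2)
  exact hle hk

include hHT in
theorem sup_claim (g : G) : ∃ k ∈ P.B.subgroupOf H ⊔ P.N.subgroupOf H, ∃ t ∈ P.B ⊓ P.N,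
    g = (k : G) * t := by
  have hg : g ∈ Subgroup.closure ((P.B : Set G) ∪ P.N) := by
    rw [← Subgroup.sup_eq_closure, P.sup_eq_top]; trivial
  induction hg using Subgroup.closure_induction with
  | mem x hx =>
    obtain ⟨h, hh, t, ht, e⟩ := decomp P H hHT x
    have e2 : h = x * t⁻¹ := by rw [e, mul_inv_cancel_right]
    rcases hx with hx | hx
    · refine ⟨⟨h, hh⟩, Subgroup.mem_sup_left ?_, t, ht, e⟩
      rw [Subgroup.mem_subgroupOf]
      show h ∈ P.B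
      rw [e2]; exact P.B.mul_mem hx (P.B.inv_mem ht.1)
    · refine ⟨⟨h, hh⟩, Subgroup.mem_sup_right ?_, t, ht, e⟩
      rw [Subgroup.mem_subgroupOf]
      show h ∈ P.N
      rw [e2]; exact P.N.mul_mem hx (P.N.inv_mem ht.2)
  | one => exact ⟨1, Subgroup.one_mem _, 1, Subgroup.one_mem _, by simp⟩
  | mul x y _ _ ihx ihy =>
    obtain ⟨k, hk, t, ht, rfl⟩ := ihx
    obtain ⟨k', hk', t', ht', rfl⟩ := ihy
    refine ⟨k * MulAut.conjNormal t k', Subgroup.mul_mem _ hk (conj_mem_sup P H t ht k' hk'), t * t',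
      Subgroup.mul_mem _ ht ht', ?_⟩
    rw [Subgroup.coe_mul, MulAut.conjNormal_apply]; group
  | inv x _ ih =>
    obtain ⟨k, hk, t, ht, rfl⟩ := ih
    refine ⟨MulAut.conjNormal t⁻¹ k⁻¹, conj_mem_sup P H t⁻¹ (Subgroup.inv_mem _ ht) k⁻¹
      (Subgroup.inv_mem _ hk), t⁻¹, Subgroup.inv_mem _ ht, ?_⟩
    rw [MulAut.conjNormal_apply, Subgroup.coe_inv]; group

include hHT in
theorem sup_subgroupOf_eq_top : P.B.subgroupOf H ⊔ P.N.subgroupOf H = ⊤ := by
  rw [eq_top_iff]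
  intro x _
  obtain ⟨k, hk, t, ht, e⟩ := sup_claim P H hHT (x : G)
  have htH : t ∈ H := by
    have : t = (k : G)⁻¹ * x := by rw [e, inv_mul_cancel_left]
    rw [this]; exact H.mul_mem (H.inv_mem k.2) x.2
  have e3 : x = k * ⟨t, htH⟩ := Subtype.ext e
  rw [e3]
  exact Subgroup.mul_mem _ hk (Subgroup.mem_sup_left (by rw [Subgroup.mem_subgroupOf]; exact ht.1))

include hHT in
theorem Sset'_subset : Sset' P H ⊆ (P.N.subgroupOf H : Set ↥H) := by
  rintro x ⟨s, hs, e⟩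
  show x ∈ P.N.subgroupOf H
  rw [Subgroup.mem_subgroupOf, e]
  exact P.N.mul_mem (P.subset hs) (tau_spec P H hHT s).1.2

include hHT in
theorem closure_le_N : Subgroup.closure (Sset' P H) ≤ P.N.subgroupOf H :=
  (Subgroup.closure_le _).2 (Sset'_subset P H hHT)

include hHT in
theorem coe_mem_N (k : ↥H) (hk : k ∈ Subgroup.closure (Sset' P H)) : (k : G) ∈ P.N := by
  have := closure_le_N P H hHT hk
  rwa [Subgroup.mem_subgroupOf] at this

include hHT in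
theorem closure_claim_aux (n : G)
    (hn : n ∈ Subgroup.closure (P.S ∪ ((P.B ⊓ P.N : Subgroup G) : Set G))) :
    ∃ k ∈ Subgroup.closure (Sset' P H), ∃ t ∈ P.B ⊓ P.N, n = (k : G) * t := by
  induction hn using Subgroup.closure_induction with
  | mem x hx =>
    rcases hx with hx | hx
    · have hs := tau_spec P H hHT x
      refine ⟨⟨x * tau P H x, hs.2⟩, Subgroup.subset_closure ⟨x, hx, rfl⟩, (tau P H x)⁻¹,
        Subgroup.inv_mem _ hs.1, ?_⟩
      simp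
    · exact ⟨1, Subgroup.one_mem _, x, hx, by simp⟩
  | one => exact ⟨1, Subgroup.one_mem _, 1, Subgroup.one_mem _, by simp⟩
  | mul x y _ _ ihx ihy =>
    obtain ⟨k, hk, t, ht, rfl⟩ := ihx
    obtain ⟨k', hk', t', ht', rfl⟩ := ihy
    have hk'N := coe_mem_N P H hHT k' hk'
    refine ⟨k * k', Subgroup.mul_mem _ hk hk', ((k' : G)⁻¹ * t * k') * t',
      Subgroup.mul_mem _ (T_conj' P _ hk'N t ht) ht', ?_⟩
    rw [Subgroup.coe_mul]; group
  | inv x _ ih =>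
    obtain ⟨k, hk, t, ht, rfl⟩ := ih
    have hkN := coe_mem_N P H hHT k hk
    refine ⟨k⁻¹, Subgroup.inv_mem _ hk, (k : G) * t⁻¹ * (k : G)⁻¹,
      T_conj P _ hkN _ (Subgroup.inv_mem _ ht), ?_⟩
    rw [Subgroup.coe_inv]; group

include hHT in
theorem closure_claim (n : G) (hn : n ∈ P.N) :
    ∃ k ∈ Subgroup.closure (Sset' P H), ∃ t ∈ P.B ⊓ P.N, n = (k : G) * t := by
  apply closure_claim_aux P H hHT
  rw [Subgroup.closure_union, Subgroup.closure_eq, P.closure_sup]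
  exact hn

include hHT in
theorem closure_sup' :
    Subgroup.closure (Sset' P H) ⊔ (P.B.subgroupOf H ⊓ P.N.subgroupOf H) = P.N.subgroupOf H := by
  apply le_antisymm
  · exact sup_le (closure_le_N P H hHT) inf_le_right
  · intro x hx
    rw [Subgroup.mem_subgroupOf] at hx
    obtain ⟨k, hk, t, ht, e⟩ := closure_claim P H hHT (x : G) hx
    have htH : t ∈ H := by
      have : t = (k : G)⁻¹ * x := by rw [e, inv_mul_cancel_left]
      rw [this]; exact H.mul_mem (H.inv_mem k.2) x.2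
    have e3 : x = k * ⟨t, htH⟩ := Subtype.ext e
    rw [e3]
    refine Subgroup.mul_mem _ (Subgroup.mem_sup_left hk) (Subgroup.mem_sup_right ⟨?_, ?_⟩)
    · show (⟨t, htH⟩ : ↥H) ∈ P.B.subgroupOf H
      rw [Subgroup.mem_subgroupOf]; exact ht.1
    · show (⟨t, htH⟩ : ↥H) ∈ P.N.subgroupOf H
      rw [Subgroup.mem_subgroupOf]; exact ht.2

include hHT in
theorem sq_mem' (x : ↥H) (hx : x ∈ Sset' P H) : x * x ∈ P.B.subgroupOf H := by
  obtain ⟨s, hs, e⟩ := hx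
  rw [Subgroup.mem_subgroupOf, Subgroup.coe_mul, e]
  have hτ := (tau_spec P H hHT s).1
  have e2 : s * tau P H s * (s * tau P H s) = (s * s) * (s⁻¹ * tau P H s * s) * tau P H s := by group
  rw [e2]
  exact P.B.mul_mem (P.B.mul_mem (P.sq_mem s hs) (T_conj' P s (P.subset hs) _ hτ).1) hτ.1

include hHT in
theorem inj' (x : ↥H) (hx : x ∈ Sset' P H) (y : ↥H) (hy : y ∈ Sset' P H)
    (h : x⁻¹ * y ∈ P.B.subgroupOf H) : x = y := by
  obtain ⟨s, hs, e⟩ := hx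
  obtain ⟨s', hs', e'⟩ := hy
  rw [Subgroup.mem_subgroupOf, Subgroup.coe_mul, Subgroup.coe_inv, e, e'] at h
  have hτ := (tau_spec P H hHT s).1
  have hτ' := (tau_spec P H hHT s').1
  have e2 : s⁻¹ * s' = tau P H s * ((s * tau P H s)⁻¹ * (s' * tau P H s')) * (tau P H s')⁻¹ := by group
  have h2 : s⁻¹ * s' ∈ P.B := by
    rw [e2]
    exact P.B.mul_mem (P.B.mul_mem hτ.1 h) (P.B.inv_mem hτ'.1)
  have := P.inj s hs s' hs' h2
  subst this
  exact Subtype.ext (e.trans e'.symm)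

theorem conj_mem' (n : ↥H) (hn : n ∈ P.N.subgroupOf H) (t : ↥H)
    (ht : t ∈ P.B.subgroupOf H ⊓ P.N.subgroupOf H) : n * t * n⁻¹ ∈ P.B.subgroupOf H := by
  rw [Subgroup.mem_subgroupOf] at hn ⊢
  rw [Subgroup.mem_inf, Subgroup.mem_subgroupOf, Subgroup.mem_subgroupOf] at ht
  rw [Subgroup.coe_mul, Subgroup.coe_mul, Subgroup.coe_inv]
  exact P.conj_mem _ hn _ ht

include hHT in
theorem mul_mem_union' (x : ↥H) (hx : x ∈ Sset' P H) (n : ↥H) (hn : n ∈ P.N.subgroupOf H) (b : ↥H)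
    (hb : b ∈ P.B.subgroupOf H) :
    x * b * n ∈ DoubleCoset.doubleCoset (x * n) ((P.B.subgroupOf H : Subgroup ↥H) : Set ↥H)
        (P.B.subgroupOf H : Subgroup ↥H) ∪
      DoubleCoset.doubleCoset n ((P.B.subgroupOf H : Subgroup ↥H) : Set ↥H)
        (P.B.subgroupOf H : Subgroup ↥H) := by
  obtain ⟨s, hs, e⟩ := hx
  rw [Subgroup.mem_subgroupOf] at hn hb
  have hτ := (tau_spec P H hHT s).1
  have hxN : (x : G) ∈ P.N := by rw [e]; exact P.N.mul_mem (P.subset hs) hτ.2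
  have key := P.mul_mem_union s hs (n : G) hn (tau P H s * b) (P.B.mul_mem hτ.1 hb)
  have exb : ((x * b * n : ↥H) : G) = s * (tau P H s * b) * n := by
    rw [Subgroup.coe_mul, Subgroup.coe_mul, e]; group
  rcases key with key | key
  · left
    obtain ⟨b₁, hb₁, b₂, hb₂, e1⟩ := DoubleCoset.mem_doubleCoset.mp key
    obtain ⟨h₁, hh₁, u₁, hu₁, e2⟩ := decomp P H hHT b₁
    have hh₁B : h₁ ∈ P.B := by
      have : h₁ = b₁ * u₁⁻¹ := by rw [e2, mul_inv_cancel_right]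
      rw [this]; exact P.B.mul_mem hb₁ (P.B.inv_mem hu₁.1)
    have hxnN : (x : G) * n ∈ P.N := P.N.mul_mem hxN hn
    have hu : (n : G)⁻¹ * (tau P H s)⁻¹ * n ∈ P.B ⊓ P.N :=
      T_conj' P _ hn _ (Subgroup.inv_mem _ hτ)
    have hu₁' : ((x : G) * n)⁻¹ * u₁ * ((x : G) * n) ∈ P.B ⊓ P.N := T_conj' P _ hxnN _ hu₁
    set c₂ : G := (((x : G) * n)⁻¹ * u₁ * ((x : G) * n)) * ((n : G)⁻¹ * (tau P H s)⁻¹ * n) * b₂
      with hc₂
    have hc₂B : c₂ ∈ P.B := P.B.mul_mem (P.B.mul_mem hu₁'.1 hu.1) hb₂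
    have eq1 : ((x * b * n : ↥H) : G) = h₁ * ((x : G) * n) * c₂ := by
      rw [exb, e1, e2, hc₂, e]; group
    have hc₂H : c₂ ∈ H := by
      have : c₂ = ((x : G) * n)⁻¹ * (h₁⁻¹ * ((x * b * n : ↥H) : G)) := by rw [eq1]; group
      rw [this]
      exact H.mul_mem (H.inv_mem (H.mul_mem x.2 n.2)) (H.mul_mem (H.inv_mem hh₁) (x * b * n).2)
    refine DoubleCoset.mem_doubleCoset.mpr ⟨⟨h₁, hh₁⟩, ?_, ⟨c₂, hc₂H⟩, ?_, ?_⟩
    · show (⟨h₁, hh₁⟩ : ↥H) ∈ P.B.subgroupOf H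
      rw [Subgroup.mem_subgroupOf]; exact hh₁B
    · show (⟨c₂, hc₂H⟩ : ↥H) ∈ P.B.subgroupOf H
      rw [Subgroup.mem_subgroupOf]; exact hc₂B
    · exact Subtype.ext eq1
  · right
    obtain ⟨b₁, hb₁, b₂, hb₂, e1⟩ := DoubleCoset.mem_doubleCoset.mp key
    obtain ⟨h₁, hh₁, u₁, hu₁, e2⟩ := decomp P H hHT b₁
    have hh₁B : h₁ ∈ P.B := by
      have : h₁ = b₁ * u₁⁻¹ := by rw [e2, mul_inv_cancel_right]
      rw [this]; exact P.B.mul_mem hb₁ (P.B.inv_mem hu₁.1)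
    have hu₁' : (n : G)⁻¹ * u₁ * n ∈ P.B ⊓ P.N := T_conj' P _ hn _ hu₁
    set c₂ : G := ((n : G)⁻¹ * u₁ * n) * b₂ with hc₂
    have hc₂B : c₂ ∈ P.B := P.B.mul_mem hu₁'.1 hb₂
    have eq1 : ((x * b * n : ↥H) : G) = h₁ * (n : G) * c₂ := by
      rw [exb, e1, e2, hc₂]; group
    have hc₂H : c₂ ∈ H := by
      have : c₂ = (n : G)⁻¹ * (h₁⁻¹ * ((x * b * n : ↥H) : G)) := by rw [eq1]; group
      rw [this]
      exact H.mul_mem (H.inv_mem n.2) (H.mul_mem (H.inv_mem hh₁) (x * b * n).2)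
    refine DoubleCoset.mem_doubleCoset.mpr ⟨⟨h₁, hh₁⟩, ?_, ⟨c₂, hc₂H⟩, ?_, ?_⟩
    · show (⟨h₁, hh₁⟩ : ↥H) ∈ P.B.subgroupOf H
      rw [Subgroup.mem_subgroupOf]; exact hh₁B
    · show (⟨c₂, hc₂H⟩ : ↥H) ∈ P.B.subgroupOf H
      rw [Subgroup.mem_subgroupOf]; exact hc₂B
    · exact Subtype.ext eq1

include hHT in
theorem conj_ne' [Finite G] (x : ↥H) (hx : x ∈ Sset' P H) :
    (fun b : ↥H => x * b * x) '' ((P.B.subgroupOf H : Subgroup ↥H) : Set ↥H) ≠
      ((P.B.subgroupOf H : Subgroup ↥H) : Set ↥H) := by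
  intro heq
  obtain ⟨s, hs, e⟩ := hx
  have hτ := (tau_spec P H hHT s).1
  have hxN : (x : G) ∈ P.N := by rw [e]; exact P.N.mul_mem (P.subset hs) hτ.2
  have hsx : s = (x : G) * (tau P H s)⁻¹ := by rw [e, mul_inv_cancel_right]
  have hsub : (fun b : G => s * b * s) '' (P.B : Set G) ⊆ (P.B : Set G) := by
    rintro _ ⟨b, hb, rfl⟩
    obtain ⟨h, hh, u, hu, e2⟩ := decomp P H hHT b
    have hhB : h ∈ P.B := by
      have : h = b * u⁻¹ := by rw [e2, mul_inv_cancel_right]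
      rw [this]; exact P.B.mul_mem hb (P.B.inv_mem hu.1)
    set τ := tau P H s with hτd
    have hh'H : τ⁻¹ * h * τ ∈ H := by
      have := Subgroup.Normal.conj_mem (inferInstance : H.Normal) h hh τ⁻¹
      rwa [inv_inv] at this
    have hh'B : τ⁻¹ * h * τ ∈ P.B := P.B.mul_mem (P.B.mul_mem (P.B.inv_mem hτ.1) hhB) hτ.1
    have hmem : x * ⟨τ⁻¹ * h * τ, hh'H⟩ * x ∈ ((P.B.subgroupOf H : Subgroup ↥H) : Set ↥H) := by
      rw [← heq]
      refine ⟨⟨τ⁻¹ * h * τ, hh'H⟩, ?_, rfl⟩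
      show (⟨τ⁻¹ * h * τ, hh'H⟩ : ↥H) ∈ P.B.subgroupOf H
      rw [Subgroup.mem_subgroupOf]; exact hh'B
    have hmem' : (x : G) * (τ⁻¹ * h * τ) * x ∈ P.B := by
      have := hmem
      rw [SetLike.mem_coe, Subgroup.mem_subgroupOf] at this
      simpa [Subgroup.coe_mul] using this
    have hconj : (x : G)⁻¹ * (τ⁻¹ * u) * x ∈ P.B ⊓ P.N :=
      T_conj' P _ hxN _ (Subgroup.mul_mem _ (Subgroup.inv_mem _ hτ) hu)
    have e3 : s * b * s = ((x : G) * (τ⁻¹ * h * τ) * x) * ((x : G)⁻¹ * (τ⁻¹ * u) * x) * τ⁻¹ := by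
      rw [e2]
      conv_lhs => rw [hsx]
      group
    show s * b * s ∈ P.B
    rw [e3]
    exact P.B.mul_mem (P.B.mul_mem hmem' hconj.1) (P.B.inv_mem hτ.1)
  have hinj : Function.Injective (fun b : G => s * b * s) := by
    intro a b hab
    exact mul_left_cancel (mul_right_cancel hab)
  have hfin : (P.B : Set G).Finite := Set.toFinite _
  have heq2 : (fun b : G => s * b * s) '' (P.B : Set G) = (P.B : Set G) := by
    apply Set.eq_of_subset_of_ncard_le hsub _ hfin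
    rw [Set.ncard_image_of_injective _ hinj]
  exact P.conj_ne s hs heq2

end

/-- LEAF A5 (254725) -/
theorem exists_bnPair_subgroupOf {G : Type*} [Group G] [Finite G] (P : Cfsg.BNPair G)
    (H : Subgroup G) [H.Normal] (hHT : H ⊔ (P.B ⊓ P.N) = ⊤) :
    ∃ P' : Cfsg.BNPair ↥H, P'.B = P.B.subgroupOf H ∧ P'.N = P.N.subgroupOf H :=
  ⟨{ B := P.B.subgroupOf H
     N := P.N.subgroupOf H
     S := Sset' P H
     sup_eq_top := sup_subgroupOf_eq_top P H hHT
     conj_mem := conj_mem' P H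
     subset := Sset'_subset P H hHT
     sq_mem := sq_mem' P H hHT
     inj := inj' P H hHT
     closure_sup := closure_sup' P H hHT
     mul_mem_union := mul_mem_union' P H hHT
     conj_ne := conj_ne' P H hHT }, rfl, rfl⟩

end Cfsg.Agent.Lib.Helper92.StO
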