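import Cfsg.Agent.Lib.Helper49.StOpDefs
import Cfsg.Agent.Lib.Helper59.StOpR0a

/-!
# K-StOp-C4 (keystone 254819, architect helper49, S2548): the longest element lies in `N`

`c4R π`: the permutation matrix of `π` is the matrix of an element of `closure Sset`.
The realizable permutations are closed under products; they contain `σ ⊕ σ` for every permutation
`σ` of `Fin m` (adjacent transpositions generate), all `crossE i j` (conjugates of the last one), hence
all double flips `c4D i j = swapE i j * crossE i j`, hence the flip of every set of pairs of even size.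
-/

set_option autoImplicit false
set_option linter.unusedSectionVars false
set_option linter.unusedVariables false

namespace Cfsg.Agent.Lib.Helper92.StOp

open Cfsg Matrix Cfsg.Agent.Lib.Helper49.StOp

variable {m : ℕ} {F : Type*} [Field F]

/-- realizable permutations -/
def c4R (m : ℕ) (F : Type*) [Field F] (π : Equiv.Perm (OI m)) : Prop :=
  ∃ g : OG m F, g ∈ Subgroup.closure (Sset m F) ∧ mat g = π.permMatrix F

theorem c4R_one : c4R m F 1 :=
  ⟨1, one_mem _, by rw [mat_one, Matrix.permMatrix_one]⟩

theorem c4R_mul {σ τ : Equiv.Perm (OI m)} (hσ : c4R m F σ) (hτ : c4R m F τ) :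
    c4R m F (σ * τ) := by
  obtain ⟨g, hg, hgm⟩ := hσ
  obtain ⟨h, hh, hhm⟩ := hτ
  refine ⟨h * g, mul_mem hh hg, ?_⟩
  rw [mat_mul, hgm, hhm, Matrix.permMatrix_mul]

theorem c4R_swapE_adj (i : Fin m) (hi : i.val + 1 < m) : c4R m F (swapE m i (nxt i hi)) :=
  ⟨sShort m F i (nxt i hi), Subgroup.subset_closure (Or.inl ⟨i, hi, rfl⟩),
    Cfsg.Agent.Lib.Helper59.StOp.mat_sShort _ _⟩

theorem c4R_crossE_last (hm : 2 ≤ m) :
    c4R m F (crossE m (prevF hm) (lastF (by omega))) :=
  ⟨sCross m F (prevF hm) (lastF (by omega)), Subgroup.subset_closure (Or.inr ⟨hm, rfl⟩),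
    Cfsg.Agent.Lib.Helper59.StOp.mat_sCross _ _⟩

/-- `σ ⊕ σ` -/
def c4hat (σ : Equiv.Perm (Fin m)) : Equiv.Perm (OI m) := Equiv.sumCongr σ σ

theorem c4hat_mul (σ τ : Equiv.Perm (Fin m)) : c4hat (σ * τ) = c4hat σ * c4hat τ :=
  (Equiv.Perm.sumCongr_mul σ σ τ τ).symm

theorem c4hat_one : c4hat (1 : Equiv.Perm (Fin m)) = 1 := Equiv.Perm.sumCongr_one

theorem c4hat_inv (σ : Equiv.Perm (Fin m)) : (c4hat σ)⁻¹ = c4hat σ⁻¹ := rfl

theorem c4hat_eI (σ : Equiv.Perm (Fin m)) (a : Fin m) : c4hat σ (eI a) = eI (σ a) := rfl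

theorem c4hat_fI (σ : Equiv.Perm (Fin m)) (a : Fin m) : c4hat σ (fI a) = fI (σ a) := rfl

theorem c4_swapE_eq (i j : Fin m) : swapE m i j = c4hat (Equiv.swap i j) := rfl

/-- every `σ ⊕ σ` is realizable -/
theorem c4R_hat : ∀ {m : ℕ} (σ : Equiv.Perm (Fin m)), c4R m F (c4hat σ) := by
  intro m
  cases m with
  | zero =>
    intro σ
    have : σ = 1 := Subsingleton.elim _ _
    rw [this, c4hat_one]
    exact c4R_one
  | succ n =>
    intro σ
    have hσ : σ ∈ Submonoid.closure
        (Set.range fun i : Fin n => Equiv.swap i.castSucc i.succ) := by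
      rw [Equiv.Perm.mclosure_swap_castSucc_succ]
      trivial
    induction hσ using Submonoid.closure_induction with
    | mem x hx =>
      obtain ⟨i, rfl⟩ := hx
      have hi : (i.castSucc : Fin (n + 1)).val + 1 < n + 1 := by
        have := i.2
        simp only [Fin.val_castSucc]
        omega
      have hnx : nxt i.castSucc hi = i.succ := by
        apply Fin.ext
        simp [nxt]
      rw [← c4_swapE_eq, ← hnx]
      exact c4R_swapE_adj _ hi
    | one => rw [c4hat_one]; exact c4R_one
    | mul x y _ _ hx hy => rw [c4hat_mul]; exact c4R_mul hx hy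

theorem c4_conj_crossE (σ : Equiv.Perm (Fin m)) (p l : Fin m) :
    c4hat σ * crossE m p l * (c4hat σ)⁻¹ = crossE m (σ p) (σ l) := by
  unfold crossE
  rw [← c4hat_eI σ p, ← c4hat_fI σ l, ← c4hat_eI σ l, ← c4hat_fI σ p,
    Equiv.swap_apply_apply, Equiv.swap_apply_apply]
  group

theorem c4_exists_perm (p l i j : Fin m) (hpl : p ≠ l) (hij : i ≠ j) :
    ∃ σ : Equiv.Perm (Fin m), σ p = i ∧ σ l = j := by
  have hl' : Equiv.swap p i l ≠ i := by
    intro h
    have h2 : Equiv.swap p i l = Equiv.swap p i p := by rw [h, Equiv.swap_apply_left]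
    exact hpl ((Equiv.swap p i).injective h2).symm
  refine ⟨Equiv.swap (Equiv.swap p i l) j * Equiv.swap p i, ?_, ?_⟩
  · rw [Equiv.Perm.mul_apply, Equiv.swap_apply_left]
    exact Equiv.swap_apply_of_ne_of_ne hl'.symm hij
  · rw [Equiv.Perm.mul_apply, Equiv.swap_apply_left]

theorem c4R_crossE (i j : Fin m) (hij : i ≠ j) : c4R m F (crossE m i j) := by
  have hm : 2 ≤ m := by
    by_contra h
    apply hij
    apply Fin.ext
    have := i.2
    have := j.2
    omega
  obtain ⟨σ, h1, h2⟩ := c4_exists_perm (prevF hm) (lastF (by omega)) i j (prevF_ne_lastF hm) hij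
  rw [← h1, ← h2, ← c4_conj_crossE, c4hat_inv]
  exact c4R_mul (c4R_mul (c4R_hat σ) (c4R_crossE_last hm)) (c4R_hat σ⁻¹)

/-- the double flip of the pairs `i`, `j` -/
def c4D (i j : Fin m) : Equiv.Perm (OI m) := swapE m i j * crossE m i j

theorem c4R_D (i j : Fin m) (hij : i ≠ j) : c4R m F (c4D i j) := by
  unfold c4D
  rw [c4_swapE_eq]
  exact c4R_mul (c4R_hat _) (c4R_crossE i j hij)

theorem c4D_eI (i j : Fin m) (hij : i ≠ j) (a : Fin m) :
    c4D i j (eI a) = if a = i ∨ a = j then fI a else eI a := by
  unfold c4D crossE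
  rw [Equiv.Perm.mul_apply, Equiv.Perm.mul_apply]
  by_cases hai : a = i
  · subst hai
    have e1 : Equiv.swap (eI j) (fI a) (eI a) = (eI a : OI m) :=
      Equiv.swap_apply_of_ne_of_ne (fun e => hij (Sum.inl.inj e)) (by simp)
    rw [e1, Equiv.swap_apply_left, if_pos (Or.inl rfl)]
    show fI (Equiv.swap a j j) = fI a
    rw [Equiv.swap_apply_right]
  · by_cases haj : a = j
    · subst haj
      have e2 : Equiv.swap (eI i) (fI a) (fI i) = (fI i : OI m) :=
        Equiv.swap_apply_of_ne_of_ne (by simp) (fun e => hij (Sum.inr.inj e))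
      rw [Equiv.swap_apply_left, e2, if_pos (Or.inr rfl)]
      show fI (Equiv.swap i a i) = fI a
      rw [Equiv.swap_apply_left]
    · have e1 : Equiv.swap (eI j) (fI i) (eI a) = (eI a : OI m) :=
        Equiv.swap_apply_of_ne_of_ne (fun e => haj (Sum.inl.inj e)) (by simp)
      have e2 : Equiv.swap (eI i) (fI j) (eI a) = (eI a : OI m) :=
        Equiv.swap_apply_of_ne_of_ne (fun e => hai (Sum.inl.inj e)) (by simp)
      rw [e1, e2, if_neg (by tauto)]
      show eI (Equiv.swap i j a) = eI a
      rw [Equiv.swap_apply_of_ne_of_ne hai haj]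

theorem c4D_fI (i j : Fin m) (hij : i ≠ j) (a : Fin m) :
    c4D i j (fI a) = if a = i ∨ a = j then eI a else fI a := by
  unfold c4D crossE
  rw [Equiv.Perm.mul_apply, Equiv.Perm.mul_apply]
  by_cases hai : a = i
  · subst hai
    have e2 : Equiv.swap (eI a) (fI j) (eI j) = (eI j : OI m) :=
      Equiv.swap_apply_of_ne_of_ne (fun e => hij (Sum.inl.inj e).symm) (by simp)
    rw [Equiv.swap_apply_right, e2, if_pos (Or.inl rfl)]
    show eI (Equiv.swap a j j) = eI a
    rw [Equiv.swap_apply_right]
  · by_cases haj : a = j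
    · subst haj
      have e1 : Equiv.swap (eI a) (fI i) (fI a) = (fI a : OI m) :=
        Equiv.swap_apply_of_ne_of_ne (by simp) (fun e => hai (Sum.inr.inj e))
      rw [e1, Equiv.swap_apply_right, if_pos (Or.inr rfl)]
      show eI (Equiv.swap i a i) = eI a
      rw [Equiv.swap_apply_left]
    · have e1 : Equiv.swap (eI j) (fI i) (fI a) = (fI a : OI m) :=
        Equiv.swap_apply_of_ne_of_ne (by simp) (fun e => hai (Sum.inr.inj e))
      have e2 : Equiv.swap (eI i) (fI j) (fI a) = (fI a : OI m) :=
        Equiv.swap_apply_of_ne_of_ne (by simp) (fun e => haj (Sum.inr.inj e))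
      rw [e1, e2, if_neg (by tauto)]
      show fI (Equiv.swap i j a) = fI a
      rw [Equiv.swap_apply_of_ne_of_ne hai haj]

/-- the flip of the pairs in `S`, as a function -/
def c4flipFun (S : Finset (Fin m)) : OI m → OI m
  | Sum.inl k => if k ∈ S then fI k else eI k
  | Sum.inr k => if k ∈ S then eI k else fI k

theorem c4flipFun_involutive (S : Finset (Fin m)) : Function.Involutive (c4flipFun S) := by
  intro a
  rcases a with a | a
  · by_cases h : a ∈ S
    · simp [c4flipFun, h]
    · simp [c4flipFun, h]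
  · by_cases h : a ∈ S
    · simp [c4flipFun, h]
    · simp [c4flipFun, h]

/-- the flip of the pairs in `S` -/
def c4flip (S : Finset (Fin m)) : Equiv.Perm (OI m) := (c4flipFun_involutive S).toPerm

theorem c4flip_eI (S : Finset (Fin m)) (k : Fin m) :
    c4flip S (eI k) = if k ∈ S then fI k else eI k := rfl

theorem c4flip_fI (S : Finset (Fin m)) (k : Fin m) :
    c4flip S (fI k) = if k ∈ S then eI k else fI k := rfl

theorem c4flip_empty : c4flip (∅ : Finset (Fin m)) = 1 := by
  ext a
  rcases a with a | a <;> simp [c4flip, c4flipFun]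

theorem c4flip_insert2 (i j : Fin m) (hij : i ≠ j) (S : Finset (Fin m)) (hi : i ∉ S) (hj : j ∉ S) :
    c4flip (insert i (insert j S)) = c4D i j * c4flip S := by
  ext a
  rw [Equiv.Perm.mul_apply]
  rcases a with a | a
  · show c4flip _ (eI a) = c4D i j (c4flip S (eI a))
    rw [c4flip_eI, c4flip_eI]
    by_cases hS : a ∈ S
    · have hai : a ≠ i := fun e => hi (e ▸ hS)
      have haj : a ≠ j := fun e => hj (e ▸ hS)
      have hins : a ∈ insert i (insert j S) := by simp [hS]
      have hne : ¬ (a = i ∨ a = j) := by tauto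
      rw [if_pos hins, if_pos hS, c4D_fI i j hij, if_neg hne]
    · rw [if_neg hS, c4D_eI i j hij]
      by_cases h : a = i ∨ a = j
      · rw [if_pos h, if_pos (by rcases h with h | h <;> simp [h])]
      · rw [if_neg h, if_neg (by
          simp only [Finset.mem_insert]
          tauto)]
  · show c4flip _ (fI a) = c4D i j (c4flip S (fI a))
    rw [c4flip_fI, c4flip_fI]
    by_cases hS : a ∈ S
    · have hai : a ≠ i := fun e => hi (e ▸ hS)
      have haj : a ≠ j := fun e => hj (e ▸ hS)
      have hins : a ∈ insert i (insert j S) := by simp [hS]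
      have hne : ¬ (a = i ∨ a = j) := by tauto
      rw [if_pos hins, if_pos hS, c4D_eI i j hij, if_neg hne]
    · rw [if_neg hS, c4D_fI i j hij]
      by_cases h : a = i ∨ a = j
      · rw [if_pos h, if_pos (by rcases h with h | h <;> simp [h])]
      · rw [if_neg h, if_neg (by
          simp only [Finset.mem_insert]
          tauto)]

/-- flips of sets of even size are realizable -/
theorem c4R_flip : ∀ (n : ℕ) (S : Finset (Fin m)), S.card = 2 * n → c4R m F (c4flip S) := by
  intro n
  induction n with
  | zero =>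
    intro S hS
    have : S = ∅ := Finset.card_eq_zero.mp (by omega)
    rw [this, c4flip_empty]
    exact c4R_one
  | succ n ih =>
    intro S hS
    have hpos : 0 < S.card := by omega
    obtain ⟨i, hi⟩ := Finset.card_pos.mp hpos
    have h1 : (S.erase i).card = 2 * n + 1 := by
      rw [Finset.card_erase_of_mem hi]; omega
    have hpos1 : 0 < (S.erase i).card := by omega
    obtain ⟨j, hj⟩ := Finset.card_pos.mp hpos1
    have h2 : ((S.erase i).erase j).card = 2 * n := by
      rw [Finset.card_erase_of_mem hj]; omega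
    have hji : j ≠ i := (Finset.mem_erase.mp hj).1
    have hjS : j ∈ S := (Finset.mem_erase.mp hj).2
    have hS' : S = insert i (insert j ((S.erase i).erase j)) := by
      rw [Finset.insert_erase hj, Finset.insert_erase hi]
    have hi' : i ∉ (S.erase i).erase j := by
      intro h
      exact (Finset.mem_erase.mp (Finset.mem_erase.mp h).2).1 rfl
    have hj' : j ∉ (S.erase i).erase j := by
      intro h
      exact (Finset.mem_erase.mp h).1 rfl
    rw [hS', c4flip_insert2 i j hji.symm _ hi' hj']
    exact c4R_mul (c4R_D i j hji.symm) (ih _ h2)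

/-- the set of flipped pairs of `rho m` -/
def c4S (m : ℕ) : Finset (Fin m) := Finset.univ.filter fun k => ¬ (m % 2 = 1 ∧ k.val + 1 = m)

theorem c4S_card : ∃ n, (c4S m).card = 2 * n := by
  unfold c4S
  rcases Nat.even_or_odd m with hm | hm
  · have hfil : (Finset.univ.filter fun k : Fin m => ¬ (m % 2 = 1 ∧ k.val + 1 = m)) = Finset.univ := by
      apply Finset.filter_true_of_mem
      intro k _
      have := Nat.even_iff.mp hm
      omega
    rw [hfil, Finset.card_univ, Fintype.card_fin]
    obtain ⟨r, hr⟩ := hm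
    exact ⟨r, by omega⟩
  · have hm1 : m % 2 = 1 := Nat.odd_iff.mp hm
    have hm0 : 0 < m := by omega
    have hfil : (Finset.univ.filter fun k : Fin m => ¬ (m % 2 = 1 ∧ k.val + 1 = m)) =
        Finset.univ.erase (lastF hm0) := by
      ext k
      simp only [Finset.mem_filter, Finset.mem_univ, true_and, Finset.mem_erase, and_true]
      constructor
      · intro h e
        apply h
        refine ⟨hm1, ?_⟩
        rw [e]
        show m - 1 + 1 = m
        omega
      · intro h e
        apply h
        apply Fin.ext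
        show k.val = m - 1
        omega
    rw [hfil, Finset.card_erase_of_mem (Finset.mem_univ _), Finset.card_univ, Fintype.card_fin]
    obtain ⟨r, hr⟩ := hm
    exact ⟨r, by omega⟩

theorem c4flip_eq_rho : c4flip (c4S m) = rho m := by
  ext a
  rw [rho_apply]
  unfold rhoFun
  rcases a with k | k
  · show c4flip (c4S m) (eI k) = _
    rw [c4flip_eI]
    have hk := k.2
    by_cases hc : m % 2 = 1 ∧ k.val + 1 = m
    · have hnot : k ∉ c4S m := by
        unfold c4S
        simp only [Finset.mem_filter, Finset.mem_univ, true_and, not_not]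
        exact hc
      rw [if_neg hnot, if_pos]
      refine ⟨hc.1, Or.inl ?_⟩
      show k.val = m - 1
      omega
    · have hin : k ∈ c4S m := by
        unfold c4S
        simp only [Finset.mem_filter, Finset.mem_univ, true_and]
        exact hc
      rw [if_pos hin, if_neg]
      · rfl
      · rintro ⟨h1, h2⟩
        apply hc
        refine ⟨h1, ?_⟩
        have h2' : k.val = m - 1 ∨ k.val = m := h2
        omega
  · show c4flip (c4S m) (fI k) = _
    rw [c4flip_fI]
    have hk := k.2
    by_cases hc : m % 2 = 1 ∧ k.val + 1 = m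
    · have hnot : k ∉ c4S m := by
        unfold c4S
        simp only [Finset.mem_filter, Finset.mem_univ, true_and, not_not]
        exact hc
      rw [if_neg hnot, if_pos]
      refine ⟨hc.1, Or.inr ?_⟩
      show 2 * m - 1 - k.val = m
      omega
    · have hin : k ∈ c4S m := by
        unfold c4S
        simp only [Finset.mem_filter, Finset.mem_univ, true_and]
        exact hc
      rw [if_pos hin, if_neg]
      · rfl
      · rintro ⟨h1, h2⟩
        apply hc
        refine ⟨h1, ?_⟩
        have h2' : 2 * m - 1 - k.val = m - 1 ∨ 2 * m - 1 - k.val = m := h2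
        omega

theorem c4_permMatrix_apply (σ : Equiv.Perm (OI m)) (a b : OI m) :
    σ.permMatrix F a b = if σ a = b then 1 else 0 := by
  simp [Equiv.Perm.permMatrix, PEquiv.toMatrix_apply, Equiv.toPEquiv_apply, eq_comm]

theorem c4_rho_rho (a : OI m) : rho m (rho m a) = a := by
  rw [rho_apply, rho_apply]
  exact rhoFun_rhoFun m a

theorem c4_rho_dualE (a : OI m) : rho m (dualE m a) = dualE m (rho m a) := by
  apply pos_injective m
  have hlt := pos_lt m a
  rw [rho_apply, rho_apply, pos_rhoFun, pos_dualE, pos_dualE, pos_rhoFun]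
  split_ifs <;> omega

/-- LEAF C4 (254819) -/
theorem exists_w0 : ∃ w ∈ Nsub m F, MonWith m F w (rho m) := by
  obtain ⟨n, hn⟩ := c4S_card (m := m)
  obtain ⟨g, hg, hgm⟩ := c4R_flip (F := F) n (c4S m) hn
  rw [c4flip_eq_rho] at hgm
  refine ⟨g, (le_sup_left : Subgroup.closure (Sset m F) ≤ Nsub m F) hg, ?_, c4_rho_dualE⟩
  intro a b
  rw [hgm, c4_permMatrix_apply]
  constructor
  · intro h
    by_cases hab : rho m a = b
    · rw [← hab, c4_rho_rho]
    · rw [if_neg hab] at h
      exact absurd rfl h
  · intro h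
    rw [h, c4_rho_rho, if_pos rfl]
    exact one_ne_zero

end Cfsg.Agent.Lib.Helper92.StOp
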