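import Cfsg.Agent.Lib.Helper49.StSUDefs

/-!
# K-StSU-C3b (keystone 254616, architect helper49, S2546): distinct simple reflections of `SU_n(q)` are
distinct modulo `B`.
-/

set_option autoImplicit false
set_option linter.unusedSectionVars false
set_option linter.unusedVariables false

namespace Cfsg.Agent.Lib.Helper92.StSU

open Cfsg Matrix Cfsg.Agent.Lib.Helper49.StSU

variable {n : ℕ} {F : Type*} [Field F] {q : ℕ}

theorem tau_lt (i v : ℕ) (hi : i + 1 < n / 2) (hv : v < n) : tau n i v < n := by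
  unfold tau
  split_ifs <;> omega

theorem tau_tau (i v : ℕ) (hi : i + 1 < n / 2) (hv : v < n) : tau n i (tau n i v) = v := by
  unfold tau
  split_ifs <;> omega

/-- multiplying by a short reflection on the left permutes the rows -/
theorem sShortMat_mul_apply (i : ℕ) (hi : i + 1 < n / 2) (M : Matrix (Fin n) (Fin n) F) (y c : Fin n) :
    (sShortMat n F i * M) y c = M ⟨tau n i y.val, tau_lt i y.val hi y.isLt⟩ c := by
  rw [Matrix.mul_apply]
  rw [Finset.sum_eq_single (⟨tau n i y.val, tau_lt i y.val hi y.isLt⟩ : Fin n)]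
  · unfold sShortMat
    rw [if_pos (tau_tau i y.val hi y.isLt).symm, one_mul]
  · intro x _ hx
    unfold sShortMat
    rw [if_neg, zero_mul]
    intro h
    apply hx
    apply Fin.ext
    show x.val = tau n i y.val
    rw [h, tau_tau i x.val hi x.isLt]
  · intro h
    exact absurd (Finset.mem_univ _) h

/-- if `(sShort i)⁻¹ * s' ∈ B`, the nonzero entries `(y, c)` of `s'` have `τ_i y ≤ c` -/
theorem entry_zero_of_mem (ok : Ok n F q) (i : ℕ) (hi : i + 1 < n / 2) (s' : GJ n F q)
    (h : (sShort n F q i)⁻¹ * s' ∈ Bsub n F q) (y c : Fin n) (hyc : c.val < tau n i y.val) :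
    mat s' y c = 0 := by
  have e : s' = sShort n F q i * ((sShort n F q i)⁻¹ * s') := by group
  rw [e, mat_mul, ok.short i hi, sShortMat_mul_apply i hi]
  exact (mem_Bsub_iff _).1 h _ _ (by
    show c.val < tau n i y.val
    exact hyc)

/-- two different short simple reflections are different modulo `B` -/
theorem sShort_sShort_eq (ok : Ok n F q) (i j : ℕ) (hi : i + 1 < n / 2) (hj : j + 1 < n / 2)
    (h : (sShort n F q i)⁻¹ * sShort n F q j ∈ Bsub n F q) : i = j := by
  by_contra hij
  have hn : j + 1 < n := by omega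
  have h1 := entry_zero_of_mem ok i hi _ h ⟨j + 1, hn⟩ ⟨j, by omega⟩ (by
    show j < tau n i (j + 1)
    unfold tau
    split_ifs <;> omega)
  rw [ok.short j hj] at h1
  unfold sShortMat at h1
  rw [if_pos (by
    show j + 1 = tau n j j
    unfold tau
    rw [if_pos rfl])] at h1
  exact one_ne_zero h1

/-- a short reflection and the last reflection are different modulo `B` -/
theorem sShort_sLast_not_mem (ok : Ok n F q) (i : ℕ) (hi : i + 1 < n / 2) (hn : 2 ≤ n) :
    (sShort n F q i)⁻¹ * sLast n F q ∉ Bsub n F q := by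
  intro h
  by_cases hpar : n % 2 = 0
  · -- even: entry `(k, k-1)` is `-a⁻¹`
    have hk : n / 2 < n := by omega
    have h1 := entry_zero_of_mem ok i hi _ h ⟨n / 2, hk⟩ ⟨n / 2 - 1, by omega⟩ (by
      show n / 2 - 1 < tau n i (n / 2)
      unfold tau
      split_ifs <;> omega)
    rw [ok.last hn] at h1
    unfold sLastMat at h1
    rw [if_pos hpar] at h1
    unfold sEvenMat at h1
    rw [if_neg (by
      show ¬ (n / 2 = n / 2 - 1 ∧ n / 2 - 1 = n / 2)
      omega), if_pos (by
      show n / 2 = n / 2 ∧ n / 2 - 1 = n / 2 - 1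
      exact ⟨rfl, rfl⟩)] at h1
    exact ok.a_ne (inv_eq_zero.mp (neg_eq_zero.mp h1))
  · -- odd: entry `(k+1, k-1)` is `1`
    have hk : n / 2 + 1 < n := by omega
    have h1 := entry_zero_of_mem ok i hi _ h ⟨n / 2 + 1, hk⟩ ⟨n / 2 - 1, by omega⟩ (by
      show n / 2 - 1 < tau n i (n / 2 + 1)
      unfold tau
      split_ifs <;> omega)
    rw [ok.last hn] at h1
    unfold sLastMat at h1
    rw [if_neg hpar] at h1
    unfold sOddMat at h1
    rw [if_pos (by
      show (n / 2 + 1 = n / 2 - 1 ∧ n / 2 - 1 = n / 2 + 1) ∨ (n / 2 + 1 = n / 2 + 1 ∧ n / 2 - 1 = n / 2 - 1)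
      exact Or.inr ⟨rfl, rfl⟩)] at h1
    exact one_ne_zero h1

/-- LEAF C3b (254616) -/
theorem S_inj (ok : Ok n F q) (s : GJ n F q) (hs : s ∈ Sset n F q) (s' : GJ n F q)
    (hs' : s' ∈ Sset n F q) (h : s⁻¹ * s' ∈ Bsub n F q) : s = s' := by
  rcases hs with ⟨i, hi, rfl⟩ | ⟨hn, rfl⟩
  · rcases hs' with ⟨j, hj, rfl⟩ | ⟨hn', rfl⟩
    · have := sShort_sShort_eq ok i j hi hj h
      subst this
      rfl
    · exact absurd h (sShort_sLast_not_mem ok i hi hn')
  · rcases hs' with ⟨j, hj, rfl⟩ | ⟨hn', rfl⟩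
    · exfalso
      have h2 := inv_mem h
      rw [_root_.mul_inv_rev, inv_inv] at h2
      exact sShort_sLast_not_mem ok j hj hn h2
    · rfl

end Cfsg.Agent.Lib.Helper92.StSU
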