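import Mathlib

set_option autoImplicit false

namespace Cfsg.Agent.Lib.Helper92

variable {G : Type*} [Group G]

open scoped Pointwise

theorem mem_smul_sylow_iff {p : ℕ} (P : Sylow p G) (g x : G) :
    x ∈ (g • P : Sylow p G) ↔ g⁻¹ * x * g ∈ P := by
  have h1 : x ∈ (g • P : Sylow p G) ↔ x ∈ ((g • P : Sylow p G) : Subgroup G) := Iff.rfl
  rw [h1, Sylow.coe_subgroup_smul, Subgroup.mem_pointwise_smul_iff_inv_smul_mem]
  simp [MulAut.smul_def, MulAut.conj_inv_apply]
  rfl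

/-- Every `p`-subgroup lies in a conjugate of a given Sylow `p`-subgroup. -/
theorem exists_conj_le_sylow {p : ℕ} [Fact p.Prime] [Finite G] (P : Sylow p G) {R : Subgroup G}
    (hR : IsPGroup p R) : ∃ g : G, ∀ r ∈ R, g⁻¹ * r * g ∈ P := by
  obtain ⟨P', hP'⟩ := hR.exists_le_sylow
  obtain ⟨g, hg⟩ := MulAction.exists_smul_eq G P P'
  refine ⟨g, fun r hr => ?_⟩
  have : r ∈ (g • P : Sylow p G) := by rw [hg]; exact hP' hr
  exact (mem_smul_sylow_iff P g r).1 this

end Cfsg.Agent.Lib.Helper92
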