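import Mathlib
import Cfsg.Prelude.Def_Transfer
import Cfsg.Prelude.Def_Solvable

set_option autoImplicit false

namespace Cfsg.Agent.Lib.Helper92

variable {G : Type*} [Group G]

theorem mem_map_subtype_center_iff (Q : Subgroup G) (x : G) :
    x ∈ (Subgroup.center Q).map Q.subtype ↔ x ∈ Q ∧ ∀ q ∈ Q, q * x = x * q := by
  constructor
  · rintro ⟨y, hy, rfl⟩
    refine ⟨y.2, fun q hq => ?_⟩
    have := Subgroup.mem_center_iff.1 hy ⟨q, hq⟩
    exact congrArg Subtype.val this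
  · rintro ⟨hxQ, hx⟩
    refine ⟨⟨x, hxQ⟩, ?_, rfl⟩
    show (⟨x, hxQ⟩ : Q) ∈ Subgroup.center Q
    rw [Subgroup.mem_center_iff]
    rintro ⟨q, hq⟩
    exact Subtype.ext (hx q hq)

theorem eq_one_or_eq_of_card_two {H : Subgroup G} (h : Nat.card H = 2) {c : G} (hc : c ∈ H)
    (hc1 : c ≠ 1) {x : G} (hx : x ∈ H) : x = 1 ∨ x = c := by
  by_cases hx1 : x = 1
  · exact Or.inl hx1
  · right
    obtain ⟨y, -, hy⟩ := (Nat.card_eq_two_iff' (1 : H)).1 h
    have h1 : (⟨x, hx⟩ : H) = y := hy _ (fun hh => hx1 (congrArg Subtype.val hh))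
    have h2 : (⟨c, hc⟩ : H) = y := hy _ (fun hh => hc1 (congrArg Subtype.val hh))
    exact congrArg Subtype.val (h1.trans h2.symm)

theorem card_map_subtype_center (Q : Subgroup G) :
    Nat.card ((Subgroup.center Q).map Q.subtype) = Nat.card (Subgroup.center Q) :=
  Subgroup.card_map_of_injective Q.subtype_injective

theorem pCoreIsPGroup (p : ℕ) : IsPGroup p (Cfsg.pCore p G) :=
  Sylow.sSup_of_normal _ (fun _ h => h.2) (fun _ h => h.1)

theorem pCoreNormal (p : ℕ) : (Cfsg.pCore p G).Normal :=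
  Subgroup.sSup_normal _ (fun _ h => h.1)

end Cfsg.Agent.Lib.Helper92
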