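import Mathlib
import Cfsg.Prelude.Def_Transfer
import Cfsg.Agent.Lib.Helper03.PGroupFrattini
import Cfsg.Agent.Lib.Helper92.Basic

set_option autoImplicit false

namespace Cfsg.Agent.Lib.Helper92

open scoped commutatorElement

variable {G : Type*} [Group G]

/-- Commutators of elements of an extraspecial subgroup lie in its centre. -/
theorem comm_mem_centerMap {Q : Subgroup G} (hQ : Cfsg.IsExtraspecial 2 Q) {x y : G}
    (hx : x ∈ Q) (hy : y ∈ Q) : x * y * x⁻¹ * y⁻¹ ∈ (Subgroup.center Q).map Q.subtype := by
  have hcomm : (⁅(⟨x, hx⟩ : Q), ⟨y, hy⟩⁆ : Q) ∈ commutator Q :=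
    Subgroup.commutator_mem_commutator (Subgroup.mem_top _) (Subgroup.mem_top _)
  rw [hQ.1.2.2] at hcomm
  exact ⟨_, hcomm, rfl⟩

/-- Squares of elements of an extraspecial `2`-subgroup lie in its centre. -/
theorem sq_mem_centerMap {Q : Subgroup G} [Finite Q] (hQ : Cfsg.IsExtraspecial 2 Q) {x : G}
    (hx : x ∈ Q) : x * x ∈ (Subgroup.center Q).map Q.subtype := by
  haveI : Fact (Nat.Prime 2) := ⟨Nat.prime_two⟩
  have h := Cfsg.Agent.Lib.Helper03.pow_mem_frattini_of_isPGroup hQ.1.1 (⟨x, hx⟩ : Q)
  rw [hQ.1.2.1] at h
  refine ⟨_, h, ?_⟩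
  simp [pow_two]

theorem card_centerMap {Q : Subgroup G} (hQ : Cfsg.IsExtraspecial 2 Q) :
    Nat.card ((Subgroup.center Q).map Q.subtype) = 2 := by
  rw [card_map_subtype_center]; exact hQ.2

/-- The generator of the centre of an extraspecial `2`-subgroup. -/
theorem exists_center_generator {Q : Subgroup G} (hQ : Cfsg.IsExtraspecial 2 Q) :
    ∃ z ∈ (Subgroup.center Q).map Q.subtype, z ≠ 1 ∧ z * z = 1 ∧
      ∀ x ∈ (Subgroup.center Q).map Q.subtype, x = 1 ∨ x = z := by
  have hZcard := card_centerMap hQ
  obtain ⟨z, hz, hz1⟩ : ∃ z ∈ (Subgroup.center Q).map Q.subtype, z ≠ 1 := by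
    by_contra hcon
    push Not at hcon
    have : (Subgroup.center Q).map Q.subtype = ⊥ := by
      rw [eq_bot_iff]; intro x hx; exact (Subgroup.mem_bot).2 (hcon x hx)
    rw [this] at hZcard
    simp at hZcard
  refine ⟨z, hz, hz1, ?_, fun x hx => eq_one_or_eq_of_card_two hZcard hz hz1 hx⟩
  rcases eq_one_or_eq_of_card_two hZcard hz hz1
    (((Subgroup.center Q).map Q.subtype).mul_mem hz hz) with h | h
  · exact h
  · exfalso; apply hz1
    calc z = z⁻¹ * (z * z) := by group
      _ = z⁻¹ * z := by rw [h]
      _ = 1 := by group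

/-- A non-abelian subgroup `R` of an extraspecial `2`-group `Q` whose centre lies in the centre of
`Q` is extraspecial. -/
theorem isExtraspecial_of_le {Q R : Subgroup G} [Finite Q]
    (hQ : Cfsg.IsExtraspecial 2 Q) (hRQ : R ≤ Q)
    (hna : ∃ x ∈ R, ∃ y ∈ R, x * y ≠ y * x)
    (hcen : ∀ x ∈ R, (∀ y ∈ R, y * x = x * y) → x ∈ (Subgroup.center Q).map Q.subtype) :
    Cfsg.IsExtraspecial 2 R := by
  haveI : Fact (Nat.Prime 2) := ⟨Nat.prime_two⟩
  haveI : Finite R := Finite.of_injective (Subgroup.inclusion hRQ) (Subgroup.inclusion_injective hRQ)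
  set Z := (Subgroup.center Q).map Q.subtype with hZdef
  obtain ⟨z, hz, hz1, hzz, hZcases⟩ := exists_center_generator hQ
  have hZcentral : ∀ c ∈ Z, ∀ q ∈ Q, q * c = c * q := fun c hc q hq =>
    ((mem_map_subtype_center_iff Q c).1 hc).2 q hq
  -- z is a commutator of two elements of R
  obtain ⟨x₀, hx₀, y₀, hy₀, hxy₀⟩ := hna
  have hcz : x₀ * y₀ * x₀⁻¹ * y₀⁻¹ = z := by
    rcases hZcases _ (comm_mem_centerMap hQ (hRQ hx₀) (hRQ hy₀)) with h | h
    · exfalso; apply hxy₀
      calc x₀ * y₀ = (x₀ * y₀ * x₀⁻¹ * y₀⁻¹) * (y₀ * x₀) := by group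
        _ = y₀ * x₀ := by rw [h, one_mul]
    · exact h
  have hzR : z ∈ R := by
    rw [← hcz]
    exact R.mul_mem (R.mul_mem (R.mul_mem hx₀ hy₀) (R.inv_mem hx₀)) (R.inv_mem hy₀)
  have hZR : Z ≤ R := by
    intro c hc
    rcases hZcases c hc with rfl | rfl
    · exact R.one_mem
    · exact hzR
  -- the centre of R
  have hcenter : ∀ r : R, r ∈ Subgroup.center R ↔ (r : G) ∈ Z := by
    intro r
    constructor
    · intro hr
      apply hcen r r.2
      intro y hy
      have := Subgroup.mem_center_iff.1 hr ⟨y, hy⟩
      exact congrArg Subtype.val this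
    · intro hr
      rw [Subgroup.mem_center_iff]
      rintro ⟨y, hy⟩
      apply Subtype.ext
      exact hZcentral _ hr y (hRQ hy)
  have hcentermap : (Subgroup.center R).map R.subtype = Z := by
    ext c
    constructor
    · rintro ⟨r, hr, rfl⟩
      exact (hcenter r).1 hr
    · intro hc
      exact ⟨⟨c, hZR hc⟩, (hcenter _).2 hc, rfl⟩
  have hcard : Nat.card (Subgroup.center R) = 2 := by
    rw [← card_map_subtype_center, hcentermap]; exact card_centerMap hQ
  have hP : IsPGroup 2 R := hQ.1.1.to_le hRQ
  -- commutator = centre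
  have hcomm : commutator R = Subgroup.center R := by
    apply le_antisymm
    · rw [commutator_def, Subgroup.commutator_le]
      intro a _ b _
      rw [hcenter]
      have : ((⁅a, b⁆ : R) : G) = (a : G) * b * (a : G)⁻¹ * (b : G)⁻¹ := by
        rw [commutatorElement_def]; simp
      rw [this]
      exact comm_mem_centerMap hQ (hRQ a.2) (hRQ b.2)
    · intro r hr
      rcases hZcases _ ((hcenter r).1 hr) with h | h
      · have : r = 1 := Subtype.ext h
        rw [this]; exact Subgroup.one_mem _
      · have : r = ⁅(⟨x₀, hx₀⟩ : R), ⟨y₀, hy₀⟩⁆ := by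
          apply Subtype.ext
          rw [h, ← hcz, commutatorElement_def]; simp
        rw [this]
        exact Subgroup.commutator_mem_commutator (Subgroup.mem_top _) (Subgroup.mem_top _)
  -- frattini = centre
  have hfrat : frattini R = Subgroup.center R := by
    apply le_antisymm
    · intro x hx
      by_contra hxc
      -- the family of subgroups containing the centre and avoiding x
      let S : Set (Subgroup R) := {M | Subgroup.center R ≤ M ∧ x ∉ M}
      have hS0 : Subgroup.center R ∈ S := ⟨le_rfl, hxc⟩
      obtain ⟨M, -, hMS, hMmax⟩ := (Set.toFinite S).exists_le_maximal hS0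
      have hMc : Subgroup.center R ≤ M := hMS.1
      have hxM : x ∉ M := hMS.2
      -- M is normal since it contains the commutator subgroup
      have hMn : ∀ g m : R, m ∈ M → g * m * g⁻¹ ∈ M := by
        intro g m hm
        have h1 : ⁅g, m⁆ ∈ commutator R :=
          Subgroup.commutator_mem_commutator (Subgroup.mem_top _) (Subgroup.mem_top _)
        rw [hcomm] at h1
        have h2 : ⁅g, m⁆ * m ∈ M := M.mul_mem (hMc h1) hm
        have : g * m * g⁻¹ = ⁅g, m⁆ * m := by rw [commutatorElement_def]; group
        rw [this]; exact h2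
      haveI : M.Normal := ⟨fun m hm g => hMn g m hm⟩
      have hsq : ∀ y : R, y ^ 2 ∈ M := by
        intro y
        apply hMc
        rw [hcenter]
        have : ((y ^ 2 : R) : G) = (y : G) * (y : G) := by simp [pow_two]
        rw [this]
        exact sq_mem_centerMap hQ (hRQ y.2)
      have hcoatom : IsCoatom M := by
        constructor
        · intro h; apply hxM; rw [h]; exact Subgroup.mem_top _
        · intro N hMN
          have hxN : x ∈ N := by
            by_contra hxN
            have hNS : N ∈ S := ⟨hMc.trans hMN.le, hxN⟩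
            exact (not_le_of_gt hMN) (hMmax hNS hMN.le)
          rw [eq_top_iff]
          intro y _
          by_cases hyM : y ∈ M
          · exact hMN.le hyM
          · have hxM' : x ∈ M ⊔ Subgroup.zpowers y := by
              by_contra hcon
              have hS' : M ⊔ Subgroup.zpowers y ∈ S := ⟨hMc.trans le_sup_left, hcon⟩
              have := hMmax hS' le_sup_left
              exact hyM (this (Subgroup.mem_sup_right (Subgroup.mem_zpowers y)))
            rw [Subgroup.mem_sup_of_normal_left] at hxM'
            obtain ⟨m, hm, w, hw, hmw⟩ := hxM'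
            obtain ⟨k, rfl⟩ := Subgroup.mem_zpowers_iff.1 hw
            rcases Int.emod_two_eq_zero_or_one k with hk | hk
            · exfalso
              apply hxM
              rw [← hmw]
              apply M.mul_mem hm
              have : k = 2 * (k / 2) := by omega
              rw [this, zpow_mul]
              exact M.zpow_mem (by exact_mod_cast hsq y) _
            · have hk2 : k = 2 * (k / 2) + 1 := by omega
              have hy : y = ((y ^ (2 : ℤ)) ^ (k / 2))⁻¹ * (m⁻¹ * x) := by
                rw [← hmw, hk2, zpow_add, zpow_mul, zpow_one]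
                have : k / 2 = (2 * (k / 2) + 1) / 2 := by omega
                rw [← this]
                group
              rw [hy]
              apply N.mul_mem
              · apply N.inv_mem
                apply N.zpow_mem
                exact hMN.le (by exact_mod_cast hsq y)
              · exact N.mul_mem (N.inv_mem (hMN.le hm)) hxN
      exact hxM ((Cfsg.Agent.Lib.Helper03.mem_frattini_iff x).1 hx M hcoatom)
    · rw [← hcomm]
      exact Cfsg.Agent.Lib.Helper03.commutator_le_frattini_of_isPGroup hP
  exact ⟨⟨hP, hfrat, hcomm⟩, hcard⟩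

end Cfsg.Agent.Lib.Helper92
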