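import Mathlib
import Cfsg.Prelude.Def_Transfer
import Cfsg.Prelude.Def_Solvable
import Cfsg.Agent.Lib.Helper92.Basic

set_option autoImplicit false

namespace Cfsg.Agent.Lib.Helper92

variable {G : Type*} [Group G]

/-- An element lying both in a `2`-subgroup and in a subgroup of odd order is trivial. -/
theorem eq_one_of_mem_two_group_of_mem_odd {R K : Subgroup G} (hR : IsPGroup 2 R)
    (hK : Odd (Nat.card K)) {x : G} (hxR : x ∈ R) (hxK : x ∈ K) : x = 1 := by
  obtain ⟨k, hk⟩ := hR ⟨x, hxR⟩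
  have hk' : x ^ 2 ^ k = 1 := by
    have := congrArg Subtype.val hk
    simpa using this
  have h1 : orderOf x ∣ 2 ^ k := orderOf_dvd_of_pow_eq_one hk'
  have h2 : orderOf x ∣ Nat.card K := by
    have : orderOf (⟨x, hxK⟩ : K) ∣ Nat.card K := orderOf_dvd_natCard _
    rwa [Subgroup.orderOf_mk] at this
  have hcop : Nat.Coprime (2 ^ k) (Nat.card K) :=
    Nat.Coprime.pow_left k (Nat.coprime_two_left.2 hK)
  have : orderOf x = 1 := Nat.eq_one_of_dvd_coprimes hcop h1 h2
  exact orderOf_eq_one_iff.1 this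

/-- In the setting of a large extraspecial subgroup (without the largeness condition), an element
of an odd order subgroup normalized by `Q` which centralizes `Z(Q)` is trivial. -/
theorem eq_one_of_mem_odd_of_mem_centralizer_center (Q : Subgroup G)
    (hL1 : Cfsg.IsExtraspecial 2 ↥Q)
    (hL2 : Subgroup.centralizer (Q : Set G) = ((Subgroup.center ↥Q).map Q.subtype))
    (hL3 : Subgroup.centralizer (((Subgroup.center ↥Q).map Q.subtype) : Set G)
      ≤ Subgroup.normalizer (Q : Set G))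
    (K : Subgroup G) (hK : Odd (Nat.card K)) (hQK : Q ≤ Subgroup.normalizer (K : Set G))
    {k : G} (hkK : k ∈ K)
    (hkZ : k ∈ Subgroup.centralizer (((Subgroup.center ↥Q).map Q.subtype) : Set G)) : k = 1 := by
  have hQ2 : IsPGroup 2 Q := hL1.1.1
  have hkN : k ∈ Subgroup.normalizer (Q : Set G) := hL3 hkZ
  have hkC : k ∈ Subgroup.centralizer (Q : Set G) := by
    rw [Subgroup.mem_centralizer_iff]
    intro q hq
    have h1 : k * q * k⁻¹ * q⁻¹ ∈ Q :=
      Q.mul_mem ((Subgroup.mem_set_normalizer_iff.1 hkN q).1 hq) (Q.inv_mem hq)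
    have h2 : k * q * k⁻¹ * q⁻¹ ∈ K := by
      have : q * k⁻¹ * q⁻¹ ∈ K :=
        (Subgroup.mem_set_normalizer_iff.1 (hQK hq) k⁻¹).1 (K.inv_mem hkK)
      have := K.mul_mem hkK this
      simpa [mul_assoc] using this
    have h3 := eq_one_of_mem_two_group_of_mem_odd hQ2 hK h1 h2
    calc q * k = (k * q * k⁻¹ * q⁻¹)⁻¹ * (k * q) := by group
      _ = k * q := by rw [h3]; group
  rw [hL2] at hkC
  have hkQ : k ∈ Q := ((mem_map_subtype_center_iff Q k).1 hkC).1
  exact eq_one_of_mem_two_group_of_mem_odd hQ2 hK hkQ hkK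

end Cfsg.Agent.Lib.Helper92

namespace Cfsg.Agent.Lib.Helper92

variable {G : Type*} [Group G]

/-- An involution normalizing a finite subgroup `K` and centralizing no non-identity element of `K`
inverts every element of `K`. -/
theorem conj_eq_inv_of_fixedPointFree {K : Subgroup G} [Finite K] {t : G} (ht2 : t * t = 1)
    (htK : t ∈ Subgroup.normalizer (K : Set G)) (hfix : ∀ k ∈ K, k * t = t * k → k = 1) :
    ∀ k ∈ K, t * k * t⁻¹ = k⁻¹ := by
  have htinv : t⁻¹ = t := inv_eq_of_mul_eq_one_left ht2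
  have hconj : ∀ k ∈ K, t * k * t⁻¹ ∈ K := fun k hk =>
    (Subgroup.mem_set_normalizer_iff.1 htK k).1 hk
  let f : K → K := fun k => ⟨(k : G)⁻¹ * (t * k * t⁻¹), K.mul_mem (K.inv_mem k.2) (hconj k k.2)⟩
  have hinj : Function.Injective f := by
    intro k l hkl
    have h : (k : G)⁻¹ * (t * k * t⁻¹) = (l : G)⁻¹ * (t * l * t⁻¹) := congrArg Subtype.val hkl
    have h1 : (l : G) * (k : G)⁻¹ = t * ((l : G) * (k : G)⁻¹) * t⁻¹ := by
      calc (l : G) * (k : G)⁻¹ = (l : G) * ((k : G)⁻¹ * (t * k * t⁻¹)) * (t * k * t⁻¹)⁻¹ := by group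
        _ = (l : G) * ((l : G)⁻¹ * (t * l * t⁻¹)) * (t * k * t⁻¹)⁻¹ := by rw [h]
        _ = t * ((l : G) * (k : G)⁻¹) * t⁻¹ := by group
    have h2 : (l : G) * (k : G)⁻¹ * t = t * ((l : G) * (k : G)⁻¹) := by
      calc (l : G) * (k : G)⁻¹ * t = t * ((l : G) * (k : G)⁻¹) * t⁻¹ * t := by rw [← h1]
        _ = t * ((l : G) * (k : G)⁻¹) := by group
    have h3 := hfix _ (K.mul_mem l.2 (K.inv_mem k.2)) h2
    apply Subtype.ext
    have : (l : G) = k := by
      calc (l : G) = (l : G) * (k : G)⁻¹ * k := by group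
        _ = k := by rw [h3]; group
    exact this.symm
  have hsurj : Function.Surjective f := Finite.surjective_of_injective hinj
  intro k hk
  obtain ⟨m, hm⟩ := hsurj ⟨k, hk⟩
  have hm' : (m : G)⁻¹ * (t * m * t⁻¹) = k := congrArg Subtype.val hm
  rw [← hm', htinv]
  calc t * ((m : G)⁻¹ * (t * m * t)) * t = t * (m : G)⁻¹ * (t * (m : G) * (t * t)) := by group
    _ = t * (m : G)⁻¹ * (t * (m : G)) := by rw [ht2, mul_one]
    _ = t * (m : G)⁻¹ * (t * t) * t * (m : G) := by rw [ht2]; group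
    _ = ((m : G)⁻¹ * (t * m * t))⁻¹ := by
      rw [mul_inv_rev, mul_inv_rev, mul_inv_rev, inv_inv]
      have : t⁻¹ = t := htinv
      rw [this, ht2]
      group

end Cfsg.Agent.Lib.Helper92
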