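import Mathlib
import Cfsg.Prelude.Def_OddOrderLocal
import Cfsg.Agent.Lib.Helper39.PiCore

/-!
# K-1436-Z (keystone 143611, pack S1436): a cyclic complement of `M_σ` forces `τ₂(M) = ∅`
-/

set_option autoImplicit false

namespace Cfsg.Agent.Lib.Helper92.BG1436

open Cfsg Subgroup

variable {G : Type*} [Group G] [Finite G]

/-- the quotient of `M` by `O_σ(M)` is cyclic when `M_σ` has a cyclic complement -/
theorem z_isCyclic_quot {M E : Subgroup G} (hE : IsComplIn E (sigmaCore M) M) (hc : IsCyclic E) :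
    IsCyclic (↥M ⧸ piCore (sigma M) ↥M) := by
  obtain ⟨hEM, -, -, hprod⟩ := hE
  haveI : IsCyclic ↥(E.subgroupOf M) :=
    isCyclic_of_surjective (Subgroup.subgroupOfEquivOfLe hEM).symm
      (Subgroup.subgroupOfEquivOfLe hEM).symm.surjective
  let ψ : ↥(E.subgroupOf M) →* (↥M ⧸ piCore (sigma M) ↥M) :=
    (QuotientGroup.mk' (piCore (sigma M) ↥M)).comp (E.subgroupOf M).subtype
  refine isCyclic_of_surjective ψ ?_
  intro y
  obtain ⟨m, rfl⟩ := QuotientGroup.mk'_surjective _ y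
  obtain ⟨a, ha, b, hb, hm⟩ := hprod m.1 m.2
  have hb' : b ∈ (piCore (sigma M) ↥M).map M.subtype := hb
  obtain ⟨b', hb'Q, hb'b⟩ := hb'
  have haM : a ∈ M := hEM ha
  refine ⟨⟨⟨a, haM⟩, ?_⟩, ?_⟩
  · rw [Subgroup.mem_subgroupOf]
    exact ha
  · show (QuotientGroup.mk' (piCore (sigma M) ↥M)) (⟨a, haM⟩ : ↥M) = QuotientGroup.mk' _ m
    have hmeq : m = (⟨a, haM⟩ : ↥M) * b' := by
      apply Subtype.ext
      rw [Subgroup.coe_mul]
      rw [hm, ← hb'b]
      rfl
    rw [hmeq, map_mul]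
    have : (QuotientGroup.mk' (piCore (sigma M) ↥M)) b' = 1 := by
      rw [QuotientGroup.mk'_apply, QuotientGroup.eq_one_iff]
      exact hb'Q
    rw [this, mul_one]

/-- KEYSTONE 143611 -/
theorem tau2_eq_empty_of_cyclic_compl (hG : IsMinSimpleOddOrder G) {M E : Subgroup G} (hM : IsCoatom M)
    (hE : IsComplIn E (sigmaCore M) M) (hc : IsCyclic E) : tau2 M = ∅ := by
  rw [Set.eq_empty_iff_forall_notMem]
  rintro r ⟨hr, hrσ, -, hr1⟩
  apply hr1
  intro A hAc hAr
  haveI : IsCyclic (↥M ⧸ piCore (sigma M) ↥M) := z_isCyclic_quot hE hc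
  let φ : ↥A →* (↥M ⧸ piCore (sigma M) ↥M) :=
    (QuotientGroup.mk' (piCore (sigma M) ↥M)).comp A.subtype
  have hinj : Function.Injective φ := by
    rw [injective_iff_map_eq_one]
    intro a ha
    have haQ : (a : ↥M) ∈ piCore (sigma M) ↥M := by
      have : (QuotientGroup.mk' (piCore (sigma M) ↥M)) (a : ↥M) = 1 := ha
      rwa [QuotientGroup.mk'_apply, QuotientGroup.eq_one_iff] at this
    have hpow : (a : ↥M) ^ r = 1 := hAr a.1 a.2
    have hdvd : orderOf (a : ↥M) ∣ r := orderOf_dvd_of_pow_eq_one hpow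
    rcases (Nat.dvd_prime hr).mp hdvd with h1 | h1
    · apply Subtype.ext
      rw [Subgroup.coe_one]
      exact orderOf_eq_one_iff.mp h1
    · exfalso
      have h2 : orderOf (a : ↥M) ∣ Nat.card ↥(piCore (sigma M) ↥M) :=
        Subgroup.orderOf_dvd_natCard _ haQ
      rw [h1] at h2
      exact hrσ (Cfsg.Agent.Lib.Helper39.isPiGroup_piCore (sigma M) r hr h2)
  haveI : IsCyclic ↥A := isCyclic_of_injective φ hinj
  have hexp : Monoid.exponent ↥A ∣ r := by
    apply Monoid.exponent_dvd_of_forall_pow_eq_one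
    intro a
    apply Subtype.ext
    rw [Subgroup.coe_pow, Subgroup.coe_one]
    exact hAr a.1 a.2
  rw [IsCyclic.exponent_eq_card] at hexp
  rw [pow_one]
  exact Nat.le_of_dvd hr.pos hexp

end Cfsg.Agent.Lib.Helper92.BG1436
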