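import Mathlib

/-!
# The action of a group on an injective family of blocks (helper92)
-/

set_option autoImplicit false

namespace Cfsg.Agent.Lib.Helper92.BlockAct

open Pointwise

section
variable (G : Type*) {X : Type*} [Group G] [MulAction G X] {m : ℕ} (B : Fin m → Set X)

/-- the elements permuting the blocks -/
def blockStab : Subgroup G where
  carrier := {g | (∀ j, ∃ k, g • B j = B k) ∧ (∀ j, ∃ k, g⁻¹ • B j = B k)}
  one_mem' := ⟨fun j => ⟨j, one_smul _ _⟩, fun j => ⟨j, by rw [inv_one, one_smul]⟩⟩
  mul_mem' := by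
    rintro a b ⟨ha1, ha2⟩ ⟨hb1, hb2⟩
    refine ⟨fun j => ?_, fun j => ?_⟩
    · obtain ⟨k, hk⟩ := hb1 j
      obtain ⟨l, hl⟩ := ha1 k
      exact ⟨l, by rw [mul_smul, hk, hl]⟩
    · obtain ⟨k, hk⟩ := ha2 j
      obtain ⟨l, hl⟩ := hb2 k
      exact ⟨l, by rw [mul_inv_rev, mul_smul, hk, hl]⟩
  inv_mem' := by
    rintro a ⟨h1, h2⟩
    exact ⟨h2, by simpa using h1⟩

theorem mem_blockStab (g : G) :
    g ∈ blockStab G B ↔ (∀ j, ∃ k, g • B j = B k) ∧ (∀ j, ∃ k, g⁻¹ • B j = B k) := Iff.rfl

/-- the image of a block -/
noncomputable def blockFun (g : blockStab G B) (j : Fin m) : Fin m := Classical.choose (g.2.1 j)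

theorem blockFun_spec (g : blockStab G B) (j : Fin m) : (g : G) • B j = B (blockFun G B g j) :=
  Classical.choose_spec (g.2.1 j)

variable (hB : Function.Injective B)
include hB

theorem blockFun_eq (g : blockStab G B) (j k : Fin m) (h : (g : G) • B j = B k) :
    blockFun G B g j = k := by
  apply hB
  rw [← blockFun_spec G B g j, h]

theorem blockFun_one (j : Fin m) : blockFun G B (1 : blockStab G B) j = j :=
  blockFun_eq G B hB 1 j j (by simp)

theorem blockFun_mul (g h : blockStab G B) (j : Fin m) :
    blockFun G B (g * h) j = blockFun G B g (blockFun G B h j) := by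
  apply blockFun_eq G B hB
  rw [Subgroup.coe_mul, mul_smul, blockFun_spec, blockFun_spec]

/-- the permutation of the blocks -/
noncomputable def blockPerm (g : blockStab G B) : Equiv.Perm (Fin m) where
  toFun := blockFun G B g
  invFun := blockFun G B g⁻¹
  left_inv j := by rw [← blockFun_mul G B hB, inv_mul_cancel, blockFun_one G B hB]
  right_inv j := by rw [← blockFun_mul G B hB, mul_inv_cancel, blockFun_one G B hB]

/-- the action on the blocks as a homomorphism -/
noncomputable def blockHom : blockStab G B →* Equiv.Perm (Fin m) where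
  toFun := blockPerm G B hB
  map_one' := by
    ext j
    show (blockFun G B 1 j : ℕ) = j
    rw [blockFun_one G B hB]
  map_mul' g h := by
    ext j
    show (blockFun G B (g * h) j : ℕ) = blockFun G B g (blockFun G B h j)
    rw [blockFun_mul G B hB]

theorem blockHom_apply (g : blockStab G B) (j k : Fin m) (h : (g : G) • B j = B k) :
    blockHom G B hB g j = k :=
  blockFun_eq G B hB g j k h

end

end Cfsg.Agent.Lib.Helper92.BlockAct
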