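import Cfsg.Agent.Lib.Helper10.Order
import Cfsg.Agent.Lib.Helper95.GolayConcrete

set_option autoImplicit false

/-! Bit-mask action of words in the generators of `Cfsg.M24` on words of `Cfsg.golayCode`,
transitivity of `Cfsg.M24` on weight-8 words, and: every invariant subspace of the code that
contains a weight-12 word contains a word of weight 8 or 16. -/

namespace Cfsg.Agent.Lib.Helper92

open Cfsg Cfsg.Agent.Lib.Helper10
open scoped Pointwise

/-- mask of the word `v ∘ σ`, where `σ` acts on indices by the table `t`. -/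
def pmT (t : List ℕ) (m : ℕ) : ℕ := Nat.ofBits (fun i : Fin 24 => m.testBit (t.getD i 0))

theorem testBit_pmT (t : List ℕ) (m i : ℕ) :
    (pmT t m).testBit i = (decide (i < 24) && m.testBit (t.getD i 0)) := by
  unfold pmT
  by_cases h : i < 24
  · rw [Nat.testBit_ofBits_lt _ _ h]; simp [h]
  · rw [Nat.testBit_ofBits_ge _ _ (not_lt.mp h)]; simp [h]

/-- the mask of `v ∘ wordPerm wd`, computed from the table of `wordPerm wd`. -/
theorem wmask_permWord_inv (wd : List ℕ) (t : List ℕ)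
    (ht : ∀ i : Fin 24, evalW wd i = t.getD i 0) (v : GolayPt → ZMod 2) :
    wmask (permWord (wordPerm wd)⁻¹ v) = pmT t (wmask v) := by
  apply Nat.eq_of_testBit_eq
  intro i
  rw [testBit_wmask_nat, testBit_pmT]
  by_cases h : i < 24
  · simp only [h, decide_true, Bool.true_and]
    have h1 : permWord (wordPerm wd)⁻¹ v (pt i) = v (wordPerm wd (pt i)) := rfl
    rw [h1, ← ht ⟨i, h⟩]
    have h2 := evalW_spec wd (pt i)
    rw [idx_pt h] at h2
    show _ = (wmask v).testBit (evalW wd i)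
    rw [← h2, testBit_wmask]
  · simp [h]

theorem wordPerm_inv_mem_M24 (wd : List ℕ) : (wordPerm wd)⁻¹ ∈ M24 :=
  M24.inv_mem (wordPerm_mem_M24 wd)

/-! ### transitivity on weight-8 words -/

theorem exists_emb_of_card {s : Finset GolayPt} (hs : 5 ≤ s.card) :
    ∃ x : Fin 5 ↪ GolayPt, ∀ i, x i ∈ s := by
  obtain ⟨t, hts, ht⟩ := Finset.exists_subset_card_eq hs
  let e := t.equivFinOfCardEq ht
  refine ⟨e.symm.toEmbedding.trans (Function.Embedding.subtype _), fun i => hts ?_⟩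
  exact (e.symm i).2

theorem card_ge_of_emb {s : Finset GolayPt} (x : Fin 5 ↪ GolayPt) (hx : ∀ i, x i ∈ s) :
    5 ≤ s.card := by
  have h1 : (Finset.univ.map x).card = 5 := by simp
  rw [← h1]
  apply Finset.card_le_card
  intro p hp
  rw [Finset.mem_map] at hp
  obtain ⟨i, _, rfl⟩ := hp
  exact hx i

/-- `M24` is transitive on the words of weight 8 of the code. -/
theorem octad_word_trans (u v : GolayPt → ZMod 2) (hu : u ∈ golayCode) (hv : v ∈ golayCode)
    (cu : (support₂ u).card = 8) (cv : (support₂ v).card = 8) :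
    ∃ σ ∈ M24, permWord σ u = v := by
  obtain ⟨x, hx⟩ := exists_emb_of_card (s := support₂ u) (by omega)
  obtain ⟨y, hy⟩ := exists_emb_of_card (s := support₂ v) (by omega)
  obtain ⟨g, hg, hgxy⟩ := five_trans x y
  have hgM : g ∈ M24 := H_le_M24 hg
  refine ⟨g, hgM, ?_⟩
  have hmem := permWord_mem_of_mem_M24 hgM u hu
  have hsupp : support₂ (permWord g u) = g • support₂ u := (smul_support₂ g u).symm
  apply eq_of_inter_ge _ _ hmem hv
  · rw [hsupp, card_smul_finset, cu]
  · exact cv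
  · apply card_ge_of_emb y
    intro i
    rw [Finset.mem_inter]
    refine ⟨?_, hy i⟩
    rw [hsupp, ← hgxy i]
    exact Finset.smul_mem_smul_finset (hx i)

/-! ### from weight 12 to weight 8 or 16 -/

/-- tables of ten elements of `M24`. -/
def dodTabs : List (List ℕ) := [
  [23, 22, 11, 15, 17, 9, 19, 13, 20, 5, 16, 2, 21, 7, 18, 3, 10, 4, 14, 6, 8, 12, 1, 0],
  [0, 18, 6, 3, 2, 21, 1, 5, 16, 12, 7, 19, 8, 9, 17, 15, 13, 11, 4, 22, 10, 20, 14, 23],
  [21, 10, 14, 16, 8, 18, 12, 19, 4, 15, 1, 20, 6, 17, 2, 9, 3, 13, 5, 7, 11, 0, 23, 22],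
  [17, 5, 2, 1, 20, 0, 4, 15, 11, 6, 18, 7, 8, 16, 14, 12, 10, 3, 21, 9, 19, 13, 22, 23],
  [7, 5, 4, 19, 8, 3, 11, 13, 14, 21, 18, 10, 17, 0, 16, 9, 15, 2, 12, 22, 6, 20, 1, 23],
  [23, 0, 12, 16, 18, 10, 20, 14, 21, 6, 17, 3, 22, 8, 19, 4, 11, 5, 15, 7, 9, 13, 2, 1],
  [19, 7, 4, 3, 22, 2, 6, 17, 13, 8, 20, 9, 10, 18, 16, 14, 12, 5, 0, 11, 21, 15, 1, 23],
  [1, 9, 15, 11, 4, 19, 22, 5, 2, 21, 6, 10, 20, 3, 12, 18, 13, 7, 23, 16, 8, 17, 14, 0],
  [18, 5, 21, 2, 22, 16, 3, 19, 9, 17, 20, 4, 7, 11, 0, 13, 12, 15, 6, 8, 14, 1, 10, 23],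
  [2, 3, 4, 5, 6, 7, 8, 9, 10, 11, 12, 13, 14, 15, 16, 17, 18, 19, 20, 21, 22, 0, 1, 23]]

/-- the words in the generators with these tables. -/
def dodWords : List (List ℕ) := [[1], [2], [3, 1, 0], [3, 2, 0], [0, 4, 0], [0, 1], [0, 2, 0],
  [1, 3, 4], [2, 0, 4], [0, 0]]

theorem dodTabs_spec : ∀ j : Fin 10, ∀ i : Fin 24,
    evalW (dodWords.getD j []) i = (dodTabs.getD j []).getD i 0 := by decide +kernel

/-- a mask of weight 12 is moved by one of the ten elements to a mask at distance 8 or 16. -/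
def dodOK (m : ℕ) : Bool :=
  pc m != 12 || dodTabs.any (fun t => pc (m ^^^ pmT t m) == 8 || pc (m ^^^ pmT t m) == 16)

theorem dod_check : (List.range 4096).all (fun k => dodOK (enc k)) = true := by decide +kernel

theorem exists_perm_of_dodecad (w : GolayPt → ZMod 2) (hw : w ∈ golayCode)
    (h12 : (support₂ w).card = 12) :
    ∃ σ ∈ M24, (support₂ (w + permWord σ w)).card = 8 ∨ (support₂ (w + permWord σ w)).card = 16 := by
  have h := forall_code_bool dodOK dod_check w hw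
  unfold dodOK at h
  rw [card_support₂] at h12
  simp only [h12, bne_self_eq_false, Bool.false_or, List.any_eq_true, Bool.or_eq_true,
    beq_iff_eq] at h
  obtain ⟨t, ht, hpc⟩ := h
  obtain ⟨j, hj, rfl⟩ := List.getElem_of_mem ht
  have hj' : j < 10 := hj
  have hspec := dodTabs_spec ⟨j, hj'⟩
  simp only at hspec
  rw [List.getD_eq_getElem _ _ hj] at hspec
  refine ⟨(wordPerm (dodWords.getD j []))⁻¹, wordPerm_inv_mem_M24 _, ?_⟩
  rw [card_support₂, wmask_add, wmask_permWord_inv _ _ hspec]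
  exact hpc

end Cfsg.Agent.Lib.Helper92
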