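import Cfsg.Agent.Lib.Helper92.Cell.CertL
import Cfsg.Agent.Lib.Helper92.Cell.CertA

/-!
# Groups generated by involutions satisfying the relations of the 11-cell (helper92)

Generalities on words in acting order, and the bound `660` for a group generated by four involutions
`ρ₀, ρ₁, ρ₂, ρ₃` that satisfy the relations of the string Coxeter group `[3, 5, 3]` together with
`(ρ₀ρ₁ρ₂)^5 = (ρ₁ρ₂ρ₃)^5 = 1` (the group is a quotient of `L₂(11)`).
-/

set_option autoImplicit false

namespace Cfsg.Agent.Lib.Helper92.PresGen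
open Cfsg.Agent.Lib.Helper92.TCert

section General
variable {G : Type*} [Group G]

theorem evr_congr (l1 l2 : ℕ → G) (w : List ℕ) (h : ∀ x ∈ w, l1 x = l2 x) : evr l1 w = evr l2 w := by
  induction w with
  | nil => rfl
  | cons x w ih =>
    rw [evr, evr, ih (fun y hy => h y (List.mem_cons_of_mem _ hy)), h x List.mem_cons_self]

theorem evr_map {G' : Type*} [Group G'] (f : G →* G') (l : ℕ → G) (w : List ℕ) :
    evr (fun x => f (l x)) w = f (evr l w) := by
  induction w with
  | nil => simp [evr]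
  | cons x w ih => rw [evr, evr, ih, map_mul]

theorem evr_eq_prod (l : ℕ → G) (w : List ℕ) : evr l w = (w.reverse.map l).prod := by
  induction w with
  | nil => rfl
  | cons x w ih =>
    rw [evr, ih, List.reverse_cons, List.map_append, List.prod_append]
    simp

/-- the letters below `m`, the others replaced by `1` -/
def lvR (lv : ℕ → G) (m x : ℕ) : G := if x < m then lv x else 1

theorem lvR_lt (lv : ℕ → G) (m x : ℕ) (h : x < m) : lvR lv m x = lv x := by
  unfold lvR; rw [if_pos h]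

theorem lvR_ge (lv : ℕ → G) (m x : ℕ) (h : ¬ x < m) : lvR lv m x = 1 := by
  unfold lvR; rw [if_neg h]

/-- if the letters below `m ≤ 6` are involutions, the restricted letters are compatible with the
inverse columns -/
theorem lvR_ic (lv : ℕ → G) (m : ℕ) (hm : m ≤ 6) (hsq : ∀ x < m, lv x * lv x = 1) (x : ℕ) (hx : x < 8) :
    lvR lv m (ic x) = (lvR lv m x)⁻¹ := by
  by_cases h : x < m
  · have h6 : x < 6 := by omega
    have e : ic x = x := by
      unfold ic; rw [bifN_eq]
      have : Nat.blt x 6 = true := (blt_iff x 6).mpr h6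
      rw [this]; rfl
    rw [e, lvR_lt lv m x h]
    exact (inv_eq_of_mul_eq_one_left (hsq x h)).symm
  · rw [lvR_ge lv m x h, inv_one]
    apply lvR_ge
    by_cases h6 : x < 6
    · have e : ic x = x := by
        unfold ic; rw [bifN_eq]
        have : Nat.blt x 6 = true := (blt_iff x 6).mpr h6
        rw [this]; rfl
      rw [e]; exact h
    · have e : ic x = 13 - x := by
        unfold ic; rw [bifN_eq]
        have : Nat.blt x 6 = false := by
          cases hb : Nat.blt x 6
          · rfl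
          · exact absurd ((blt_iff x 6).mp hb) h6
        rw [this]; rfl
      rw [e]; omega

theorem lvR_all (lv : ℕ → G) (m x : ℕ) :
    lvR lv m x ∈ Subgroup.closure (lvR lv m '' {x | x < m}) := by
  by_cases h : x < m
  · exact Subgroup.subset_closure ⟨x, h, rfl⟩
  · rw [lvR_ge lv m x h]; exact Subgroup.one_mem _

end General

/-- the relators of the 11-cell -/
def cellRels : List (List ℕ) :=
  [[0, 0], [1, 1], [2, 2], [3, 3], [0, 1, 0, 1, 0, 1], [1, 2, 1, 2, 1, 2, 1, 2, 1, 2], [2, 3, 2, 3, 2, 3],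
    [0, 2, 0, 2], [0, 3, 0, 3], [1, 3, 1, 3], [0, 1, 2, 0, 1, 2, 0, 1, 2, 0, 1, 2, 0, 1, 2],
    [1, 2, 3, 1, 2, 3, 1, 2, 3, 1, 2, 3, 1, 2, 3]]

/-- the relators of the hemi-icosahedron -/
def cellRelsA : List (List ℕ) :=
  [[0, 0], [1, 1], [2, 2], [0, 1, 0, 1, 0, 1], [1, 2, 1, 2, 1, 2, 1, 2, 1, 2], [0, 2, 0, 2],
    [0, 1, 2, 0, 1, 2, 0, 1, 2, 0, 1, 2, 0, 1, 2]]

theorem cellRelsA_sub : ∀ w ∈ cellRelsA, w ∈ cellRels ∧ ∀ x ∈ w, x < 3 := by decide

theorem cellRels_lt : ∀ w ∈ cellRels, ∀ x ∈ w, x < 4 := by decide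

set_option maxRecDepth 100000 in
theorem rotL_ok : (List.range Cell.L.nR).map (rotWordOf Cell.L.rot) = allRotsOf cellRels := by
  decide +kernel

set_option maxRecDepth 100000 in
theorem rotA_ok : (List.range Cell.A.nR).map (rotWordOf Cell.A.rot) = allRotsOf cellRelsA := by
  decide +kernel

section Cell
variable {G : Type*} [Group G] (lv : ℕ → G) (hrel : ∀ w ∈ cellRels, evr lv w = 1)
include hrel

theorem cell_sq (x : ℕ) (hx : x < 4) : lv x * lv x = 1 := by
  have h : evr lv [x, x] = 1 := by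
    apply hrel
    interval_cases x <;> decide
  simpa [evr] using h

theorem cellA_one : ∀ w ∈ cellRelsA, evr (lvR lv 3) w = 1 := by
  intro w hw
  obtain ⟨h1, h2⟩ := cellRelsA_sub w hw
  rw [evr_congr (lvR lv 3) lv w (fun x hx => lvR_lt lv 3 x (h2 x hx))]
  exact hrel w h1

theorem cellL_one : ∀ w ∈ cellRels, evr (lvR lv 4) w = 1 := by
  intro w hw
  rw [evr_congr (lvR lv 4) lv w (fun x hx => lvR_lt lv 4 x (cellRels_lt w hw x hx))]
  exact hrel w hw

/-- the subgroup generated by the first three letters -/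
abbrev subA : Subgroup G := Subgroup.closure (lvR lv 3 '' {x | x < 3})

/-- the subgroup generated by the first four letters -/
abbrev subL : Subgroup G := Subgroup.closure (lvR lv 4 '' {x | x < 4})

theorem hypA : Hyp (⊥ : Subgroup G) (lvR lv 3) Cell.A.row Cell.A.rot 8 Cell.A.nR 0 Cell.A.nN where
  hN := by decide
  hrow := fun u h => rowOf_ge Cell.A.trie Cell.A.nN u h
  hdp0 := Cell.A.dp0
  hrot := rot_one_of (lvR lv 3) Cell.A.rot cellRelsA Cell.A.nR (cellA_one lv hrel) rotA_ok
  hsub := fun x hx => absurd hx (by omega)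
  hic := lvR_ic lv 3 (by norm_num) (fun x hx => cell_sq lv hrel x (by omega))
  hS := fun u hu x hx => (chkNode_spec Cell.A.row Cell.A.rot 8 Cell.A.nR 0 u (Cell.A.chk_nodes u hu)).2 x hx
  hQ := fun u hu => (chkNode_spec Cell.A.row Cell.A.rot 8 Cell.A.nR 0 u (Cell.A.chk_nodes u hu)).1

theorem hypL : Hyp (subA lv) (lvR lv 4) Cell.L.row Cell.L.rot 8 Cell.L.nR 3 Cell.L.nN where
  hN := by decide
  hrow := fun u h => rowOf_ge Cell.L.trie Cell.L.nN u h
  hdp0 := Cell.L.dp0
  hrot := rot_one_of (lvR lv 4) Cell.L.rot cellRels Cell.L.nR (cellL_one lv hrel) rotL_ok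
  hsub := fun x hx => Subgroup.subset_closure ⟨x, hx, by rw [lvR_lt lv 3 x hx, lvR_lt lv 4 x (by omega)]⟩
  hic := lvR_ic lv 4 (by norm_num) (fun x hx => cell_sq lv hrel x hx)
  hS := fun u hu x hx => (chkNode_spec Cell.L.row Cell.L.rot 8 Cell.L.nR 3 u (Cell.L.chk_nodes u hu)).2 x hx
  hQ := fun u hu => (chkNode_spec Cell.L.row Cell.L.rot 8 Cell.L.nR 3 u (Cell.L.chk_nodes u hu)).1

/-- the hemi-icosahedral subgroup has at most 60 elements -/
theorem card_subA : Finite (subA lv) ∧ Nat.card (subA lv) ≤ 60 := by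
  obtain ⟨hf, hc⟩ := card_sub_le (hypA lv hrel) Cell.A.nC 3 1048575 (by decide) (by decide) (by norm_num)
    (fun x _ => lvR_all lv 3 x)
    (fun c hc x hx => chkFinG_spec Cell.A.row 8 Cell.A.nC 1048575 3 c (Cell.A.chk_fin c hc) x hx)
  change Finite (subA lv ⧸ (⊥ : Subgroup G).subgroupOf (subA lv)) at hf
  change Nat.card (subA lv ⧸ (⊥ : Subgroup G).subgroupOf (subA lv)) ≤ 60 at hc
  rw [Subgroup.bot_subgroupOf] at hf hc
  have e : (subA lv ⧸ (⊥ : Subgroup (subA lv))) ≃ subA lv := (QuotientGroup.quotientBot).toEquiv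
  have hfin : Finite (subA lv) := Finite.of_equiv _ e
  refine ⟨hfin, ?_⟩
  rw [← Nat.card_congr e]; exact hc

theorem subA_le_subL : subA lv ≤ subL lv := by
  unfold subA subL
  rw [Subgroup.closure_le]
  rintro _ ⟨x, hx, rfl⟩
  have hx' : x < 3 := hx
  rw [lvR_lt lv 3 x hx']
  exact Subgroup.subset_closure ⟨x, by show x < 4; omega, lvR_lt lv 4 x (by omega)⟩

/-- the group of the 11-cell has at most 660 elements -/
theorem card_subL : Finite (subL lv) ∧ Nat.card (subL lv) ≤ 660 := by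
  obtain ⟨hf, hc⟩ := card_sub_le (hypL lv hrel) Cell.L.nC 4 1048575 (by decide) (by decide) (by norm_num)
    (fun x _ => lvR_all lv 4 x)
    (fun c hc x hx => chkFinG_spec Cell.L.row 8 Cell.L.nC 1048575 4 c (Cell.L.chk_fin c hc) x hx)
  change Finite (subL lv ⧸ (subA lv).subgroupOf (subL lv)) at hf
  change Nat.card (subL lv ⧸ (subA lv).subgroupOf (subL lv)) ≤ 11 at hc
  obtain ⟨hMf, hMc⟩ := card_subA lv hrel
  have e : (subA lv).subgroupOf (subL lv) ≃ subA lv :=
    (Subgroup.subgroupOfEquivOfLe (subA_le_subL lv hrel)).toEquiv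
  have hSf : Finite ((subA lv).subgroupOf (subL lv)) := Finite.of_equiv _ e.symm
  have hSc : Nat.card ((subA lv).subgroupOf (subL lv)) ≤ 60 := by rw [Nat.card_congr e]; exact hMc
  have hmul := Subgroup.card_eq_card_quotient_mul_card_subgroup ((subA lv).subgroupOf (subL lv))
  have hpos1 : 0 < Nat.card (subL lv ⧸ (subA lv).subgroupOf (subL lv)) := Nat.card_pos
  have hpos2 : 0 < Nat.card ((subA lv).subgroupOf (subL lv)) := Nat.card_pos
  have hne : Nat.card (subL lv) ≠ 0 := by rw [hmul]; positivity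
  refine ⟨Nat.finite_of_card_ne_zero hne, ?_⟩
  rw [hmul]
  calc Nat.card (subL lv ⧸ (subA lv).subgroupOf (subL lv)) * Nat.card ((subA lv).subgroupOf (subL lv))
      ≤ 11 * 60 := Nat.mul_le_mul hc hSc
    _ = 660 := by norm_num

end Cell

end Cfsg.Agent.Lib.Helper92.PresGen
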