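import Cfsg.Agent.Lib.Helper92.SimpleAux

/-!
# A four-level stabilizer chain (helper92)
-/

set_option autoImplicit false

namespace Cfsg.Agent.Lib.Helper92.SimpleAux

section Chain4
variable {G : Type*} [Group G] {X : Type*} [MulAction G X]

/-- a four-level stabilizer chain that meets an upper bound for the order -/
theorem chain4_eq_and_faithful [Finite G] (a b c d : X) (A B C D : Finset X)
    (hA : ∀ x ∈ A, ∃ g : G, g • a = x)
    (hB : ∀ x ∈ B, ∃ g : G, g • a = a ∧ g • b = x)
    (hC : ∀ x ∈ C, ∃ g : G, g • a = a ∧ g • b = b ∧ g • c = x)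
    (hD : ∀ x ∈ D, ∃ g : G, g • a = a ∧ g • b = b ∧ g • c = c ∧ g • d = x)
    (hle : Nat.card G ≤ A.card * B.card * C.card * D.card) :
    Nat.card G = A.card * B.card * C.card * D.card ∧
      ∀ g : G, g • a = a → g • b = b → g • c = c → g • d = d → g = 1 := by
  have h1 := card_mul_card_stabilizer_le (G := G) a A hA
  have h2 : B.card * Nat.card (MulAction.stabilizer (MulAction.stabilizer G a) b) ≤
      Nat.card (MulAction.stabilizer G a) := by
    apply card_mul_card_stabilizer_le (G := MulAction.stabilizer G a) b B
    intro x hx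
    obtain ⟨g, hga, hgb⟩ := hB x hx
    exact ⟨⟨g, hga⟩, hgb⟩
  have h3 : C.card * Nat.card (MulAction.stabilizer (MulAction.stabilizer (MulAction.stabilizer G a) b) c) ≤
      Nat.card (MulAction.stabilizer (MulAction.stabilizer G a) b) := by
    apply card_mul_card_stabilizer_le (G := MulAction.stabilizer (MulAction.stabilizer G a) b) c C
    intro x hx
    obtain ⟨g, hga, hgb, hgc⟩ := hC x hx
    exact ⟨⟨⟨g, hga⟩, hgb⟩, hgc⟩
  have h4 : D.card * Nat.card (MulAction.stabilizer
      (MulAction.stabilizer (MulAction.stabilizer (MulAction.stabilizer G a) b) c) d) ≤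
      Nat.card (MulAction.stabilizer (MulAction.stabilizer (MulAction.stabilizer G a) b) c) := by
    apply card_mul_card_stabilizer_le
      (G := MulAction.stabilizer (MulAction.stabilizer (MulAction.stabilizer G a) b) c) d D
    intro x hx
    obtain ⟨g, hga, hgb, hgc, hgd⟩ := hD x hx
    exact ⟨⟨⟨⟨g, hga⟩, hgb⟩, hgc⟩, hgd⟩
  set s4 := Nat.card (MulAction.stabilizer
      (MulAction.stabilizer (MulAction.stabilizer (MulAction.stabilizer G a) b) c) d) with hs4
  have h5 : 1 ≤ s4 := Nat.card_pos
  have hGpos : 0 < Nat.card G := Nat.card_pos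
  have hchain : A.card * B.card * C.card * D.card * s4 ≤ Nat.card G := by
    calc A.card * B.card * C.card * D.card * s4 = A.card * (B.card * (C.card * (D.card * s4))) := by ring
      _ ≤ A.card * (B.card * (C.card *
            Nat.card (MulAction.stabilizer (MulAction.stabilizer (MulAction.stabilizer G a) b) c))) :=
          Nat.mul_le_mul_left _ (Nat.mul_le_mul_left _ (Nat.mul_le_mul_left _ h4))
      _ ≤ A.card * (B.card * Nat.card (MulAction.stabilizer (MulAction.stabilizer G a) b)) :=
          Nat.mul_le_mul_left _ (Nat.mul_le_mul_left _ h3)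
      _ ≤ A.card * Nat.card (MulAction.stabilizer G a) := Nat.mul_le_mul_left _ h2
      _ ≤ Nat.card G := h1
  have hpos : 0 < A.card * B.card * C.card * D.card := by omega
  have hs41 : s4 ≤ 1 := by
    by_contra hcon
    have : 2 ≤ s4 := by omega
    have : A.card * B.card * C.card * D.card * 2 ≤ A.card * B.card * C.card * D.card * s4 :=
      Nat.mul_le_mul_left _ this
    omega
  have hs4' : s4 = 1 := by omega
  refine ⟨?_, ?_⟩
  · rw [hs4', mul_one] at hchain; omega
  · intro g ha hb hc hd
    have hsub : Subsingleton (MulAction.stabilizer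
        (MulAction.stabilizer (MulAction.stabilizer (MulAction.stabilizer G a) b) c) d) :=
      (Finite.card_le_one_iff_subsingleton).mp hs41
    have e : (⟨⟨⟨⟨g, ha⟩, hb⟩, hc⟩, hd⟩ : MulAction.stabilizer
        (MulAction.stabilizer (MulAction.stabilizer (MulAction.stabilizer G a) b) c) d) = 1 :=
      Subsingleton.elim _ _
    have e2 := congrArg (fun t : MulAction.stabilizer
        (MulAction.stabilizer (MulAction.stabilizer (MulAction.stabilizer G a) b) c) d =>
      ((((t : MulAction.stabilizer (MulAction.stabilizer (MulAction.stabilizer G a) b) c) :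
        MulAction.stabilizer (MulAction.stabilizer G a) b) : MulAction.stabilizer G a) : G)) e
    simpa using e2

end Chain4

end Cfsg.Agent.Lib.Helper92.SimpleAux
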