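import Cfsg.Agent.Lib.Helper92.VecPerm3

/-!
# Orbits under subgroups generated by words (helper92)
-/

set_option autoImplicit false

namespace Cfsg.Agent.Lib.Helper92.VecPerm
open Cfsg.Agent.Lib.Helper92.TCert (forceN forceN_eq)

section ReachW

variable {nets : ℕ → List (ℕ × ℕ)} {K : ℕ} (hn : ∀ x, NetOK K (nets x))

/-- one round: add the preimages under all listed words -/
noncomputable def reachStepW (nets : ℕ → List (ℕ × ℕ)) (ws : List (List ℕ)) (R : ℕ) : ℕ :=
  @List.rec (List ℕ) (fun _ => ℕ → ℕ) (fun A => A)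
    (fun w _ ih A => ih (Nat.lor A (wordV nets w R))) ws R

/-- `k` rounds from the start mask `S`, each round evaluated completely -/
noncomputable def reachFromW (nets : ℕ → List (ℕ × ℕ)) (ws : List (List ℕ)) (S k : ℕ) : ℕ :=
  @Nat.rec (fun _ => ℕ) S (fun _ R => forceN R (fun R' => reachStepW nets ws R')) k

theorem reachFromW_succ (ws : List (List ℕ)) (S k : ℕ) :
    reachFromW nets ws S (k + 1) = reachStepW nets ws (reachFromW nets ws S k) := by
  show forceN (reachFromW nets ws S k) (fun R' => reachStepW nets ws R') = _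
  rw [forceN_eq]

include hn

theorem reachStepW_sound (P : Subgroup (Equiv.Perm ℕ)) (ws : List (List ℕ))
    (hg : ∀ w ∈ ws, wordPerm hn w ∈ P) (s R : ℕ)
    (hR : ∀ i, R.testBit i = true → ∃ σ ∈ P, σ s = i) :
    ∀ i, (reachStepW nets ws R).testBit i = true → ∃ σ ∈ P, σ s = i := by
  unfold reachStepW
  suffices H : ∀ (l : List (List ℕ)), (∀ w ∈ l, wordPerm hn w ∈ P) → ∀ A : ℕ,
      (∀ i, A.testBit i = true → ∃ σ ∈ P, σ s = i) →
      ∀ i, (@List.rec (List ℕ) (fun _ => ℕ → ℕ) (fun A => A)
        (fun w _ ih A => ih (Nat.lor A (wordV nets w R))) l A).testBit i = true →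
        ∃ σ ∈ P, σ s = i from H ws hg R hR
  intro l
  induction l with
  | nil => intro _ A hA i hi; exact hA i hi
  | cons w l ih =>
    intro hl A hA i hi
    refine ih (fun y hy => hl y (List.mem_cons_of_mem _ hy)) (Nat.lor A (wordV nets w R)) ?_ i hi
    intro j hj
    have : (A ||| wordV nets w R).testBit j = true := hj
    rw [Nat.testBit_or, Bool.or_eq_true] at this
    rcases this with h1 | h1
    · exact hA j h1
    · rw [wordV_testBit hn] at h1
      obtain ⟨σ, hσ, e⟩ := hR _ h1
      refine ⟨(wordPerm hn w)⁻¹ * σ, P.mul_mem (P.inv_mem (hl w List.mem_cons_self)) hσ, ?_⟩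
      rw [Equiv.Perm.mul_apply, e, Equiv.Perm.inv_def, Equiv.symm_apply_eq, wordPerm_apply]

theorem reachFromW_sound (P : Subgroup (Equiv.Perm ℕ)) (ws : List (List ℕ))
    (hg : ∀ w ∈ ws, wordPerm hn w ∈ P) (s k : ℕ) :
    ∀ i, (reachFromW nets ws (2 ^ s) k).testBit i = true → ∃ σ ∈ P, σ s = i := by
  induction k with
  | zero =>
    intro i hi
    have h1 : (2 ^ s).testBit i = true := hi
    rw [Nat.testBit_two_pow] at h1
    have : s = i := by simpa using h1
    exact ⟨1, P.one_mem, by simp [this]⟩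
  | succ k ih =>
    rw [reachFromW_succ]
    exact reachStepW_sound hn P ws hg s _ ih

/-- a word fixing the point `s` -/
theorem fixW_of_check (w : List ℕ) (s : ℕ) (h : Nat.beq (wordV nets w (2 ^ s)) (2 ^ s) = true) :
    wordP nets w s = s := by
  have e := Nat.eq_of_beq_eq_true h
  have h1 := wordV_testBit hn w (2 ^ s) s
  rw [e, Nat.testBit_two_pow, Nat.testBit_two_pow] at h1
  have : s = wordP nets w s := by simpa using h1
  exact this.symm

end ReachW

end Cfsg.Agent.Lib.Helper92.VecPerm

namespace Cfsg.Agent.Lib.Helper92.VecPerm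

/-- the listed generators preserve the mask of the first `n` points -/
noncomputable def presCheckG (nets : ℕ → List (ℕ × ℕ)) (gens : List ℕ) (n : ℕ) : Bool :=
  gens.all fun x => Nat.beq (netV (nets x) (Nat.sub (Nat.pow 2 n) 1)) (Nat.sub (Nat.pow 2 n) 1)

theorem pres_of_checkG {nets : ℕ → List (ℕ × ℕ)} {K : ℕ} (hn : ∀ x, NetOK K (nets x))
    (gens : List ℕ) (n : ℕ) (h : presCheckG nets gens n = true) :
    ∀ x ∈ gens, ∀ i, netP (nets x) i < n ↔ i < n := by
  intro x hx i
  unfold presCheckG at h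
  rw [List.all_eq_true] at h
  exact lt_of_check hn x n (h x hx) i

/-- a mask contains the first `n` points -/
noncomputable def coverCheckG (m n : ℕ) : Bool :=
  Nat.beq (Nat.land m (Nat.sub (Nat.pow 2 n) 1)) (Nat.sub (Nat.pow 2 n) 1)

theorem cover_of_checkG (m n : ℕ) (h : coverCheckG m n = true) : ∀ i < n, m.testBit i = true := by
  intro i hi
  have e : m &&& (2 ^ n - 1) = 2 ^ n - 1 := Nat.eq_of_beq_eq_true h
  have : (m &&& (2 ^ n - 1)).testBit i = true := by
    rw [e, Nat.testBit_two_pow_sub_one]; simpa using hi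
  rw [Nat.testBit_and, Bool.and_eq_true] at this
  exact this.1

end Cfsg.Agent.Lib.Helper92.VecPerm
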