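import Cfsg.Agent.Lib.Helper92.M24Invol
import Cfsg.Agent.Lib.Helper92.PermModule

set_option autoImplicit false

namespace Cfsg.Agent.Lib.Helper92

open Cfsg Cfsg.Agent.Lib.Helper10 Cfsg.Agent.Lib.Helper95
open scoped Pointwise
open Classical

/-- counting by fibres of equal size. -/
theorem card_eq_mul_of_fibers {α β : Type*} [DecidableEq β] (s : Finset α) (t : Finset β) (f : α → β)
    (n : ℕ) (hf : ∀ x ∈ s, f x ∈ t) (hn : ∀ y ∈ t, (s.filter (fun x => f x = y)).card = n) :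
    s.card = t.card * n := by
  rw [Finset.card_eq_sum_card_fiberwise hf, Finset.sum_const_nat hn]

/-- a conjugation-invariant set of permutations splits evenly over the images of a point, when
the elements fixing the point and normalising the set are transitive on the possible images. -/
theorem fiber_count (X : Finset (Equiv.Perm GolayPt)) (a q0 : GolayPt) (A : Finset GolayPt)
    (hA : ∀ t ∈ X, t a ∈ A)
    (htrans : ∀ q ∈ A, ∃ g : Equiv.Perm GolayPt, g a = a ∧ g q0 = q ∧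
      ∀ t, t ∈ X ↔ g * t * g⁻¹ ∈ X) :
    X.card = A.card * (X.filter (fun t => t a = q0)).card := by
  apply card_eq_mul_of_fibers X A (fun t => t a) _ hA
  intro q hq
  obtain ⟨g, hga, hgq, hX⟩ := htrans q hq
  symm
  apply Finset.card_bij (fun t _ => g * t * g⁻¹)
  · intro t ht
    rw [Finset.mem_filter] at ht ⊢
    refine ⟨(hX t).mp ht.1, ?_⟩
    show g (t (g⁻¹ a)) = q
    have h1 : g⁻¹ a = a := by rw [Equiv.Perm.inv_eq_iff_eq, hga]
    rw [h1, ht.2, hgq]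
  · intro t _ t' _ h
    simpa using h
  · intro t' ht'
    rw [Finset.mem_filter] at ht'
    refine ⟨g⁻¹ * t' * g, ?_, by group⟩
    rw [Finset.mem_filter]
    constructor
    · rw [hX]
      have h1 : g * (g⁻¹ * t' * g) * g⁻¹ = t' := by group
      rw [h1]
      exact ht'.1
    · show g⁻¹ (t' (g a)) = q0
      rw [hga, ht'.2, Equiv.Perm.inv_eq_iff_eq, hgq]

/-- the class equation for one class: the group order is the class size times the order of the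
centraliser. -/
theorem card_mul_centralizer (t : Equiv.Perm GolayPt) (X : Finset (Equiv.Perm GolayPt))
    (hX : ∀ x, x ∈ X ↔ ∃ g ∈ M24, g * t * g⁻¹ = x) :
    (Finset.univ.filter (fun g : Equiv.Perm GolayPt => g ∈ M24)).card =
      X.card *
        (Finset.univ.filter (fun c : Equiv.Perm GolayPt => c ∈ M24 ∧ c * t = t * c)).card := by
  apply card_eq_mul_of_fibers _ X (fun g => g * t * g⁻¹)
  · intro g hg
    rw [Finset.mem_filter] at hg
    exact (hX _).mpr ⟨g, hg.2, rfl⟩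
  · intro x hx
    obtain ⟨g0, hg0, rfl⟩ := (hX x).mp hx
    symm
    apply Finset.card_bij (fun c _ => g0 * c)
    · intro c hc
      simp only [Finset.mem_filter, Finset.mem_univ, true_and] at hc ⊢
      refine ⟨M24.mul_mem hg0 hc.1, ?_⟩
      calc g0 * c * t * (g0 * c)⁻¹ = g0 * (c * t) * c⁻¹ * g0⁻¹ := by group
        _ = g0 * (t * c) * c⁻¹ * g0⁻¹ := by rw [hc.2]
        _ = g0 * t * g0⁻¹ := by group
    · intro c _ c' _ h
      exact mul_left_cancel h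
    · intro g hg
      simp only [Finset.mem_filter, Finset.mem_univ, true_and] at hg
      refine ⟨g0⁻¹ * g, ?_, by group⟩
      simp only [Finset.mem_filter, Finset.mem_univ, true_and]
      refine ⟨M24.mul_mem (M24.inv_mem hg0) hg.1, ?_⟩
      have h1 := hg.2
      calc g0⁻¹ * g * t = g0⁻¹ * (g * t * g⁻¹) * g := by group
        _ = g0⁻¹ * (g0 * t * g0⁻¹) * g := by rw [h1]
        _ = t * (g0⁻¹ * g) := by group

theorem card_M24_filter :
    (Finset.univ.filter (fun g : Equiv.Perm GolayPt => g ∈ M24)).card = 244823040 := by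
  rw [← card_M24, Nat.card_eq_fintype_card, Fintype.card_subtype]

/-! ### table checks -/

/-- table check that a word is an involution without fixed points. -/
def isFpfInvolTab (w : List ℕ) : Bool :=
  (List.range 24).all (fun i => evalW w (evalW w i) == i && evalW w i != i)

theorem isFpfInvolTab_of {w : List ℕ} (h2 : wordPerm w * wordPerm w = 1)
    (h1 : ∀ p, wordPerm w p ≠ p) : isFpfInvolTab w = true := by
  unfold isFpfInvolTab
  rw [List.all_eq_true]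
  intro i hi
  have hi' : i < 24 := List.mem_range.mp hi
  rw [Bool.and_eq_true]
  constructor
  · have h := congrArg (fun σ : Equiv.Perm GolayPt => idx (σ (pt i))) h2
    simp only [Equiv.Perm.coe_mul, Function.comp_apply, Equiv.Perm.coe_one, id_eq] at h
    rw [evalW_spec, evalW_spec, idx_pt hi'] at h
    simpa using h
  · have h := h1 (pt i)
    rw [Ne, wordPerm_fix_iff, idx_pt hi'] at h
    simpa using h

theorem isFpfInvolTab_spec {w : List ℕ} (h : isFpfInvolTab w = true) :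
    wordPerm w * wordPerm w = 1 ∧ ∀ p, wordPerm w p ≠ p := by
  unfold isFpfInvolTab at h
  rw [List.all_eq_true] at h
  constructor
  · apply perm_ext_idx
    intro j
    show idx (wordPerm w (wordPerm w (pt j))) = idx ((1 : Equiv.Perm GolayPt) (pt j))
    rw [evalW_spec, evalW_spec, idx_pt j.2]
    show _ = idx (pt j)
    rw [idx_pt j.2]
    have := h j (List.mem_range.mpr j.2)
    rw [Bool.and_eq_true] at this
    simpa using this.1
  · intro p
    rw [Ne, wordPerm_fix_iff]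
    have := h (idx p) (List.mem_range.mpr (idx_lt p))
    rw [Bool.and_eq_true] at this
    simpa using this.2

/-- the table of a permutation. -/
def tabOf (σ : Equiv.Perm GolayPt) : List ℕ := (List.range 24).map (fun i => idx (σ (pt i)))

/-- the table of a word. -/
def tabW (w : List ℕ) : List ℕ := (List.range 24).map (fun i => evalW w i)

theorem tabOf_wordPerm (w : List ℕ) : tabOf (wordPerm w) = tabW w := by
  unfold tabOf tabW
  apply List.map_congr_left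
  intro i hi
  exact idx_wordPerm_pt w (List.mem_range.mp hi)

theorem nodup_map_wordPerm {α : Type*} (l : List α) (f : α → List ℕ)
    (h : (l.map (fun k => tabW (f k))).Nodup) : (l.map (fun k => wordPerm (f k))).Nodup := by
  have h1 : (l.map (fun k => wordPerm (f k))).map tabOf = l.map (fun k => tabW (f k)) := by
    rw [List.map_map]
    apply List.map_congr_left
    intro k _
    exact tabOf_wordPerm (f k)
  rw [← h1] at h
  exact List.Nodup.of_map _ h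


/-! ### masks -/

theorem fs_inter (a b : ℕ) : fs (a &&& b) = fs a ∩ fs b := by
  ext p
  simp [mem_fs, Nat.testBit_and]

theorem fs_union (a b : ℕ) : fs (a ||| b) = fs a ∪ fs b := by
  ext p
  simp [mem_fs, Nat.testBit_or]

theorem fs_injOn {a b : ℕ} (ha : a < 2 ^ 24) (hb : b < 2 ^ 24) (h : fs a = fs b) : a = b := by
  apply Nat.eq_of_testBit_eq
  intro i
  by_cases hi : i < 24
  · have h1 := Finset.ext_iff.mp h (pt i)
    rw [mem_fs, mem_fs, idx_pt hi] at h1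
    exact Bool.eq_iff_iff.mpr h1
  · have h24 : 2 ^ 24 ≤ 2 ^ i := Nat.pow_le_pow_right (by norm_num) (not_lt.mp hi)
    rw [Nat.testBit_lt_two_pow (lt_of_lt_of_le ha h24),
      Nat.testBit_lt_two_pow (lt_of_lt_of_le hb h24)]

theorem pmT_lt (t : List ℕ) (m : ℕ) : pmT t m < 2 ^ 24 := Nat.ofBits_lt_two_pow _

/-- the action of the inverse of a word on a set given by a mask. -/
theorem smul_fs_inv (wd t : List ℕ) (ht : ∀ i : Fin 24, evalW wd i = t.getD i 0) (m : ℕ) :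
    (wordPerm wd)⁻¹ • fs m = fs (pmT t m) := by
  ext p
  rw [← Finset.inv_smul_mem_iff, inv_inv, mem_fs, mem_fs, testBit_pmT]
  show m.testBit (idx (wordPerm wd p)) = true ↔ _
  rw [evalW_spec, ← ht ⟨idx p, idx_lt p⟩]
  simp [idx_lt p]

/-- every octad is given by a mask of the code of weight 8. -/
theorem octad_eq_fs {o : Finset GolayPt} (ho : o ∈ octads) :
    ∃ w ∈ golayCode, o = fs (wmask w) ∧ pc (wmask w) = 8 := by
  obtain ⟨w, hw, rfl, hc⟩ := (mem_octads_iff o).mp ho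
  refine ⟨w, hw, support₂_eq_fs w, ?_⟩
  rw [← card_support₂]
  exact hc


/-! ### arithmetic of tables -/

/-- composition of tables: the entry at `i` is `a[b[i]]`. -/
def compT (a b : List ℕ) : List ℕ := b.map (fun j => a.getD j 0)

theorem tabW_getD (w : List ℕ) {j : ℕ} (hj : j < 24) : (tabW w).getD j 0 = evalW w j := by
  unfold tabW
  rw [List.getD_eq_getElem _ _ (by simpa using hj)]
  simp

theorem tabW_append (a b : List ℕ) : tabW (a ++ b) = compT (tabW a) (tabW b) := by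
  show (List.range 24).map (fun i => evalW (a ++ b) i) =
    ((List.range 24).map (fun i => evalW b i)).map (fun j => (tabW a).getD j 0)
  rw [List.map_map]
  apply List.map_congr_left
  intro i hi
  rw [evalW_append]
  exact (tabW_getD a (evalW_lt b (List.mem_range.mp hi))).symm

/-- table check for an involution without fixed points. -/
def isFpfInvolT (t : List ℕ) : Bool :=
  (List.range 24).all (fun i => t.getD (t.getD i 0) 0 == i && t.getD i 0 != i)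

theorem isFpfInvolT_tabW (w : List ℕ) : isFpfInvolT (tabW w) = isFpfInvolTab w := by
  unfold isFpfInvolT isFpfInvolTab
  rw [Bool.eq_iff_iff, List.all_eq_true, List.all_eq_true]
  constructor
  · intro h i hi
    have hi' : i < 24 := List.mem_range.mp hi
    have := h i hi
    rwa [tabW_getD w hi', tabW_getD w (evalW_lt w hi')] at this
  · intro h i hi
    have hi' : i < 24 := List.mem_range.mp hi
    rw [tabW_getD w hi', tabW_getD w (evalW_lt w hi')]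
    exact h i hi

def tab5 : List (List ℕ) := [
  [0, 1, 2, 3, 4, 5, 6, 7, 8, 9, 10, 11, 12, 13, 14, 15, 16, 17, 18, 19, 20, 21, 22, 23],
  [0, 1, 2, 3, 4, 5, 6, 7, 8, 9, 10, 11, 12, 13, 14, 15, 16, 17, 18, 19, 20, 21, 22, 23],
  [0, 1, 2, 3, 4, 5, 6, 7, 8, 9, 10, 11, 12, 13, 14, 15, 16, 17, 18, 19, 20, 21, 22, 23],
  [0, 1, 2, 3, 4, 5, 6, 7, 8, 9, 10, 11, 12, 13, 14, 15, 16, 17, 18, 19, 20, 21, 22, 23],
  [0, 1, 2, 3, 4, 5, 6, 7, 8, 9, 10, 11, 12, 13, 14, 15, 16, 17, 18, 19, 20, 21, 22, 23],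
  [0, 1, 2, 3, 4, 5, 6, 7, 8, 9, 10, 11, 12, 13, 14, 15, 16, 17, 18, 19, 20, 21, 22, 23],
  [0, 1, 2, 3, 6, 5, 4, 22, 20, 12, 11, 10, 9, 19, 14, 18, 21, 17, 15, 13, 8, 16, 7, 23],
  [0, 1, 2, 3, 7, 14, 8, 12, 13, 15, 10, 16, 4, 6, 17, 20, 21, 5, 22, 18, 9, 11, 19, 23],
  [0, 1, 2, 3, 8, 14, 7, 19, 9, 4, 16, 10, 15, 18, 17, 22, 11, 5, 20, 6, 13, 21, 12, 23],
  [0, 1, 2, 3, 9, 14, 13, 22, 8, 21, 6, 18, 11, 10, 17, 19, 15, 5, 12, 16, 7, 4, 20, 23],
  [0, 1, 2, 3, 10, 14, 16, 4, 18, 19, 7, 8, 12, 9, 17, 21, 20, 5, 11, 13, 6, 22, 15, 23],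
  [0, 1, 2, 3, 11, 14, 21, 6, 15, 13, 22, 20, 9, 12, 17, 16, 8, 5, 10, 19, 4, 7, 18, 23],
  [0, 1, 2, 3, 12, 5, 9, 10, 16, 6, 7, 22, 4, 18, 14, 19, 8, 17, 13, 15, 21, 20, 11, 23],
  [0, 1, 2, 3, 13, 17, 12, 18, 15, 7, 21, 10, 20, 22, 5, 19, 16, 14, 9, 8, 6, 11, 4, 23],
  [0, 1, 2, 3, 4, 5, 6, 7, 8, 9, 10, 11, 12, 13, 14, 15, 16, 17, 18, 19, 20, 21, 22, 23],
  [0, 1, 2, 3, 15, 5, 18, 8, 7, 13, 16, 21, 19, 9, 14, 4, 10, 17, 6, 12, 22, 11, 20, 23],
  [0, 1, 2, 3, 16, 14, 10, 15, 6, 12, 8, 7, 19, 13, 17, 11, 22, 5, 21, 9, 18, 20, 4, 23],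
  [0, 1, 2, 3, 4, 5, 6, 7, 8, 9, 10, 11, 12, 13, 14, 15, 16, 17, 18, 19, 20, 21, 22, 23],
  [0, 1, 2, 3, 18, 17, 4, 13, 19, 10, 20, 7, 21, 11, 5, 15, 8, 14, 6, 16, 9, 22, 12, 23],
  [0, 1, 2, 3, 19, 14, 12, 8, 22, 10, 15, 4, 16, 21, 17, 9, 6, 5, 13, 11, 20, 18, 7, 23],
  [0, 1, 2, 3, 20, 17, 7, 21, 16, 12, 18, 4, 13, 9, 5, 8, 15, 14, 22, 19, 11, 6, 10, 23],
  [0, 1, 2, 3, 21, 5, 16, 13, 9, 8, 18, 15, 20, 7, 14, 11, 6, 17, 10, 22, 12, 4, 19, 23],
  [0, 1, 2, 3, 22, 17, 8, 11, 10, 19, 6, 15, 9, 13, 5, 7, 4, 14, 20, 12, 21, 18, 16, 23],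
  [0, 1, 2, 3, 4, 5, 6, 7, 8, 9, 10, 11, 12, 13, 14, 15, 16, 17, 18, 19, 20, 21, 22, 23]]

def tab6 : List (List ℕ) := [
  [0, 1, 2, 3, 4, 5, 6, 7, 8, 9, 10, 11, 12, 13, 14, 15, 16, 17, 18, 19, 20, 21, 22, 23],
  [0, 1, 2, 3, 4, 5, 6, 7, 8, 9, 10, 11, 12, 13, 14, 15, 16, 17, 18, 19, 20, 21, 22, 23],
  [0, 1, 2, 3, 4, 5, 6, 7, 8, 9, 10, 11, 12, 13, 14, 15, 16, 17, 18, 19, 20, 21, 22, 23],
  [0, 1, 2, 3, 4, 5, 6, 7, 8, 9, 10, 11, 12, 13, 14, 15, 16, 17, 18, 19, 20, 21, 22, 23],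
  [0, 1, 2, 3, 4, 5, 6, 7, 8, 9, 10, 11, 12, 13, 14, 15, 16, 17, 18, 19, 20, 21, 22, 23],
  [0, 1, 2, 3, 4, 5, 6, 7, 8, 9, 10, 11, 12, 13, 14, 15, 16, 17, 18, 19, 20, 21, 22, 23],
  [0, 1, 2, 3, 4, 5, 6, 7, 8, 9, 10, 11, 12, 13, 14, 15, 16, 17, 18, 19, 20, 21, 22, 23],
  [0, 1, 2, 3, 4, 5, 6, 7, 8, 9, 10, 11, 12, 13, 14, 15, 16, 17, 18, 19, 20, 21, 22, 23],
  [0, 1, 2, 3, 4, 5, 6, 7, 8, 9, 10, 11, 12, 13, 14, 15, 16, 17, 18, 19, 20, 21, 22, 23],
  [0, 1, 2, 3, 4, 5, 6, 7, 8, 9, 10, 11, 12, 13, 14, 15, 16, 17, 18, 19, 20, 21, 22, 23],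
  [0, 1, 2, 3, 4, 5, 6, 7, 8, 9, 10, 11, 12, 13, 14, 15, 16, 17, 18, 19, 20, 21, 22, 23],
  [0, 1, 2, 3, 4, 5, 6, 7, 8, 9, 10, 11, 12, 13, 14, 15, 16, 17, 18, 19, 20, 21, 22, 23],
  [0, 1, 2, 3, 4, 5, 6, 7, 8, 9, 10, 11, 12, 13, 14, 15, 16, 17, 18, 19, 20, 21, 22, 23],
  [0, 1, 2, 3, 4, 5, 6, 7, 8, 9, 10, 11, 12, 13, 14, 15, 16, 17, 18, 19, 20, 21, 22, 23],
  [0, 1, 2, 3, 4, 14, 15, 10, 21, 8, 12, 19, 7, 22, 17, 18, 13, 5, 6, 20, 11, 9, 16, 23],
  [0, 1, 2, 3, 4, 5, 6, 7, 8, 9, 10, 11, 12, 13, 14, 15, 16, 17, 18, 19, 20, 21, 22, 23],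
  [0, 1, 2, 3, 4, 5, 6, 7, 8, 9, 10, 11, 12, 13, 14, 15, 16, 17, 18, 19, 20, 21, 22, 23],
  [0, 1, 2, 3, 4, 17, 18, 12, 9, 21, 7, 20, 10, 16, 5, 6, 22, 14, 15, 11, 19, 8, 13, 23],
  [0, 1, 2, 3, 4, 5, 6, 7, 8, 9, 10, 11, 12, 13, 14, 15, 16, 17, 18, 19, 20, 21, 22, 23],
  [0, 1, 2, 3, 4, 5, 6, 7, 8, 9, 10, 11, 12, 13, 14, 15, 16, 17, 18, 19, 20, 21, 22, 23],
  [0, 1, 2, 3, 4, 5, 6, 7, 8, 9, 10, 11, 12, 13, 14, 15, 16, 17, 18, 19, 20, 21, 22, 23],
  [0, 1, 2, 3, 4, 5, 6, 7, 8, 9, 10, 11, 12, 13, 14, 15, 16, 17, 18, 19, 20, 21, 22, 23],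
  [0, 1, 2, 3, 4, 5, 6, 7, 8, 9, 10, 11, 12, 13, 14, 15, 16, 17, 18, 19, 20, 21, 22, 23],
  [0, 1, 2, 3, 4, 5, 6, 7, 8, 9, 10, 11, 12, 13, 14, 15, 16, 17, 18, 19, 20, 21, 22, 23]]

theorem tab5_spec : ∀ c : Fin 24, tabW (wordAt 5 c) = tab5.getD c [] := by decide +kernel

theorem tab6_spec : ∀ c : Fin 24, tabW (wordAt 6 c) = tab6.getD c [] := by decide +kernel

/-- the table of a candidate with prefix table `T` and tail `(c5, c6)`. -/
def candT (T : List ℕ) (c5 c6 : ℕ) : List ℕ := compT T (compT (tab5.getD c5 []) (tab6.getD c6 []))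

theorem tabW_cand (W : List ℕ) (c5 c6 : Fin 24) :
    tabW (W ++ wordAt 5 c5 ++ wordAt 6 c6) = candT (tabW W) c5 c6 := by
  rw [List.append_assoc, tabW_append, tabW_append, tab5_spec, tab6_spec]
  rfl

end Cfsg.Agent.Lib.Helper92
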