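import Cfsg.Agent.Lib.Helper92.M24Class

set_option autoImplicit false

namespace Cfsg.Agent.Lib.Helper92

open Cfsg Cfsg.Agent.Lib.Helper10 Cfsg.Agent.Lib.Helper95
open scoped Pointwise
open Classical

/-! ### the class of involutions without fixed points -/

/-- the involutions of the group without fixed points. -/
noncomputable def fpfInvols : Finset (Equiv.Perm GolayPt) :=
  Finset.univ.filter (fun t => t ∈ M24 ∧ t * t = 1 ∧ ∀ p, t p ≠ p)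

theorem mem_fpfInvols (t : Equiv.Perm GolayPt) :
    t ∈ fpfInvols ↔ t ∈ M24 ∧ t * t = 1 ∧ ∀ p, t p ≠ p := by
  unfold fpfInvols
  rw [Finset.mem_filter]
  simp

theorem fpfInvols_conj {g : Equiv.Perm GolayPt} (hg : g ∈ M24) (t : Equiv.Perm GolayPt) :
    t ∈ fpfInvols ↔ g * t * g⁻¹ ∈ fpfInvols := by
  rw [mem_fpfInvols, mem_fpfInvols]
  constructor
  · rintro ⟨h1, h2, h3⟩
    refine ⟨M24.mul_mem (M24.mul_mem hg h1) (M24.inv_mem hg), ?_, ?_⟩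
    · calc g * t * g⁻¹ * (g * t * g⁻¹) = g * (t * t) * g⁻¹ := by group
        _ = 1 := by rw [h2]; group
    · intro p h
      apply h3 (g⁻¹ p)
      have h4 : g (t (g⁻¹ p)) = p := h
      apply g.injective
      rw [h4]
      simp
  · rintro ⟨h1, h2, h3⟩
    refine ⟨?_, ?_, ?_⟩
    · have h4 : t = g⁻¹ * (g * t * g⁻¹) * g := by group
      rw [h4]
      exact M24.mul_mem (M24.mul_mem (M24.inv_mem hg) h1) hg
    · have h4 : t * t = g⁻¹ * (g * t * g⁻¹ * (g * t * g⁻¹)) * g := by group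
      rw [h4, h2]
      group
    · intro p h
      apply h3 (g p)
      show g (t (g⁻¹ (g p))) = g p
      have h4 : g⁻¹ (g p) = p := by simp
      rw [h4, h]

def l3Words : List (List ℕ) := [
  [],
  [],
  [],
  [],
  [1, 0, 4, 4, 3, 2, 0, 0, 0, 2, 0, 2, 0, 2, 2, 3, 2, 2, 0, 4, 4, 0, 0, 4, 4, 0, 2, 3],
  [1, 0, 4, 4, 3, 2, 0, 0, 0, 2, 0, 2, 0, 2, 2, 3, 3, 4, 0, 0, 0, 4, 3, 3, 3, 2, 0],
  [1, 0, 4, 4, 3, 2, 0, 0, 0, 2, 0, 2, 0, 2, 2, 3, 4, 4, 1, 3, 3, 4, 4, 3, 4, 4, 0, 2, 1],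
  [1, 0, 4, 4, 3, 2, 0, 0, 0, 2, 0, 2, 0, 2, 2, 3, 4, 3, 2, 3, 2, 3, 4, 0, 2, 0],
  [1, 0, 4, 4, 3, 2, 0, 0, 0, 2, 0, 2, 0, 2, 2, 3, 0, 0, 0, 0, 0, 4, 0, 0, 0, 0, 2],
  [1, 0, 4, 4, 3, 2, 0, 0, 0, 2, 0, 2, 0, 2, 2, 3, 2, 0, 0, 0, 2, 2, 3, 4, 0],
  [1, 0, 4, 4, 3, 2, 0, 0, 0, 2, 0, 2, 0, 2, 2, 3],
  [1, 0, 4, 4, 3, 2, 0, 0, 0, 2, 0, 2, 0, 2, 2, 3, 3, 4, 3, 2, 0, 4, 0, 4, 0, 2],
  [1, 0, 4, 4, 3, 2, 0, 0, 0, 2, 0, 2, 0, 2, 2, 3, 2, 2, 1, 0, 0, 0, 2, 3, 3, 2, 1],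
  [1, 0, 4, 4, 3, 2, 0, 0, 0, 2, 0, 2, 0, 2, 2, 3, 3, 4, 0, 0, 0, 2, 3, 3, 3, 2, 0],
  [1, 0, 4, 4, 3, 2, 0, 0, 0, 2, 0, 2, 0, 2, 2, 3, 0, 2, 2, 3, 4, 3, 3, 3, 2, 3, 2, 0],
  [1, 0, 4, 4, 3, 2, 0, 0, 0, 2, 0, 2, 0, 2, 2, 3, 3, 4, 4, 3, 3, 3, 4, 3, 2, 0, 0],
  [1, 0, 4, 4, 3, 2, 0, 0, 0, 2, 0, 2, 0, 2, 2, 3, 2, 3, 3, 4, 3, 3, 2, 0, 4, 4, 3],
  [1, 0, 4, 4, 3, 2, 0, 0, 0, 2, 0, 2, 0, 2, 2, 3, 0, 4, 3, 4, 3, 3, 4, 4, 0, 2, 0],
  [1, 0, 4, 4, 3, 2, 0, 0, 0, 2, 0, 2, 0, 2, 2, 3, 3, 4, 3, 2, 2, 0, 0, 2, 0, 2, 3],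
  [1, 0, 4, 4, 3, 2, 0, 0, 0, 2, 0, 2, 0, 2, 2, 3, 3, 3, 2, 3, 4, 3, 3, 2, 2],
  [1, 0, 4, 4, 3, 2, 0, 0, 0, 2, 0, 2, 0, 2, 2, 3, 3, 2, 0, 4, 4, 3, 3, 3, 4],
  [1, 0, 4, 4, 3, 2, 0, 0, 0, 2, 0, 2, 0, 2, 2, 3, 4, 4, 0, 0, 2, 0, 4, 0, 0],
  [1, 0, 4, 4, 3, 2, 0, 0, 0, 2, 0, 2, 0, 2, 2, 3, 0, 2, 0, 2, 0, 2],
  []]

def l3Tabs : List (List ℕ) := [
  [],
  [],
  [],
  [],
  [23, 2, 1, 4, 21, 16, 17, 5, 18, 10, 20, 8, 12, 7, 22, 15, 6, 13, 11, 3, 9, 14, 19, 0],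
  [23, 2, 1, 5, 20, 3, 11, 12, 6, 22, 4, 19, 21, 10, 17, 16, 9, 14, 7, 8, 13, 18, 15, 0],
  [23, 2, 1, 6, 5, 19, 12, 8, 20, 22, 16, 10, 9, 3, 21, 13, 17, 7, 15, 11, 4, 18, 14, 0],
  [23, 2, 1, 7, 22, 6, 18, 8, 17, 10, 20, 5, 3, 4, 21, 15, 16, 19, 14, 12, 9, 11, 13, 0],
  [23, 2, 1, 8, 6, 11, 14, 5, 10, 13, 16, 15, 9, 7, 12, 4, 19, 18, 20, 17, 22, 3, 21, 0],
  [23, 2, 1, 9, 18, 15, 19, 21, 16, 3, 17, 13, 22, 11, 20, 5, 8, 10, 4, 6, 14, 7, 12, 0],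
  [23, 2, 1, 10, 22, 15, 21, 6, 17, 11, 12, 3, 14, 13, 9, 8, 4, 20, 5, 19, 18, 7, 16, 0],
  [23, 2, 1, 11, 22, 8, 9, 15, 17, 7, 19, 14, 5, 16, 18, 6, 13, 12, 3, 20, 21, 10, 4, 0],
  [23, 2, 1, 12, 10, 11, 7, 6, 5, 16, 22, 17, 14, 9, 18, 4, 20, 8, 3, 21, 13, 19, 15, 0],
  [23, 2, 1, 13, 11, 16, 14, 17, 9, 21, 6, 15, 20, 18, 4, 19, 12, 22, 10, 3, 7, 5, 8, 0],
  [23, 2, 1, 14, 11, 17, 10, 9, 16, 6, 7, 22, 4, 8, 3, 19, 18, 5, 13, 20, 21, 15, 12, 0],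
  [23, 2, 1, 15, 22, 9, 14, 5, 12, 21, 19, 8, 11, 4, 10, 7, 16, 20, 18, 17, 6, 3, 13, 0],
  [23, 2, 1, 16, 18, 13, 17, 14, 9, 7, 19, 15, 20, 11, 22, 6, 8, 4, 10, 5, 21, 3, 12, 0],
  [23, 2, 1, 17, 12, 3, 22, 16, 6, 9, 15, 21, 7, 8, 14, 20, 11, 5, 19, 13, 10, 4, 18, 0],
  [23, 2, 1, 18, 21, 12, 3, 17, 10, 4, 22, 15, 9, 19, 11, 13, 7, 8, 20, 5, 16, 14, 6, 0],
  [23, 2, 1, 19, 11, 7, 10, 15, 3, 4, 22, 17, 5, 18, 21, 13, 12, 6, 14, 9, 16, 20, 8, 0],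
  [23, 2, 1, 20, 14, 15, 6, 19, 12, 13, 16, 11, 18, 3, 10, 4, 5, 9, 8, 21, 22, 7, 17, 0],
  [23, 2, 1, 21, 12, 6, 9, 20, 3, 22, 4, 17, 5, 8, 19, 16, 11, 7, 14, 10, 13, 15, 18, 0],
  [23, 2, 1, 22, 10, 4, 21, 6, 11, 17, 14, 18, 12, 20, 16, 5, 15, 13, 8, 19, 3, 7, 9, 0],
  []]

def l3Keys : List (ℕ × ℕ × ℕ) := [(4, 19, 5), (4, 19, 14), (4, 19, 17), (5, 6, 5), (5, 7, 17), (5, 9, 17), (5, 15, 5), (5, 19, 17), (5, 21, 5), (6, 9, 5), (6, 12, 17), (6, 19, 17), (7, 4, 17), (7, 7, 5), (7, 10, 17), (8, 4, 14), (8, 8, 14), (8, 9, 17), (9, 4, 5), (9, 8, 14), (9, 21, 14), (10, 6, 5), (10, 9, 14), (10, 22, 17), (11, 7, 14), (11, 9, 5), (11, 16, 17), (12, 13, 14), (12, 20, 17), (12, 21, 17), (13, 6, 5), (13, 7, 14), (13, 21, 14), (14, 8, 17), (14, 9, 17), (14, 10, 17), (14, 15, 5), (14, 18, 14), (14, 20, 14), (15, 10, 5), (15, 11, 17), (15, 16, 14), (16, 6, 5), (16, 7, 5), (16, 19, 14), (17,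 6, 14), (17, 9, 5), (17, 10, 5), (17, 15, 14), (17, 19, 5), (17, 20, 17), (18, 4, 14), (18, 15, 5), (18, 18, 5), (19, 6, 14), (19, 10, 17), (19, 13, 5), (20, 6, 17), (20, 8, 5), (20, 10, 17), (21, 4, 17), (21, 9, 17), (21, 21, 14), (22, 9, 5), (22, 10, 14), (22, 15, 5)]

theorem l3Words_spec : ∀ q : Fin 24, okTarget 4 q = true → q.val ≠ 3 →
    evalW (l3Words.getD q []) 23 = 0 ∧ evalW (l3Words.getD q []) 0 = 23 ∧
    evalW (l3Words.getD q []) 1 = 2 ∧ evalW (l3Words.getD q []) 2 = 1 ∧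
    evalW (l3Words.getD q []) 3 = q := by decide +kernel

theorem l3Tabs_spec : ∀ q : Fin 24, okTarget 4 q = true → q.val ≠ 3 →
    tabW (l3Words.getD q []) = l3Tabs.getD q [] := by decide +kernel

/-- the candidate with the given key. -/
def l3Cand (k : ℕ × ℕ × ℕ) : List ℕ := l3Words.getD k.1 [] ++ wordAt 5 k.2.1 ++ wordAt 6 k.2.2

/-- the table of the candidate with the given key. -/
def l3CandT (k : ℕ × ℕ × ℕ) : List ℕ := candT (l3Tabs.getD k.1 []) k.2.1 k.2.2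

theorem tabW_l3Cand (q c5 c6 : Fin 24) (hq : okTarget 4 q = true) (hq3 : q.val ≠ 3) :
    tabW (l3Cand (q.val, c5.val, c6.val)) = l3CandT (q.val, c5.val, c6.val) := by
  unfold l3Cand l3CandT
  rw [tabW_cand, l3Tabs_spec q hq hq3]

theorem l3_check : ∀ q c5 c6 : Fin 24, okTarget 4 q = true → q.val ≠ 3 → okTarget 5 c5 = true →
    okTarget 6 c6 = true → isFpfInvolT (l3CandT (q.val, c5.val, c6.val)) = true →
    (q.val, c5.val, c6.val) ∈ l3Keys := by decide +kernel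

theorem l3Keys_ok : ∀ k ∈ l3Keys, k.1 < 24 ∧ k.2.1 < 24 ∧ k.2.2 < 24 ∧ okTarget 4 k.1 = true ∧
    k.1 ≠ 3 ∧ isFpfInvolT (l3CandT k) = true ∧ (l3CandT k).getD 23 0 = 0 ∧
    (l3CandT k).getD 1 0 = 2 := by decide +kernel

theorem l3Keys_nodup : (l3Keys.map l3CandT).Nodup := by decide +kernel


theorem tabW_l3Cand_of_mem {k : ℕ × ℕ × ℕ} (hk : k ∈ l3Keys) : tabW (l3Cand k) = l3CandT k := by
  obtain ⟨h1, h2, h3, h4, h5, -⟩ := l3Keys_ok k hk
  exact tabW_l3Cand ⟨k.1, h1⟩ ⟨k.2.1, h2⟩ ⟨k.2.2, h3⟩ h4 h5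

/-- the involutions without fixed points that swap the first two base points and the next two. -/
noncomputable def fpfInvols2 : Finset (Equiv.Perm GolayPt) :=
  (fpfInvols.filter (fun t => t (bpt 0) = bpt 1)).filter (fun t => t (bpt 2) = bpt 3)

theorem okTarget4_of : ∀ n : Fin 24, n.val ≠ 23 → n.val ≠ 0 → n.val ≠ 1 → n.val ≠ 2 →
    okTarget 4 n = true := by decide

theorem pt_ne : ∀ i j : Fin 24, i ≠ j → pt i ≠ pt j := by decide

theorem bpt_ne {i j : ℕ} (hi : i < 7) (hj : j < 7) (hij : i ≠ j) : bpt i ≠ bpt j :=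
  fun h => hij (bpt_injective hi hj h)

theorem fpfInvols2_eq :
    fpfInvols2 = (l3Keys.map (fun k => wordPerm (l3Cand k))).toFinset := by
  ext x
  rw [List.mem_toFinset, List.mem_map]
  unfold fpfInvols2
  rw [Finset.mem_filter, Finset.mem_filter, mem_fpfInvols]
  constructor
  · rintro ⟨⟨⟨hx, hxx, hfpf⟩, h01⟩, h23⟩
    have hxx' : ∀ p, x (x p) = p := fun p => by
      have := congrArg (fun σ : Equiv.Perm GolayPt => σ p) hxx
      simpa using this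
    have e0 : x (pt 23) = pt 0 := h01
    have e1 : x (pt 0) = pt 23 := by rw [← e0, hxx']
    have e2 : x (pt 1) = pt 2 := h23
    have e3 : x (pt 2) = pt 1 := by rw [← e2, hxx']
    have e4 : x (pt 3) = pt (idx (x (pt 3))) := (pt_idx _).symm
    have hinj : ∀ {i j : ℕ}, i < 24 → x (pt i) = pt j → idx (x (pt 3)) = j → i = 3 := by
      intro i j hi h1 h2
      rw [← h2, pt_idx] at h1
      have h3 := x.injective h1
      have h4 := congrArg idx h3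
      rwa [idx_pt hi, idx_pt (by norm_num)] at h4
    have n23 : idx (x (pt 3)) ≠ 23 := fun h => absurd (hinj (by norm_num) e1 h) (by norm_num)
    have n0 : idx (x (pt 3)) ≠ 0 := fun h => absurd (hinj (by norm_num) e0 h) (by norm_num)
    have n1 : idx (x (pt 3)) ≠ 1 := fun h => absurd (hinj (by norm_num) e3 h) (by norm_num)
    have n2 : idx (x (pt 3)) ≠ 2 := fun h => absurd (hinj (by norm_num) e2 h) (by norm_num)
    have n3 : idx (x (pt 3)) ≠ 3 := by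
      intro h
      apply hfpf (pt 3)
      rw [e4, h]
    set q : Fin 24 := ⟨idx (x (pt 3)), idx_lt _⟩ with hq
    have hok : okTarget 4 q = true := okTarget4_of q n23 n0 n1 n2
    obtain ⟨s0, s1, s2, s3, s4⟩ := l3Words_spec q hok n3
    have hbase : ∀ i < 5, x (bpt i) = wordPerm (l3Words.getD q []) (bpt i) := by
      intro i hi
      interval_cases i
      · show x (pt 23) = wordPerm _ (pt 23)
        rw [e0, wordPerm_pt (by norm_num) s0]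
      · show x (pt 0) = wordPerm _ (pt 0)
        rw [e1, wordPerm_pt (by norm_num) s1]
      · show x (pt 1) = wordPerm _ (pt 1)
        rw [e2, wordPerm_pt (by norm_num) s2]
      · show x (pt 2) = wordPerm _ (pt 2)
        rw [e3, wordPerm_pt (by norm_num) s3]
      · show x (pt 3) = wordPerm _ (pt 3)
        rw [wordPerm_pt (by norm_num) s4]
        exact e4
    obtain ⟨c5, c6, h5, h6, hxeq⟩ := eq_candidate _ x hx hbase
    have hxeq' : x = wordPerm (l3Cand (q.val, c5.val, c6.val)) := hxeq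
    refine ⟨(q.val, c5.val, c6.val), ?_, hxeq'.symm⟩
    apply l3_check q c5 c6 hok n3 h5 h6
    rw [← tabW_l3Cand q c5 c6 hok n3, isFpfInvolT_tabW]
    apply isFpfInvolTab_of
    · rw [← hxeq']; exact hxx
    · rw [← hxeq']; exact hfpf
  · rintro ⟨k, hk, rfl⟩
    obtain ⟨h1, h2, h3, h4, h5, h6, h7, h8⟩ := l3Keys_ok k hk
    have htab := tabW_l3Cand_of_mem hk
    have hfi : isFpfInvolTab (l3Cand k) = true := by
      rw [← isFpfInvolT_tabW, htab]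
      exact h6
    obtain ⟨hsq, hfpf⟩ := isFpfInvolTab_spec hfi
    refine ⟨⟨⟨wordPerm_mem_M24 _, hsq, hfpf⟩, ?_⟩, ?_⟩
    · show wordPerm (l3Cand k) (pt 23) = pt 0
      apply wordPerm_pt (by norm_num)
      rw [← tabW_getD _ (by norm_num : 23 < 24), htab]
      exact h7
    · show wordPerm (l3Cand k) (pt 1) = pt 2
      apply wordPerm_pt (by norm_num)
      rw [← tabW_getD _ (by norm_num : 1 < 24), htab]
      exact h8


theorem card_fpfInvols2 : fpfInvols2.card = 66 := by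
  rw [fpfInvols2_eq, List.toFinset_card_of_nodup]
  · simp [l3Keys]
  · apply nodup_map_wordPerm
    have h1 : l3Keys.map (fun k => tabW (l3Cand k)) = l3Keys.map l3CandT := by
      apply List.map_congr_left
      intro k hk
      exact tabW_l3Cand_of_mem hk
    rw [h1]
    exact l3Keys_nodup

theorem card_fpfInvols1 :
    (fpfInvols.filter (fun t => t (bpt 0) = bpt 1)).card = 21 * 66 := by
  rw [← card_fpfInvols2]
  have h01 : bpt 0 ≠ bpt 1 := bpt_ne (by norm_num) (by norm_num) (by norm_num)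
  have h02 : bpt 0 ≠ bpt 2 := bpt_ne (by norm_num) (by norm_num) (by norm_num)
  have h12 : bpt 1 ≠ bpt 2 := bpt_ne (by norm_num) (by norm_num) (by norm_num)
  have h03 : bpt 0 ≠ bpt 3 := bpt_ne (by norm_num) (by norm_num) (by norm_num)
  have h13 : bpt 1 ≠ bpt 3 := bpt_ne (by norm_num) (by norm_num) (by norm_num)
  have h23 : bpt 2 ≠ bpt 3 := bpt_ne (by norm_num) (by norm_num) (by norm_num)
  have hA : (Finset.univ \ {bpt 0, bpt 1, bpt 2} : Finset GolayPt).card = 21 := by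
    rw [Finset.card_sdiff_of_subset (Finset.subset_univ _), Finset.card_univ, golayPt_card,
      Finset.card_insert_of_notMem (by simp [h01, h02]),
      Finset.card_insert_of_notMem (by simp [h12]), Finset.card_singleton]
  rw [← hA]
  unfold fpfInvols2
  apply fiber_count
  · intro t ht
    rw [Finset.mem_filter, mem_fpfInvols] at ht
    obtain ⟨⟨-, htt, hfpf⟩, ht01⟩ := ht
    have htt' : ∀ p, t (t p) = p := fun p => by
      have := congrArg (fun σ : Equiv.Perm GolayPt => σ p) htt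
      simpa using this
    have ht10 : t (bpt 1) = bpt 0 := by rw [← ht01, htt']
    simp only [Finset.mem_sdiff, Finset.mem_univ, true_and, Finset.mem_insert,
      Finset.mem_singleton, not_or]
    refine ⟨?_, ?_, hfpf _⟩
    · intro h
      rw [← ht10] at h
      exact h12 (t.injective h).symm
    · intro h
      rw [← ht01] at h
      exact h02 (t.injective h).symm
  · intro q hq
    simp only [Finset.mem_sdiff, Finset.mem_univ, true_and, Finset.mem_insert,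
      Finset.mem_singleton, not_or] at hq
    obtain ⟨g, hg, hfix, hgq⟩ := fix_move {bpt 0, bpt 1, bpt 2}
      (Finset.card_le_three.trans (by norm_num)) (bpt 3) q
      (by simp [h03.symm, h13.symm, h23.symm]) (by simp [hq.1, hq.2.1, hq.2.2])
    have g0 : g (bpt 0) = bpt 0 := hfix _ (by simp)
    have g1 : g (bpt 1) = bpt 1 := hfix _ (by simp)
    have g2 : g (bpt 2) = bpt 2 := hfix _ (by simp)
    refine ⟨g, g2, hgq, ?_⟩
    intro t
    rw [Finset.mem_filter, Finset.mem_filter, ← fpfInvols_conj hg]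
    apply and_congr_right
    intro _
    show t (bpt 0) = bpt 1 ↔ g (t (g⁻¹ (bpt 0))) = bpt 1
    have h1 : g⁻¹ (bpt 0) = bpt 0 := by rw [Equiv.Perm.inv_eq_iff_eq, g0]
    rw [h1]
    constructor
    · intro h; rw [h, g1]
    · intro h
      apply g.injective
      rw [h, g1]

theorem card_fpfInvols : fpfInvols.card = 31878 := by
  have h01 : bpt 0 ≠ bpt 1 := bpt_ne (by norm_num) (by norm_num) (by norm_num)
  have hA : ((Finset.univ : Finset GolayPt).erase (bpt 0)).card = 23 := by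
    rw [Finset.card_erase_of_mem (Finset.mem_univ _), Finset.card_univ, golayPt_card]
  have key : fpfInvols.card = ((Finset.univ : Finset GolayPt).erase (bpt 0)).card *
      (fpfInvols.filter (fun t => t (bpt 0) = bpt 1)).card := by
    apply fiber_count
    · intro t ht
      rw [mem_fpfInvols] at ht
      rw [Finset.mem_erase]
      exact ⟨ht.2.2 _, Finset.mem_univ _⟩
    · intro q hq
      rw [Finset.mem_erase] at hq
      obtain ⟨g, hg, hfix, hgq⟩ := fix_move {bpt 0} (by simp) (bpt 1) q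
        (by simpa using h01.symm) (by simpa using hq.1)
      exact ⟨g, hfix _ (by simp), hgq, fun t => fpfInvols_conj hg t⟩
  rw [key, hA, card_fpfInvols1]

/-- the centraliser of an involution without fixed points has order 7680. -/
theorem card_centralizer_fpf (t : Equiv.Perm GolayPt) (ht : t ∈ fpfInvols)
    (hconj : ∀ x ∈ fpfInvols, ∃ g ∈ M24, g * t * g⁻¹ = x) :
    (Finset.univ.filter (fun c : Equiv.Perm GolayPt => c ∈ M24 ∧ c * t = t * c)).card = 7680 := by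
  have h := card_mul_centralizer t fpfInvols (by
    intro x
    constructor
    · exact hconj x
    · rintro ⟨g, hg, rfl⟩
      exact (fpfInvols_conj hg t).mp ht)
  rw [card_M24_filter, card_fpfInvols] at h
  omega

end Cfsg.Agent.Lib.Helper92
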