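import Cfsg.Agent.Lib.Helper92.GolayPerm
import Cfsg.Agent.Lib.Helper92.PermModule

/-!
Linear maps of the length-24 code preserving the weight classes `{0,24}`, `{8,16}`, `{12}`
and fixing the all-ones word are induced, modulo the all-ones word, by elements of the group
of the code.  Generic machinery: the certificates are instantiated in `M24Lin2`.
-/

set_option autoImplicit false

namespace Cfsg.Agent.Lib.Helper92.Lin

open Cfsg Cfsg.Agent.Lib.Helper10 Cfsg.Agent.Lib.Helper92

/-- equality modulo the all-ones word. -/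
def sameC (v w : GolayPt → ZMod 2) : Prop := v = w ∨ v = w + 1

theorem add_one_add_one (v : GolayPt → ZMod 2) : v + 1 + 1 = v := by
  rw [add_assoc, wadd_self, add_zero]

theorem sameC.refl (v : GolayPt → ZMod 2) : sameC v v := Or.inl rfl

theorem sameC.symm {v w : GolayPt → ZMod 2} (h : sameC v w) : sameC w v := by
  rcases h with rfl | rfl
  · exact Or.inl rfl
  · exact Or.inr (add_one_add_one _).symm

theorem sameC.trans {u v w : GolayPt → ZMod 2} (h1 : sameC u v) (h2 : sameC v w) : sameC u w := by
  rcases h1 with rfl | rfl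
  · exact h2
  · rcases h2 with rfl | rfl
    · exact Or.inr rfl
    · exact Or.inl (add_one_add_one _)

theorem sameC.add {a b c d : GolayPt → ZMod 2} (h1 : sameC a b) (h2 : sameC c d) :
    sameC (a + c) (b + d) := by
  rcases h1 with h1 | h1 <;> rcases h2 with h2 | h2 <;> rw [h1, h2]
  · exact Or.inl rfl
  · exact Or.inr (by abel)
  · exact Or.inr (by abel)
  · refine Or.inl ?_
    calc b + 1 + (d + 1) = b + d + (1 + 1) := by abel
      _ = b + d := by rw [wadd_self, add_zero]

theorem sameC.perm (σ : Equiv.Perm GolayPt) {a b : GolayPt → ZMod 2} (h : sameC a b) :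
    sameC (permWord σ a) (permWord σ b) := by
  rcases h with rfl | rfl
  · exact Or.inl rfl
  · exact Or.inr (by rw [permWord_add, permWord_ones])

/-! ### weight classes -/

/-- the class of a weight: `1` for `8, 16`, `2` for `12`, `0` otherwise. -/
def wcN (n : ℕ) : ℕ :=
  [0, 0, 0, 0, 0, 0, 0, 0, 1, 0, 0, 0, 2, 0, 0, 0, 1, 0, 0, 0, 0, 0, 0, 0, 0].getD n 0

/-- the weight class of a mask. -/
def wc (m : ℕ) : ℕ := wcN (pc m)

theorem wcN_compl : ∀ n : Fin 25, wcN (24 - n) = wcN n := by decide

theorem pc_wmask_perm (σ : Equiv.Perm GolayPt) (w : GolayPt → ZMod 2) :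
    pc (wmask (permWord σ w)) = pc (wmask w) := by
  rw [← card_support₂, ← card_support₂, ← smul_support₂, card_smul_finset]

theorem wc_wmask_perm (σ : Equiv.Perm GolayPt) (w : GolayPt → ZMod 2) :
    wc (wmask (permWord σ w)) = wc (wmask w) := by
  unfold wc; rw [pc_wmask_perm]

theorem support₂_add_one (w : GolayPt → ZMod 2) : support₂ (w + 1) = (support₂ w)ᶜ := by
  ext p
  rw [Finset.mem_compl, mem_support₂, mem_support₂]
  rcases zmod2_cases (w p) with h | h <;> simp [h] <;> decide

theorem pc_wmask_add_one (w : GolayPt → ZMod 2) :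
    pc (wmask (w + 1)) = 24 - pc (wmask w) := by
  rw [← card_support₂, ← card_support₂, support₂_add_one, Finset.card_compl]
  rfl

theorem pc_wmask_le (w : GolayPt → ZMod 2) : pc (wmask w) ≤ 24 := by
  rw [← card_support₂]
  exact (Finset.card_le_univ _).trans (le_of_eq rfl)

theorem wc_wmask_add_one (w : GolayPt → ZMod 2) : wc (wmask (w + 1)) = wc (wmask w) := by
  unfold wc
  rw [pc_wmask_add_one]
  exact wcN_compl ⟨pc (wmask w), Nat.lt_succ_of_le (pc_wmask_le w)⟩

theorem wc_of_sameC {a b : GolayPt → ZMod 2} (h : sameC a b) : wc (wmask a) = wc (wmask b) := by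
  rcases h with rfl | rfl
  · rfl
  · exact wc_wmask_add_one _

/-- the weight classes of the 4096 code words, two bits each, indexed by information bits. -/
def wcBig : ℕ := 9089568304747654709110334518169934892765265157416185705786899693837802507585187024384251572201131656930949136988366699430856833931361808161146652585395807716191666728812823638786835816490803837556243360666074602765206206380939820958516858703254298596842410221863643108923982089842339406593885963917958590439859505992019846365524330716056947890806865602553217285368368524347326078544023077021378901970969278348555932251141756937334435512506416691264187709943544169204975729466725159389393506751605287099103855518922190831144792313840268137581432831528129518630659447046768619571488527190162892702900282745160392475054976603246070132184353768212674699162320584079481251072721497504311238390863298181993516639259723919543446408432622261203784770535218990888967954196511282519287662778330357963588806585093249173949036836252700621335357921565059411514964262851841348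247398909154389043518942419013217231177565497520186736233588573020204101224393927485608012707859074057391014380273532589978854085062210580613843006076413865299251400856474711697628447820533363052376996456778536594611613111872211924818254102576145236592878487189742306948640815164317078179750986937205552433791584955691543426477271198894220597571125886132082914180593347130073547769553347430246320671215503481493557402767317845809069713525473458401234304880622773263745820421142189942373971982542796070706201264137997143638210575947777760492243733223595934428645797346989210570234185951608839665708743822268557796548892995256961941289123676790618486467315036107194418614726142622870112902514940755562962150782103374881967643114374049280320672363068910575947964387658680361986464317892602435934969340805116441912280091652786799820280827498671397186493032773122762182955064110837622273644093366457019774629222540006396326242477704852201761590874411077326170752031653491644071543053811848756323709992154248257399430278432030843774553324731338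8852369522628132049953968193282635993276325238571589567877212580901967568915313737764489670654202863422042207053916065703830578288859017667809965493021798738403013270102441024225968701281823682529236223790049887519592858714986422931113823010843286548804586820353265890651819040780606422347126945677251313798256424953130398349650981852908872964304503946261137094476285249095392356778251304669575958021258975042333782579800186486404599813782460353848707622651105235174534151784127855715126330959849480661032296665049091021074737828992029284755309262764684730235704660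

/-- the weight class of the code word with information bits `k`, by table lookup. -/
def wcI (k : ℕ) : ℕ := (wcBig >>> (2 * k)) &&& 3

/-- the weight class of a code word given by its mask, by table lookup. -/
def wcF (m : ℕ) : ℕ := wcI (m % 4096)

theorem wcI_check : (List.range 4096).all (fun k => wcI k == wc (enc k)) = true := by
  decide +kernel

theorem wcI_spec (k : ℕ) (hk : k < 4096) : wcI k = wc (enc k) := by
  have := forall_lt_of_all 4096 _ wcI_check k hk
  exact beq_iff_eq.mp this

theorem wc_eq_wcF (m : ℕ) (hm : enc m = m) : wc m = wcF m := by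
  unfold wcF
  rw [wcI_spec _ (Nat.mod_lt _ (by norm_num)), enc_mod, hm]

/-! ### masks -/

theorem vec_pmT (wd t : List ℕ) (ht : ∀ i : Fin 24, evalW wd i = t.getD i 0) (m : ℕ) :
    vec (pmT t m) = permWord (wordPerm wd)⁻¹ (vec m) := by
  funext p
  have h1 : permWord (wordPerm wd)⁻¹ (vec m) p = vec m (wordPerm wd p) := rfl
  rw [h1, vec_apply, vec_apply, testBit_pmT, evalW_spec, ← ht ⟨idx p, idx_lt p⟩]
  simp [idx_lt p]

theorem vec_ones : vec 16777215 = (1 : GolayPt → ZMod 2) := by
  funext p; exact (one_eq p).symm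

theorem vec_xor_ones (m : ℕ) : vec (m ^^^ 16777215) = vec m + 1 := by
  rw [vec_xor, vec_ones]

theorem one_mem_code : (1 : GolayPt → ZMod 2) ∈ golayCode :=
  Submodule.subset_span (Or.inr rfl)

/-! ### the linear maps induced by the group -/

/-- the linear automorphism of the code induced by an element of the group. -/
noncomputable def permL (σ : Equiv.Perm GolayPt) (hσ : σ ∈ M24) :
    ↥golayCode ≃ₗ[ZMod 2] ↥golayCode where
  toFun c := ⟨permWord σ c.1, permWord_mem_of_mem_M24 hσ c.1 c.2⟩
  map_add' _ _ := rfl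
  map_smul' _ _ := rfl
  invFun c := ⟨permWord σ⁻¹ c.1, permWord_mem_of_mem_M24 (M24.inv_mem hσ) c.1 c.2⟩
  left_inv c := by
    apply Subtype.ext
    show permWord σ⁻¹ (permWord σ c.1) = c.1
    rw [← permWord_mul, inv_mul_cancel, permWord_one]
  right_inv c := by
    apply Subtype.ext
    show permWord σ (permWord σ⁻¹ c.1) = c.1
    rw [← permWord_mul, mul_inv_cancel, permWord_one]

theorem permL_apply (σ : Equiv.Perm GolayPt) (hσ : σ ∈ M24) (c : ↥golayCode) :
    (permL σ hσ c).1 = permWord σ c.1 := rfl

theorem permL_symm_apply (σ : Equiv.Perm GolayPt) (hσ : σ ∈ M24) (c : ↥golayCode) :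
    ((permL σ hσ).symm c).1 = permWord σ⁻¹ c.1 := rfl

/-- the maps under consideration. -/
def Good (y : ↥golayCode ≃ₗ[ZMod 2] ↥golayCode) : Prop :=
  (y ⟨1, one_mem_code⟩ = ⟨1, one_mem_code⟩) ∧
    ∀ c : ↥golayCode, wc (wmask (y c).1) = wc (wmask c.1)

/-- the conclusion: the map is induced modulo the all-ones word by the group. -/
def Concl (y : ↥golayCode ≃ₗ[ZMod 2] ↥golayCode) : Prop :=
  ∃ σ ∈ M24, ∀ c : ↥golayCode, sameC (y c).1 (permWord σ c.1)

/-- the words fixed by `y` modulo the all-ones word. -/
def Sy (y : ↥golayCode ≃ₗ[ZMod 2] ↥golayCode) : Submodule (ZMod 2) (GolayPt → ZMod 2) where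
  carrier := {v | ∃ h : v ∈ golayCode, sameC (y ⟨v, h⟩).1 v}
  zero_mem' := ⟨golayCode.zero_mem, Or.inl (by
    have : (⟨0, golayCode.zero_mem⟩ : ↥golayCode) = 0 := rfl
    rw [this, map_zero]; rfl)⟩
  add_mem' := by
    rintro a b ⟨ha, ha'⟩ ⟨hb, hb'⟩
    refine ⟨golayCode.add_mem ha hb, ?_⟩
    have : (⟨a + b, golayCode.add_mem ha hb⟩ : ↥golayCode) = ⟨a, ha⟩ + ⟨b, hb⟩ := rfl
    rw [this, map_add]
    exact sameC.add ha' hb'
  smul_mem' := by
    rintro r a ⟨ha, ha'⟩
    rcases zmod2_cases r with rfl | rfl
    · refine ⟨by rw [zero_smul]; exact golayCode.zero_mem, Or.inl ?_⟩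
      have : (⟨(0 : ZMod 2) • a, by rw [zero_smul]; exact golayCode.zero_mem⟩ : ↥golayCode) = 0 := by
        apply Subtype.ext; exact zero_smul _ _
      rw [this, map_zero, zero_smul]; rfl
    · have e : (1 : ZMod 2) • a = a := one_smul _ _
      refine ⟨by rw [e]; exact ha, ?_⟩
      have : (⟨(1 : ZMod 2) • a, by rw [e]; exact ha⟩ : ↥golayCode) = ⟨a, ha⟩ := Subtype.ext e
      rw [this, e]; exact ha'

theorem mem_Sy (y : ↥golayCode ≃ₗ[ZMod 2] ↥golayCode) (v : GolayPt → ZMod 2) :
    v ∈ Sy y ↔ ∃ h : v ∈ golayCode, sameC (y ⟨v, h⟩).1 v := Iff.rfl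

theorem one_mem_Sy {y : ↥golayCode ≃ₗ[ZMod 2] ↥golayCode} (hy : Good y) : (1 : GolayPt → ZMod 2) ∈ Sy y :=
  ⟨one_mem_code, Or.inl (by rw [hy.1])⟩

theorem Good.trans_permL_symm {y : ↥golayCode ≃ₗ[ZMod 2] ↥golayCode} (hy : Good y)
    (σ : Equiv.Perm GolayPt) (hσ : σ ∈ M24) : Good (y.trans (permL σ hσ).symm) := by
  constructor
  · rw [LinearEquiv.trans_apply, hy.1]
    apply Subtype.ext
    show permWord σ⁻¹ 1 = 1
    exact permWord_ones _
  · intro c
    rw [LinearEquiv.trans_apply, permL_symm_apply, wc_wmask_perm]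
    exact hy.2 c

/-- the profile of the image of a word with respect to words fixed modulo the all-ones word. -/
theorem profile_eq {y : ↥golayCode ≃ₗ[ZMod 2] ↥golayCode} (hy : Good y)
    (c : ↥golayCode) {s : GolayPt → ZMod 2} (hs : s ∈ Sy y) :
    wc (wmask ((y c).1 + s)) = wc (wmask (c.1 + s)) := by
  obtain ⟨h, h'⟩ := hs
  have h1 := hy.2 (c + ⟨s, h⟩)
  rw [map_add] at h1
  have h2 : sameC ((y c).1 + (y ⟨s, h⟩).1) ((y c).1 + s) := sameC.add (sameC.refl _) h'
  rw [← wc_of_sameC h2]
  exact h1

/-! ### stabilisers and tree certificates -/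

/-- the elements of the group fixing the listed words modulo the all-ones word. -/
def PFix (L : List ℕ) (σ : Equiv.Perm GolayPt) : Prop :=
  σ ∈ M24 ∧ ∀ m ∈ L, sameC (permWord σ (vec m)) (vec m)

theorem PFix.one (L : List ℕ) : PFix L 1 := ⟨M24.one_mem, fun _ _ => Or.inl rfl⟩

theorem PFix.mul {L : List ℕ} {σ τ : Equiv.Perm GolayPt} (h1 : PFix L σ) (h2 : PFix L τ) :
    PFix L (σ * τ) := by
  refine ⟨M24.mul_mem h1.1 h2.1, fun m hm => ?_⟩
  rw [permWord_mul]
  exact (sameC.perm σ (h2.2 m hm)).trans (h1.2 m hm)

/-- evaluate a natural number once and pass it on (sharing in kernel evaluation). -/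
def withNat {α : Type} (x : ℕ) (f : ℕ → α) : α :=
  match x with
  | 0 => f 0
  | n + 1 => f (n + 1)

theorem withNat_eq {α : Type} (x : ℕ) (f : ℕ → α) : withNat x f = f x := by
  cases x <;> rfl

/-- one node of a tree certificate: mask, parent, generator. -/
def nodeOK (gT : List (List ℕ)) (nodes : List (ℕ × ℕ × ℕ)) (n : ℕ) : Bool :=
  match nodes.getD n (0, 0, 0) with
  | (m, p, g) =>
    decide (m < 2 ^ 24) &&
    (n == 0 || (decide (p < n) && decide (g < gT.length) &&
      withNat (pmT (gT.getD g []) (nodes.getD p (0, 0, 0)).1)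
        (fun m' => m == m' || m == m' ^^^ 16777215)))

/-- a tree certificate. -/
def treeOK (gT : List (List ℕ)) (nodes : List (ℕ × ℕ × ℕ)) : Bool :=
  (List.range nodes.length).all (nodeOK gT nodes)

theorem reach_of_tree (L : List ℕ) (root : ℕ) (gW gT : List (List ℕ))
    (nodes : List (ℕ × ℕ × ℕ))
    (hT : ∀ g < gT.length, ∀ i : Fin 24, evalW (gW.getD g []) i = (gT.getD g []).getD i 0)
    (hfix : ∀ g < gT.length, ∀ m ∈ L,
      pmT (gT.getD g []) m = m ∨ pmT (gT.getD g []) m = m ^^^ 16777215)
    (hroot : (nodes.getD 0 (0, 0, 0)).1 = root)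
    (htree : treeOK gT nodes = true) :
    ∀ n < nodes.length, (nodes.getD n (0, 0, 0)).1 < 2 ^ 24 ∧ ∃ σ, PFix L σ ∧
      sameC (vec (nodes.getD n (0, 0, 0)).1) (permWord σ (vec root)) := by
  intro n
  induction n using Nat.strong_induction_on with
  | _ n ih =>
    intro hn
    have h1 : nodeOK gT nodes n = true := by
      unfold treeOK at htree
      rw [List.all_eq_true] at htree
      exact htree n (List.mem_range.mpr hn)
    unfold nodeOK at h1
    rcases hnd : nodes.getD n (0, 0, 0) with ⟨m, p, g⟩
    rw [hnd] at h1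
    simp only [withNat_eq, Bool.or_eq_true, Bool.and_eq_true, decide_eq_true_eq, beq_iff_eq] at h1
    obtain ⟨hlt, h1⟩ := h1
    refine ⟨hlt, ?_⟩
    rcases h1 with h0 | ⟨⟨hp, hg⟩, hm⟩
    · subst h0
      refine ⟨1, PFix.one L, ?_⟩
      rw [hnd] at hroot
      simp only at hroot
      show sameC (vec m) (permWord 1 (vec root))
      rw [hroot]; exact Or.inl rfl
    · obtain ⟨_, σ, hσ, hs⟩ := ih p hp (hp.trans hn)
      set mp := (nodes.getD p (0, 0, 0)).1 with hmp
      have hv := vec_pmT (gW.getD g []) (gT.getD g []) (hT g hg) mp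
      have hτ : PFix L (wordPerm (gW.getD g []))⁻¹ := by
        refine ⟨wordPerm_inv_mem_M24 _, fun m' hm' => ?_⟩
        rw [← vec_pmT (gW.getD g []) (gT.getD g []) (hT g hg) m']
        rcases hfix g hg m' hm' with e | e
        · rw [e]; exact Or.inl rfl
        · rw [e]; exact Or.inr (vec_xor_ones _)
      refine ⟨(wordPerm (gW.getD g []))⁻¹ * σ, hτ.mul hσ, ?_⟩
      have h2 : sameC (vec (pmT (gT.getD g []) mp))
          (permWord ((wordPerm (gW.getD g []))⁻¹ * σ) (vec root)) := by
        rw [hv, permWord_mul]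
        exact sameC.perm _ hs
      show sameC (vec m) _
      rcases hm with e | e
      · rw [e]; exact h2
      · rw [e, vec_xor_ones]
        exact sameC.trans (Or.inr rfl) h2

/-! ### bitmaps of information indices -/

/-- the bitmap of the information indices of the nodes and of their complements. -/
def bitmapOf (nodes : List (ℕ × ℕ × ℕ)) : ℕ :=
  nodes.foldl (fun acc nd =>
    acc ||| (1 <<< (nd.1 % 4096)) ||| (1 <<< ((nd.1 ^^^ 16777215) % 4096))) 0

theorem testBit_foldl_bitmap (nodes : List (ℕ × ℕ × ℕ)) (a k : ℕ)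
    (h : (nodes.foldl (fun acc nd =>
      acc ||| (1 <<< (nd.1 % 4096)) ||| (1 <<< ((nd.1 ^^^ 16777215) % 4096))) a).testBit k = true) :
    a.testBit k = true ∨ ∃ nd ∈ nodes, k = nd.1 % 4096 ∨ k = (nd.1 ^^^ 16777215) % 4096 := by
  induction nodes generalizing a with
  | nil => exact Or.inl h
  | cons nd rest ih =>
    rw [List.foldl_cons] at h
    rcases ih _ h with h1 | ⟨nd', hnd', h1⟩
    · rw [Nat.testBit_or, Nat.testBit_or, Bool.or_eq_true, Bool.or_eq_true] at h1
      rcases h1 with (h1 | h1) | h1
      · exact Or.inl h1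
      · right
        refine ⟨nd, List.mem_cons_self, Or.inl ?_⟩
        rw [Nat.one_shiftLeft, Nat.testBit_two_pow] at h1
        exact (of_decide_eq_true h1).symm
      · right
        refine ⟨nd, List.mem_cons_self, Or.inr ?_⟩
        rw [Nat.one_shiftLeft, Nat.testBit_two_pow] at h1
        exact (of_decide_eq_true h1).symm
    · exact Or.inr ⟨nd', List.mem_cons_of_mem _ hnd', h1⟩

theorem exists_of_testBit_bitmap (nodes : List (ℕ × ℕ × ℕ)) (k : ℕ)
    (h : (bitmapOf nodes).testBit k = true) :
    ∃ nd ∈ nodes, k = nd.1 % 4096 ∨ k = (nd.1 ^^^ 16777215) % 4096 := by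
  rcases testBit_foldl_bitmap nodes 0 k h with h1 | h1
  · simp at h1
  · exact h1

theorem enc_mod_check : (List.range 4096).all (fun k => enc k % 4096 == k) = true := by
  decide +kernel

theorem enc_mod_self (k : ℕ) (hk : k < 4096) : enc k % 4096 = k :=
  beq_iff_eq.mp (forall_lt_of_all 4096 _ enc_mod_check k hk)

/-- the profile data: information index of a fixed word and the weight class of its sum with the
word to be moved. -/
def profData (L : List ℕ) (ck : ℕ) (S : List ℕ) : List (ℕ × ℕ) :=
  S.map fun j => (xorSel L 0 j % 4096, wcI ((ck ^^^ xorSel L 0 j) % 4096))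

/-- every code word with the right profile has its information index in the bitmap. -/
def candOK (PS : List (ℕ × ℕ)) (bm : ℕ) : Bool :=
  (List.range 4096).all fun k => !(PS.all fun ps => wcI (k ^^^ ps.1) == ps.2) || bm.testBit k

/-- the common continuation of the level steps. -/
theorem step_of_sigma (L : List ℕ) (ck : ℕ) (hcm : vec ck ∈ golayCode)
    (y : ↥golayCode ≃ₗ[ZMod 2] ↥golayCode) (hy : Good y) (hyL : ∀ m ∈ L, vec m ∈ Sy y)
    (σ : Equiv.Perm GolayPt) (hσ : PFix L σ)
    (hX : sameC (y ⟨vec ck, hcm⟩).1 (permWord σ (vec ck)))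
    (IH : ∀ y, Good y → (∀ m ∈ L ++ [ck], vec m ∈ Sy y) → Concl y) : Concl y := by
  have hy' := hy.trans_permL_symm σ hσ.1
  have hfix' : ∀ m ∈ L ++ [ck], vec m ∈ Sy (y.trans (permL σ hσ.1).symm) := by
    intro m hm
    rw [List.mem_append, List.mem_singleton] at hm
    rcases hm with hm | rfl
    · obtain ⟨h, h'⟩ := hyL m hm
      refine ⟨h, ?_⟩
      rw [LinearEquiv.trans_apply, permL_symm_apply]
      have h3 : sameC (permWord σ⁻¹ (permWord σ (vec m))) (permWord σ⁻¹ (vec m)) :=
        sameC.perm σ⁻¹ (hσ.2 m hm)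
      rw [← permWord_mul, inv_mul_cancel, permWord_one] at h3
      exact (sameC.perm σ⁻¹ h').trans h3.symm
    · refine ⟨hcm, ?_⟩
      rw [LinearEquiv.trans_apply, permL_symm_apply]
      have h3 := sameC.perm σ⁻¹ hX
      rw [← permWord_mul, inv_mul_cancel, permWord_one] at h3
      exact h3
  obtain ⟨σ', hσ', h⟩ := IH _ hy' hfix'
  refine ⟨σ * σ', M24.mul_mem hσ.1 hσ', fun d => ?_⟩
  have h4 := sameC.perm σ (h d)
  rw [LinearEquiv.trans_apply, permL_symm_apply, ← permWord_mul, mul_inv_cancel, permWord_one,
    ← permWord_mul] at h4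
  exact h4

theorem level_step (L : List ℕ) (ck : ℕ) (S : List ℕ) (PS : List (ℕ × ℕ)) (gW gT : List (List ℕ))
    (nodes : List (ℕ × ℕ × ℕ)) (bm : ℕ)
    (hL : ∀ m ∈ L, m < 2 ^ 24) (hck : ck < 2 ^ 24) (hck2 : enc ck = ck)
    (hT : ∀ g < gT.length, ∀ i : Fin 24, evalW (gW.getD g []) i = (gT.getD g []).getD i 0)
    (hfix : ∀ g < gT.length, ∀ m ∈ L,
      pmT (gT.getD g []) m = m ∨ pmT (gT.getD g []) m = m ^^^ 16777215)
    (hroot : (nodes.getD 0 (0, 0, 0)).1 = ck)
    (htree : treeOK gT nodes = true)
    (hPS : profData L ck S = PS)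
    (hbm : bitmapOf nodes = bm)
    (hcand : candOK PS bm = true)
    (IH : ∀ y, Good y → (∀ m ∈ L ++ [ck], vec m ∈ Sy y) → Concl y) :
    ∀ y, Good y → (∀ m ∈ L, vec m ∈ Sy y) → Concl y := by
  intro y hy hyL
  have hcm : vec ck ∈ golayCode := (vec_mem_golayCode_iff hck).mpr hck2
  set c : ↥golayCode := ⟨vec ck, hcm⟩ with hc
  obtain ⟨k', hk', hx⟩ := exists_enc_of_mem (y c).2
  have hprof : (PS.all fun ps => wcI (k' ^^^ ps.1) == ps.2) = true := by
    rw [← hPS]
    unfold profData
    rw [List.all_eq_true]
    intro ps hps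
    rw [List.mem_map] at hps
    obtain ⟨j, _, rfl⟩ := hps
    rw [beq_iff_eq]
    have hs : vec (xorSel L 0 j) ∈ Sy y := vec_xorSel_mem (Sy y) L hyL 0 j
    have h1 := profile_eq hy c hs
    have hm1 : (y c).1 + vec (xorSel L 0 j) ∈ golayCode := golayCode.add_mem (y c).2 hs.1
    have hm2 : c.1 + vec (xorSel L 0 j) ∈ golayCode := golayCode.add_mem c.2 hs.1
    rw [mem_golayCode_iff] at hm1 hm2
    have h2 : wmask c.1 = ck := wmask_vec hck
    rw [wmask_add, hx, wmask_vec (xorSel_lt L hL 0 j)] at h1 hm1
    rw [wmask_add, h2, wmask_vec (xorSel_lt L hL 0 j)] at h1 hm2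
    rw [wc_eq_wcF _ hm1, wc_eq_wcF _ hm2] at h1
    unfold wcF at h1
    have e : (enc k' ^^^ xorSel L 0 j) % 4096 = k' ^^^ (xorSel L 0 j % 4096) := by
      have := Nat.xor_mod_two_pow (a := enc k') (b := xorSel L 0 j) (n := 12)
      norm_num at this
      rw [this, enc_mod_self k' hk']
    rw [e] at h1
    exact h1
  have hin : bm.testBit k' = true := by
    unfold candOK at hcand
    have := forall_lt_of_all 4096 _ hcand k' hk'
    simp only [Bool.or_eq_true, Bool.not_eq_true'] at this
    rcases this with h | h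
    · rw [hprof] at h; exact absurd h (by decide)
    · exact h
  rw [← hbm] at hin
  obtain ⟨nd, hnd, hnd2⟩ := exists_of_testBit_bitmap nodes k' hin
  obtain ⟨n, hn, rfl⟩ := List.getElem_of_mem hnd
  have hgd : nodes.getD n (0, 0, 0) = nodes[n] := by
    rw [List.getD_eq_getElem?_getD, List.getElem?_eq_getElem hn]; rfl
  obtain ⟨hlt, σ, hσ, hs⟩ := reach_of_tree L ck gW gT nodes hT hfix hroot htree n hn
  rw [hgd] at hs hlt
  -- the node is a code word
  have hσc : permWord σ (vec ck) ∈ golayCode := permWord_mem_of_mem_M24 hσ.1 _ hcm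
  have hndc : vec (nodes[n]).1 ∈ golayCode := by
    rcases hs with e | e
    · rw [e]; exact hσc
    · rw [e]; exact golayCode.add_mem hσc one_mem_code
  have hnde : enc (nodes[n]).1 = (nodes[n]).1 := (vec_mem_golayCode_iff hlt).mp hndc
  have hX : sameC (y c).1 (permWord σ (vec ck)) := by
    have e : (y c).1 = vec (enc k') := by rw [← hx, vec_wmask]
    rcases hnd2 with h | h
    · have : enc k' = (nodes[n]).1 := by rw [h, enc_mod, hnde]
      rw [e, this]; exact hs
    · have hlt2 : (nodes[n]).1 ^^^ 16777215 < 2 ^ 24 := Nat.xor_lt_two_pow hlt (by norm_num)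
      have hc2 : vec ((nodes[n]).1 ^^^ 16777215) ∈ golayCode := by
        rw [vec_xor_ones]; exact golayCode.add_mem hndc one_mem_code
      have hnde2 := (vec_mem_golayCode_iff hlt2).mp hc2
      have : enc k' = (nodes[n]).1 ^^^ 16777215 := by rw [h, enc_mod, hnde2]
      rw [e, this, vec_xor_ones]
      exact sameC.trans (Or.inr rfl) hs
  exact step_of_sigma L ck hcm y hy hyL σ hσ hX IH

theorem wcN_eq_one : ∀ n : Fin 25, wcN n = 1 → (n : ℕ) = 8 ∨ (n : ℕ) = 16 := by decide

/-- the first level: the group is transitive on the words of weight 8. -/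
theorem level0_step (c0 : ℕ) (hck : c0 < 2 ^ 24) (hck2 : enc c0 = c0) (hw : wc c0 = 1)
    (IH : ∀ y, Good y → (∀ m ∈ [c0], vec m ∈ Sy y) → Concl y) :
    ∀ y, Good y → Concl y := by
  intro y hy
  have hcm : vec c0 ∈ golayCode := (vec_mem_golayCode_iff hck).mpr hck2
  -- words of weight 8 equivalent to a word of class 1
  have key : ∀ w : GolayPt → ZMod 2, w ∈ golayCode → wc (wmask w) = 1 →
      ∃ u, u ∈ golayCode ∧ (support₂ u).card = 8 ∧ sameC u w := by
    intro w hw hw1
    have hle := pc_wmask_le w
    rcases wcN_eq_one ⟨pc (wmask w), Nat.lt_succ_of_le hle⟩ hw1 with h | h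
    · exact ⟨w, hw, by rw [card_support₂]; exact h, sameC.refl _⟩
    · refine ⟨w + 1, golayCode.add_mem hw one_mem_code, ?_, Or.inr rfl⟩
      rw [card_support₂, pc_wmask_add_one]
      have h' : pc (wmask w) = 16 := h
      rw [h']
  have h0 : wc (wmask (vec c0)) = 1 := by rw [wmask_vec hck]; exact hw
  obtain ⟨u, hu, cu, su⟩ := key (vec c0) hcm h0
  have hX1 : wc (wmask (y ⟨vec c0, hcm⟩).1) = 1 := by rw [hy.2]; exact h0
  obtain ⟨v, hv, cv, sv⟩ := key _ (y ⟨vec c0, hcm⟩).2 hX1
  obtain ⟨σ, hσ, e⟩ := octad_word_trans u v hu hv cu cv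
  have hX : sameC (y ⟨vec c0, hcm⟩).1 (permWord σ (vec c0)) := by
    have h1 : sameC (permWord σ u) (permWord σ (vec c0)) := sameC.perm σ su
    rw [e] at h1
    exact sv.symm.trans h1
  exact step_of_sigma [] c0 hcm y hy (fun _ h => absurd h List.not_mem_nil) σ
    ⟨hσ, fun _ h => absurd h List.not_mem_nil⟩ hX IH

theorem base_step (L : List ℕ) (coef : List ℕ)
    (hcoef : ∀ i : Fin 12, xorSel (L ++ [16777215]) 0 (coef.getD i 0) = basis.getD i 0) :
    ∀ y, Good y → (∀ m ∈ L, vec m ∈ Sy y) → Concl y := by
  intro y hy hyL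
  have hL1 : ∀ m ∈ L ++ [16777215], vec m ∈ Sy y := by
    intro m hm
    rw [List.mem_append, List.mem_singleton] at hm
    rcases hm with hm | rfl
    · exact hyL m hm
    · rw [vec_ones]; exact one_mem_Sy hy
  have hb : ∀ b ∈ basis, vec b ∈ Sy y := by
    intro b hb
    obtain ⟨i, hi, rfl⟩ := List.getElem_of_mem hb
    have hi' : i < 12 := hi
    have e : basis.getD i 0 = basis[i] := by
      rw [List.getD_eq_getElem?_getD, List.getElem?_eq_getElem hi]; rfl
    have h5 : vec (basis.getD i 0) ∈ Sy y := by
      rw [← hcoef ⟨i, hi'⟩]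
      exact vec_xorSel_mem (Sy y) _ hL1 0 _
    rw [e] at h5
    exact h5
  refine ⟨1, M24.one_mem, fun d => ?_⟩
  obtain ⟨k, _, hk⟩ := exists_enc_of_mem d.2
  have hd : d.1 ∈ Sy y := by
    rw [← vec_wmask d.1, hk]
    exact vec_xorSel_mem (Sy y) basis hb 0 k
  obtain ⟨h, h'⟩ := hd
  exact h'

end Cfsg.Agent.Lib.Helper92.Lin
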