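import Cfsg.Agent.Lib.Helper10.Order

set_option autoImplicit false

/-! Normal forms of elements of `Cfsg.M24` along helper10's stabiliser chain: an element with
prescribed images of the first five base points is one of 48 explicit words; tools to certify
conjugacy of words by index tables; involutions brought to one of four shapes on five base
points. -/

namespace Cfsg.Agent.Lib.Helper92

open Cfsg Cfsg.Agent.Lib.Helper10

theorem wordPerm_append (a b : List ℕ) : wordPerm (a ++ b) = wordPerm a * wordPerm b := by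
  induction a with
  | nil => simp [wordPerm]
  | cons g a ih => simp [wordPerm, ih, mul_assoc]

theorem evalW_append (a b : List ℕ) (i : ℕ) : evalW (a ++ b) i = evalW a (evalW b i) := by
  induction a with
  | nil => rfl
  | cons g a ih => simp [evalW, ih]

theorem idx_wordPerm_pt (w : List ℕ) {i : ℕ} (hi : i < 24) :
    idx (wordPerm w (pt i)) = evalW w i := by
  rw [evalW_spec, idx_pt hi]

theorem evalW_lt (w : List ℕ) {i : ℕ} (hi : i < 24) : evalW w i < 24 := by
  rw [← idx_wordPerm_pt w hi]; exact idx_lt _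

/-- equality of permutations from equality of index tables. -/
theorem perm_ext_idx {σ τ : Equiv.Perm GolayPt}
    (h : ∀ i : Fin 24, idx (σ (pt i)) = idx (τ (pt i))) : σ = τ := by
  ext1 p
  apply idx_injective
  have := h ⟨idx p, idx_lt p⟩
  simpa [pt_idx] using this

/-! ### conjugacy certificates -/

/-- table check for `wordPerm kw * wordPerm w = wordPerm zw * wordPerm kw`. -/
def conjOK (w kw zw : List ℕ) : Bool :=
  (List.range 24).all (fun i => evalW kw (evalW w i) == evalW zw (evalW kw i))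

theorem conj_of_conjOK {w kw zw : List ℕ} (h : conjOK w kw zw = true) :
    wordPerm kw * wordPerm w * (wordPerm kw)⁻¹ = wordPerm zw := by
  rw [mul_inv_eq_iff_eq_mul]
  apply perm_ext_idx
  intro i
  show idx (wordPerm kw (wordPerm w (pt i))) = idx (wordPerm zw (wordPerm kw (pt i)))
  rw [evalW_spec, evalW_spec, evalW_spec, evalW_spec, idx_pt i.2]
  unfold conjOK at h
  rw [List.all_eq_true] at h
  have := h i (List.mem_range.mpr i.2)
  simpa using this

/-- table check that a word is an involution. -/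
def isInvolTab (w : List ℕ) : Bool :=
  (List.range 24).all (fun i => evalW w (evalW w i) == i) &&
    (List.range 24).any (fun i => evalW w i != i)

theorem isInvolTab_of {w : List ℕ} (h2 : wordPerm w * wordPerm w = 1) (h1 : wordPerm w ≠ 1) :
    isInvolTab w = true := by
  unfold isInvolTab
  rw [Bool.and_eq_true, List.all_eq_true, List.any_eq_true]
  constructor
  · intro i hi
    have hi' : i < 24 := List.mem_range.mp hi
    have h := congrArg (fun σ : Equiv.Perm GolayPt => idx (σ (pt i))) h2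
    simp only [Equiv.Perm.coe_mul, Function.comp_apply, Equiv.Perm.coe_one, id_eq] at h
    rw [evalW_spec, evalW_spec, idx_pt hi'] at h
    simpa using h
  · by_contra hcon
    push Not at hcon
    apply h1
    apply perm_ext_idx
    intro i
    have := hcon i (List.mem_range.mpr i.2)
    rw [idx_wordPerm_pt w i.2]
    show _ = idx (pt i)
    rw [idx_pt i.2]
    simpa using this

theorem isInvolTab_iff_of_true {w : List ℕ} (h : isInvolTab w = true) :
    wordPerm w * wordPerm w = 1 ∧ wordPerm w ≠ 1 := by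
  unfold isInvolTab at h
  rw [Bool.and_eq_true, List.all_eq_true, List.any_eq_true] at h
  obtain ⟨h1, i, hi, h2⟩ := h
  constructor
  · apply perm_ext_idx
    intro j
    show idx (wordPerm w (wordPerm w (pt j))) = idx ((1 : Equiv.Perm GolayPt) (pt j))
    rw [evalW_spec, evalW_spec, idx_pt j.2]
    show _ = idx (pt j)
    rw [idx_pt j.2]
    have := h1 j (List.mem_range.mpr j.2)
    simpa using this
  · intro h3
    have hi' : i < 24 := List.mem_range.mp hi
    have := idx_wordPerm_pt w hi'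
    rw [h3] at this
    simp only [Equiv.Perm.coe_one, id_eq, idx_pt hi'] at this
    rw [← this] at h2
    simp at h2

/-! ### peeling off transversal elements -/

theorem wordAt_spec (k : ℕ) (hk : k < 7) (c : ℕ) (hc : c < 24) (hok : okTarget k c = true) :
    (∀ i < k, wordPerm (wordAt k c) (bpt i) = bpt i) ∧ wordPerm (wordAt k c) (bpt k) = pt c := by
  obtain ⟨h1, h2⟩ := trans_check ⟨k, hk⟩ ⟨c, hc⟩ hok
  constructor
  · intro i hi
    exact wordPerm_pt (base_lt ⟨i, by omega⟩) (h1 ⟨i, by omega⟩ hi)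
  · exact wordPerm_pt (base_lt ⟨k, hk⟩) h2

theorem peel (k : ℕ) (hk : k < 7) (τ : Equiv.Perm GolayPt) (hτ : τ ∈ M24)
    (hfix : ∀ i < k, τ (bpt i) = bpt i) :
    ∃ c : Fin 24, okTarget k c = true ∧
      ∀ i < k + 1, ((wordPerm (wordAt k c))⁻¹ * τ) (bpt i) = bpt i := by
  have hmem := orbit_subset hτ k hk hfix
  rw [mem_targets] at hmem
  refine ⟨⟨idx (τ (bpt k)), idx_lt _⟩, hmem, ?_⟩
  obtain ⟨h1, h2⟩ := wordAt_spec k hk (idx (τ (bpt k))) (idx_lt _) hmem
  rw [pt_idx] at h2
  intro i hi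
  show (wordPerm (wordAt k (idx (τ (bpt k)))))⁻¹ (τ (bpt i)) = bpt i
  rw [Equiv.Perm.inv_eq_iff_eq]
  rcases Nat.lt_succ_iff_lt_or_eq.mp hi with h | h
  · rw [hfix i h, h1 i h]
  · rw [h, h2]

/-- an element of `M24` with the same images of the first five base points as the word `W`
is one of 48 explicit words. -/
theorem eq_candidate (W : List ℕ) (σ : Equiv.Perm GolayPt) (hσ : σ ∈ M24)
    (h : ∀ i < 5, σ (bpt i) = wordPerm W (bpt i)) :
    ∃ c5 c6 : Fin 24, okTarget 5 c5 = true ∧ okTarget 6 c6 = true ∧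
      σ = wordPerm (W ++ wordAt 5 c5 ++ wordAt 6 c6) := by
  have hτ : (wordPerm W)⁻¹ * σ ∈ M24 := M24.mul_mem (M24.inv_mem (wordPerm_mem_M24 W)) hσ
  have hfix : ∀ i < 5, ((wordPerm W)⁻¹ * σ) (bpt i) = bpt i := by
    intro i hi
    show (wordPerm W)⁻¹ (σ (bpt i)) = bpt i
    rw [Equiv.Perm.inv_eq_iff_eq, h i hi]
  obtain ⟨c5, hc5, hfix5⟩ := peel 5 (by decide) _ hτ hfix
  have hτ5 : (wordPerm (wordAt 5 c5))⁻¹ * ((wordPerm W)⁻¹ * σ) ∈ M24 :=
    M24.mul_mem (M24.inv_mem (wordPerm_mem_M24 _)) hτ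
  obtain ⟨c6, hc6, hfix6⟩ := peel 6 (by decide) _ hτ5 hfix5
  have hτ6 : (wordPerm (wordAt 6 c6))⁻¹ * ((wordPerm (wordAt 5 c5))⁻¹ * ((wordPerm W)⁻¹ * σ)) ∈ M24 :=
    M24.mul_mem (M24.inv_mem (wordPerm_mem_M24 _)) hτ5
  have hone := eq_one_of_fixes_base hτ6 hfix6
  refine ⟨c5, c6, hc5, hc6, ?_⟩
  rw [wordPerm_append, wordPerm_append]
  rw [inv_mul_eq_one, eq_comm, inv_mul_eq_iff_eq_mul, inv_mul_eq_iff_eq_mul] at hone
  rw [hone, mul_assoc]

/-! ### five points -/

theorem exists_five (p0 p1 p2 p3 p4 : GolayPt) (h : [p0, p1, p2, p3, p4].Nodup) :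
    ∃ k ∈ M24, k (bpt 0) = p0 ∧ k (bpt 1) = p1 ∧ k (bpt 2) = p2 ∧ k (bpt 3) = p3 ∧
      k (bpt 4) = p4 := by
  let x : Fin 5 ↪ GolayPt := ⟨[p0, p1, p2, p3, p4].get, List.nodup_iff_injective_get.mp h⟩
  obtain ⟨k, hk, hkx⟩ := five_trans_base x
  exact ⟨k, H_le_M24 hk, hkx 0, hkx 1, hkx 2, hkx 3, hkx 4⟩

theorem exists_notMem {s : Finset GolayPt} (hs : s.card < 24) : ∃ c, c ∉ s := by
  by_contra h
  push Not at h
  have h1 : s = Finset.univ := Finset.eq_univ_iff_forall.mpr h
  have h2 : Fintype.card GolayPt = 24 := by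
    simp [GolayPt, Fintype.card_option, ZMod.card]
  rw [h1, Finset.card_univ, h2] at hs
  exact lt_irrefl _ hs

theorem conj_apply {k g : Equiv.Perm GolayPt} {i j : ℕ} {x y : GolayPt}
    (hi : k (bpt i) = x) (hj : k (bpt j) = y) (hg : g x = y) :
    (k⁻¹ * g * k) (bpt i) = bpt j := by
  show k⁻¹ (g (k (bpt i))) = bpt j
  rw [hi, hg, ← hj]
  simp

end Cfsg.Agent.Lib.Helper92
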