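import Cfsg.Agent.Lib.Helper92.M24Invol

set_option autoImplicit false

/-! Elements of order 3 of `Cfsg.M24`: each is conjugate to one of two explicit elements. -/

namespace Cfsg.Agent.Lib.Helper92

open Cfsg Cfsg.Agent.Lib.Helper10

/-- `g` acts on the first five base points as the list `l` of base indices says. -/
def HasShape (g : Equiv.Perm GolayPt) (l : List ℕ) : Prop :=
  ∀ i < 5, g (bpt i) = bpt (l.getD i 0)

theorem hasShape_of {g : Equiv.Perm GolayPt} {j0 j1 j2 j3 j4 : ℕ}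
    (h0 : g (bpt 0) = bpt j0) (h1 : g (bpt 1) = bpt j1) (h2 : g (bpt 2) = bpt j2)
    (h3 : g (bpt 3) = bpt j3) (h4 : g (bpt 4) = bpt j4) : HasShape g [j0, j1, j2, j3, j4] := by
  intro i hi
  interval_cases i
  · exact h0
  · exact h1
  · exact h2
  · exact h3
  · exact h4

/-- an element fixing the first five base points and moving the sixth or the seventh base point
to a given point outside them. -/
theorem exists_fix5 (c : GolayPt) (hc : ∀ i < 5, c ≠ bpt i) :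
    ∃ u ∈ M24, (∀ i < 5, u (bpt i) = bpt i) ∧ (u (bpt 5) = c ∨ u (bpt 6) = c) := by
  rcases target5_or_6 c hc with h5 | h6
  · obtain ⟨u, hu, hu1, hu2⟩ := level 5 (by decide) _ h5
    exact ⟨u, H_le_M24 hu, hu1, Or.inl hu2⟩
  · obtain ⟨u, hu, hu1, hu2⟩ := level 6 (by decide) _ h6
    exact ⟨u, H_le_M24 hu, fun i hi => hu1 i (by omega), Or.inr hu2⟩

/-- table check that a word has order 3. -/
def isOrd3Tab (w : List ℕ) : Bool :=
  (List.range 24).all (fun i => evalW w (evalW w (evalW w i)) == i) &&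
    (List.range 24).any (fun i => evalW w i != i)

theorem isOrd3Tab_of {w : List ℕ} (h3 : wordPerm w * wordPerm w * wordPerm w = 1)
    (h1 : wordPerm w ≠ 1) : isOrd3Tab w = true := by
  unfold isOrd3Tab
  rw [Bool.and_eq_true, List.all_eq_true, List.any_eq_true]
  constructor
  · intro i hi
    have hi' : i < 24 := List.mem_range.mp hi
    have h := congrArg (fun σ : Equiv.Perm GolayPt => idx (σ (pt i))) h3
    simp only [Equiv.Perm.coe_mul, Function.comp_apply, Equiv.Perm.coe_one, id_eq] at h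
    rw [evalW_spec, evalW_spec, evalW_spec, idx_pt hi'] at h
    simpa using h
  · by_contra hcon
    push Not at hcon
    apply h1
    apply perm_ext_idx
    intro i
    have := hcon i (List.mem_range.mpr i.2)
    rw [idx_wordPerm_pt w i.2]
    show _ = idx (pt i)
    rw [idx_pt i.2]
    simpa using this

theorem isOrd3Tab_iff_of_true {w : List ℕ} (h : isOrd3Tab w = true) :
    wordPerm w * wordPerm w * wordPerm w = 1 ∧ wordPerm w ≠ 1 := by
  unfold isOrd3Tab at h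
  rw [Bool.and_eq_true, List.all_eq_true, List.any_eq_true] at h
  obtain ⟨h1, i, hi, h2⟩ := h
  constructor
  · apply perm_ext_idx
    intro j
    show idx (wordPerm w (wordPerm w (wordPerm w (pt j)))) = idx ((1 : Equiv.Perm GolayPt) (pt j))
    rw [evalW_spec, evalW_spec, evalW_spec, idx_pt j.2]
    show _ = idx (pt j)
    rw [idx_pt j.2]
    have := h1 j (List.mem_range.mpr j.2)
    simpa using this
  · intro h3
    have hi' : i < 24 := List.mem_range.mp hi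
    have := idx_wordPerm_pt w hi'
    rw [h3] at this
    simp only [Equiv.Perm.coe_one, id_eq, idx_pt hi'] at this
    rw [← this] at h2
    simp at h2

theorem orderOf_eq_three_of {σ : Equiv.Perm GolayPt} (h : σ * σ * σ = 1 ∧ σ ≠ 1) :
    orderOf σ = 3 := by
  have : Fact (Nat.Prime 3) := ⟨by decide⟩
  apply orderOf_eq_prime
  · rw [pow_succ, sq]; exact h.1
  · exact h.2

/-! ### shapes of elements of order 3 -/

/-- the three shapes. -/
def forms3 : List (List ℕ) := [[1, 2, 0, 4, 5], [1, 2, 0, 4, 6], [1, 2, 0, 3, 4]]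

theorem normal_form3 (g : Equiv.Perm GolayPt) (ho : orderOf g = 3) :
    ∃ k ∈ M24, ∃ f < 3, HasShape (k⁻¹ * g * k) (forms3.getD f []) := by
  have hg3 : ∀ x, g (g (g x)) = x := by
    intro x
    have h := pow_orderOf_eq_one g
    rw [ho, pow_succ, sq] at h
    exact congrArg (fun σ : Equiv.Perm GolayPt => σ x) h
  have hne : g ≠ 1 := by
    intro h
    rw [h, orderOf_one] at ho
    omega
  obtain ⟨a, ha⟩ : ∃ a, g a ≠ a := by
    by_contra h
    push Not at h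
    exact hne (Equiv.ext h)
  -- the cycle of a
  have ha1 : g (g a) ≠ g a := fun h => ha (g.injective h)
  have ha2 : g (g a) ≠ a := by
    intro h
    have := congrArg g h
    rw [hg3] at this
    exact ha this.symm
  -- a point outside the cycle of `a` is mapped outside it
  have hout : ∀ x, x ≠ a → x ≠ g a → x ≠ g (g a) → g x ≠ a ∧ g x ≠ g a ∧ g x ≠ g (g a) := by
    intro x h0 h1 h2
    refine ⟨?_, ?_, ?_⟩
    · intro h
      apply h2
      apply g.injective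
      rw [h, hg3]
    · intro h
      exact h0 (g.injective h)
    · intro h
      exact h1 (g.injective h)
  -- a second cycle
  have shapeA : ∀ c, g c ≠ c → c ≠ a → c ≠ g a → c ≠ g (g a) →
      ∃ k ∈ M24, ∃ f < 3, HasShape (k⁻¹ * g * k) (forms3.getD f []) := by
    intro c hc hca hcb hcc
    obtain ⟨d0, d1, d2⟩ := hout c hca hcb hcc
    obtain ⟨e0, e1, e2⟩ := hout (g c) d0 d1 d2
    have hc1 : g (g c) ≠ g c := fun h => hc (g.injective h)
    have hc2 : g (g c) ≠ c := by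
      intro h
      have := congrArg g h
      rw [hg3] at this
      exact hc this.symm
    have hnd : [a, g a, g (g a), c, g c].Nodup :=
      nodup5 ha.symm ha2.symm hca.symm d0.symm ha1.symm hcb.symm d1.symm hcc.symm d2.symm hc.symm
    obtain ⟨k, hk, k0, k1, k2, k3, k4⟩ := exists_five a (g a) (g (g a)) c (g c) hnd
    have hf' : ∀ i < 5, k⁻¹ (g (g c)) ≠ bpt i := by
      intro i hi h
      have h1 : g (g c) = k (bpt i) := by rw [← h]; simp
      interval_cases i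
      · rw [k0] at h1; exact e0 h1
      · rw [k1] at h1; exact e1 h1
      · rw [k2] at h1; exact e2 h1
      · rw [k3] at h1; exact hc2 h1
      · rw [k4] at h1; exact hc1 h1
    obtain ⟨u, hu, hu1, hu2⟩ := exists_fix5 _ hf'
    have e0' : (k * u) (bpt 0) = a := by show k (u (bpt 0)) = a; rw [hu1 0 (by decide), k0]
    have e1' : (k * u) (bpt 1) = g a := by show k (u (bpt 1)) = g a; rw [hu1 1 (by decide), k1]
    have e2' : (k * u) (bpt 2) = g (g a) := by
      show k (u (bpt 2)) = g (g a); rw [hu1 2 (by decide), k2]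
    have e3' : (k * u) (bpt 3) = c := by show k (u (bpt 3)) = c; rw [hu1 3 (by decide), k3]
    have e4' : (k * u) (bpt 4) = g c := by show k (u (bpt 4)) = g c; rw [hu1 4 (by decide), k4]
    rcases hu2 with h5 | h6
    · have e5' : (k * u) (bpt 5) = g (g c) := by show k (u (bpt 5)) = g (g c); rw [h5]; simp
      refine ⟨k * u, M24.mul_mem hk hu, 0, by decide, ?_⟩
      exact hasShape_of (conj_apply e0' e1' rfl) (conj_apply e1' e2' rfl)
        (conj_apply e2' e0' (hg3 a)) (conj_apply e3' e4' rfl) (conj_apply e4' e5' rfl)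
    · have e6' : (k * u) (bpt 6) = g (g c) := by show k (u (bpt 6)) = g (g c); rw [h6]; simp
      refine ⟨k * u, M24.mul_mem hk hu, 1, by decide, ?_⟩
      exact hasShape_of (conj_apply e0' e1' rfl) (conj_apply e1' e2' rfl)
        (conj_apply e2' e0' (hg3 a)) (conj_apply e3' e4' rfl) (conj_apply e4' e6' rfl)
  obtain ⟨c, hc⟩ := exists_notMem (card3 a (g a) (g (g a)))
  simp only [Finset.mem_insert, Finset.mem_singleton, not_or] at hc
  obtain ⟨hca, hcb, hcc⟩ := hc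
  by_cases hgc : g c = c
  · obtain ⟨d, hd⟩ := exists_notMem (card4 a (g a) (g (g a)) c)
    simp only [Finset.mem_insert, Finset.mem_singleton, not_or] at hd
    obtain ⟨hda, hdb, hdc, hdd⟩ := hd
    by_cases hgd : g d = d
    · have hnd : [a, g a, g (g a), c, d].Nodup :=
        nodup5 ha.symm ha2.symm (Ne.symm hca) (Ne.symm hda) ha1.symm (Ne.symm hcb) (Ne.symm hdb)
          (Ne.symm hcc) (Ne.symm hdc) (Ne.symm hdd)
      obtain ⟨k, hk, k0, k1, k2, k3, k4⟩ := exists_five a (g a) (g (g a)) c d hnd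
      refine ⟨k, hk, 2, by decide, ?_⟩
      exact hasShape_of (conj_apply k0 k1 rfl) (conj_apply k1 k2 rfl)
        (conj_apply k2 k0 (hg3 a)) (conj_apply k3 k3 hgc) (conj_apply k4 k4 hgd)
    · exact shapeA d hgd hda hdb hdc
  · exact shapeA c hgc hca hcb hcc

/-! ### the certificates -/

def formWords3 : List (List ℕ) := [
  [1, 3, 0, 0, 2, 0, 2, 0, 2, 2, 3, 3, 2, 0, 4, 4, 3, 3, 3, 4],
  [1, 3, 0, 0, 2, 0, 2, 0, 2, 2, 3, 3, 4, 0, 0, 0, 2, 3, 3, 3, 2, 0],
  [1, 3, 4, 3, 3, 4, 4, 0, 4, 3, 2, 0, 4, 4, 3, 3, 3, 4]]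

theorem formWords3_spec : ∀ f : Fin 3, ∀ i : Fin 5,
    evalW (formWords3.getD f []) (base.getD i 0) = base.getD ((forms3.getD f []).getD i 0) 0 := by
  decide +kernel

/-- an element of order 3 with six fixed points. -/
def t1w : List ℕ := [0, 2, 0, 2]

/-- an element of order 3 without fixed points. -/
def t2w : List ℕ := [0, 1]

def certs3 : List (ℕ × ℕ × ℕ × ℕ × List ℕ) := [
  (0, 10, 5, 2, [0, 2, 3, 3, 2, 0, 0, 0, 0]),
  (0, 10, 14, 2, [2, 2, 0, 1, 3, 3, 3, 3, 3, 1, 2]),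
  (0, 10, 17, 2, [0, 0, 2, 3, 2, 0, 1, 2, 3, 3, 4, 3]),
  (1, 4, 5, 1, [1, 0, 0, 2, 2, 0, 2, 2, 0, 1]),
  (1, 6, 5, 1, [1, 2, 3, 1, 0, 0, 4, 0, 2, 0]),
  (1, 9, 17, 1, [1, 3, 4, 0, 2, 3, 3, 3, 3, 3]),
  (1, 12, 5, 1, [3, 3, 3, 3, 2, 0, 1, 3, 3, 2]),
  (2, 4, 5, 1, [0, 1, 3, 2, 0, 4, 3, 1, 0, 0]),
  (2, 4, 17, 1, [2, 3, 1, 4, 4, 0, 4, 0]),
  (2, 6, 5, 1, [1, 3, 4, 0, 0, 0, 4, 4, 0, 4]),
  (2, 6, 14, 1, [0, 1, 0, 0, 0, 1, 3, 4, 0, 1]),
  (2, 7, 17, 1, [1, 3, 3, 2, 2, 3, 2, 3, 3, 3, 4]),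
  (2, 8, 5, 1, [1, 2, 3, 1, 2, 2, 3, 2, 3, 1, 2]),
  (2, 8, 17, 1, [1, 0, 2, 3, 3, 2, 3, 2, 3, 2]),
  (2, 9, 17, 1, [3, 2, 3, 1, 4, 3, 3, 4, 0]),
  (2, 10, 5, 1, [3, 2, 3, 1, 0, 1, 3, 3, 1]),
  (2, 10, 17, 1, [0, 1, 3, 3, 4, 3, 3, 4, 0, 2, 3, 3]),
  (2, 11, 17, 1, [1, 0, 0, 0, 1, 2, 3, 4, 0, 0, 4]),
  (2, 12, 5, 1, [1, 2, 2, 0, 2, 3, 2, 2, 0, 4]),
  (2, 13, 5, 1, [2, 0, 0, 1, 3, 2, 3, 4, 0, 4]),
  (2, 13, 14, 1, [3, 1, 0, 0, 0, 2, 2, 0, 0]),
  (2, 13, 17, 1, [3, 3, 2, 2, 0, 1, 3, 3, 3, 4]),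
  (2, 15, 5, 1, [0, 4, 0, 0, 1, 4, 3, 3, 3, 1, 0]),
  (2, 16, 14, 1, [3, 4, 0, 1, 4, 0, 4, 3, 2, 2]),
  (2, 16, 17, 1, [0, 1, 3, 3, 3, 1, 0, 4, 3, 4, 4]),
  (2, 18, 14, 1, [1, 2, 2, 0, 1, 3, 2, 0, 0]),
  (2, 19, 17, 1, [0, 1, 3, 2, 0, 4, 4, 0, 1, 3, 4]),
  (2, 20, 14, 1, [1, 3, 3, 4, 4, 3, 3, 4, 0, 1, 2]),
  (2, 21, 5, 1, [1, 2, 2, 3, 3, 1, 2, 2, 3, 1, 2]),
  (2, 22, 5, 1, [0, 4, 3, 2, 3, 1, 0, 0, 0, 1, 3]),
  (2, 22, 14, 1, [1, 0, 0, 2, 0, 1, 4, 3, 1, 2])]

def candWord3 (f c5 c6 : ℕ) : List ℕ := formWords3.getD f [] ++ wordAt 5 c5 ++ wordAt 6 c6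

def candOK3 (f c5 c6 : ℕ) : Bool :=
  !(okTarget 5 c5 && okTarget 6 c6 && isOrd3Tab (candWord3 f c5 c6)) ||
    certs3.any (fun c => c.1 == f && c.2.1 == c5 && c.2.2.1 == c6 &&
      (conjOK (candWord3 f c5 c6) c.2.2.2.2 t1w || conjOK (candWord3 f c5 c6) c.2.2.2.2 t2w))

theorem cand_check3 : ∀ f : Fin 3, ∀ c5 c6 : Fin 24, candOK3 f c5 c6 = true := by decide +kernel

/-- every element of order 3 of `M24` is conjugate to one of the two standard ones. -/
theorem ord3_conj (g : Equiv.Perm GolayPt) (hg : g ∈ M24) (ho : orderOf g = 3) :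
    ∃ k ∈ M24, k * g * k⁻¹ = wordPerm t1w ∨ k * g * k⁻¹ = wordPerm t2w := by
  obtain ⟨k, hk, f, hf, hform⟩ := normal_form3 g ho
  have hg' : k⁻¹ * g * k ∈ M24 := M24.mul_mem (M24.mul_mem (M24.inv_mem hk) hg) hk
  have hform' : ∀ i < 5, (k⁻¹ * g * k) (bpt i) = wordPerm (formWords3.getD f []) (bpt i) := by
    intro i hi
    rw [hform i hi]
    symm
    exact wordPerm_pt (base_lt ⟨i, by omega⟩) (formWords3_spec ⟨f, hf⟩ ⟨i, hi⟩)
  obtain ⟨c5, c6, h5, h6, heq⟩ := eq_candidate _ _ hg' hform'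
  have hg3 : g * g * g = 1 := by
    have h := pow_orderOf_eq_one g
    rw [ho, pow_succ, sq] at h
    exact h
  have hne : g ≠ 1 := by
    intro h
    rw [h, orderOf_one] at ho
    omega
  have h3 : (k⁻¹ * g * k) * (k⁻¹ * g * k) * (k⁻¹ * g * k) = 1 := by
    calc (k⁻¹ * g * k) * (k⁻¹ * g * k) * (k⁻¹ * g * k) = k⁻¹ * (g * g * g) * k := by group
      _ = 1 := by rw [hg3]; group
  have h1 : k⁻¹ * g * k ≠ 1 := by
    intro h
    apply hne
    calc g = k * (k⁻¹ * g * k) * k⁻¹ := by group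
      _ = 1 := by rw [h]; group
  have hcw : wordPerm (candWord3 f c5 c6) = k⁻¹ * g * k := heq.symm
  have hord : isOrd3Tab (candWord3 f c5 c6) = true := by
    apply isOrd3Tab_of
    · rw [hcw]; exact h3
    · rw [hcw]; exact h1
  have hc := cand_check3 ⟨f, hf⟩ c5 c6
  unfold candOK3 at hc
  simp only [h5, h6, hord, Bool.and_self, Bool.not_true, Bool.false_or, List.any_eq_true,
    Bool.and_eq_true, Bool.or_eq_true] at hc
  obtain ⟨c, _, _, hconj⟩ := hc
  have key : ∀ zw, conjOK (candWord3 f c5 c6) c.2.2.2.2 zw = true →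
      (wordPerm c.2.2.2.2 * k⁻¹) * g * (wordPerm c.2.2.2.2 * k⁻¹)⁻¹ = wordPerm zw := by
    intro zw hzw
    have h3 := conj_of_conjOK hzw
    rw [← h3, hcw]
    group
  refine ⟨wordPerm c.2.2.2.2 * k⁻¹, M24.mul_mem (wordPerm_mem_M24 _) (M24.inv_mem hk), ?_⟩
  rcases hconj with h | h
  · exact Or.inl (key _ h)
  · exact Or.inr (key _ h)

/-! ### the two standard elements -/

theorem t1_cube : wordPerm t1w * wordPerm t1w * wordPerm t1w = 1 ∧ wordPerm t1w ≠ 1 :=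
  isOrd3Tab_iff_of_true (by decide +kernel)

theorem t2_cube : wordPerm t2w * wordPerm t2w * wordPerm t2w = 1 ∧ wordPerm t2w ≠ 1 :=
  isOrd3Tab_iff_of_true (by decide +kernel)

/-- mask of the fixed points of the first standard element of order 3. -/
def t1fix : ℕ := 11536408

theorem t1fix_spec : ∀ i : Fin 24, t1fix.testBit i = decide (evalW t1w i = i) := by decide +kernel

theorem t2_noFix : ∀ i : Fin 24, evalW t2w i ≠ i := by decide +kernel

theorem t1fix_pc : pc t1fix = 6 := by decide +kernel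

theorem t1_fixed : (Finset.univ.filter fun p => wordPerm t1w p = p) = fs t1fix := by
  ext p
  rw [Finset.mem_filter, mem_fs, wordPerm_fix_iff]
  have := t1fix_spec ⟨idx p, idx_lt p⟩
  simp only at this
  rw [this]
  simp

theorem t1_fixed_card : (Finset.univ.filter fun p => wordPerm t1w p = p).card = 6 := by
  rw [t1_fixed, card_fs, t1fix_pc]

theorem t2_fixed (p : GolayPt) : wordPerm t2w p ≠ p := by
  rw [Ne, wordPerm_fix_iff]
  exact t2_noFix ⟨idx p, idx_lt p⟩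

end Cfsg.Agent.Lib.Helper92
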