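import Cfsg.Agent.Lib.Helper92.M24Ord3

set_option autoImplicit false

/-! Elements of order 6 of `Cfsg.M24`: the numbers of fixed points of the cube and of the fourth
power are `(8, 6)` or `(0, 0)`. -/

namespace Cfsg.Agent.Lib.Helper92

open Cfsg Cfsg.Agent.Lib.Helper10

/-- the `n`-th power of a word. -/
def wpow (w : List ℕ) : ℕ → List ℕ
  | 0 => []
  | n + 1 => w ++ wpow w n

theorem wordPerm_wpow (w : List ℕ) (n : ℕ) : wordPerm (wpow w n) = wordPerm w ^ n := by
  induction n with
  | zero => rfl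
  | succ n ih => rw [wpow, wordPerm_append, ih, pow_succ']

/-- number of fixed indices of a word. -/
def fixCount (w : List ℕ) : ℕ := (List.range 24).countP (fun i => evalW w i == i)

theorem card_fix_wordPerm (w : List ℕ) :
    (Finset.univ.filter fun p => wordPerm w p = p).card = fixCount w := by
  unfold fixCount
  rw [← card_filter_idx]
  congr 1
  ext p
  simp only [Finset.mem_filter, Finset.mem_univ, true_and, beq_iff_eq]
  exact wordPerm_fix_iff w p

/-- table check for a word being the identity. -/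
def isOneTab (w : List ℕ) : Bool := (List.range 24).all (fun i => evalW w i == i)

theorem isOneTab_iff (w : List ℕ) : isOneTab w = true ↔ wordPerm w = 1 := by
  unfold isOneTab
  rw [List.all_eq_true]
  constructor
  · intro h
    apply perm_ext_idx
    intro i
    rw [idx_wordPerm_pt w i.2]
    show _ = idx (pt i)
    rw [idx_pt i.2]
    have := h i (List.mem_range.mpr i.2)
    simpa using this
  · intro h i hi
    have hi' : i < 24 := List.mem_range.mp hi
    have := idx_wordPerm_pt w hi'
    rw [h] at this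
    simp only [Equiv.Perm.coe_one, id_eq, idx_pt hi'] at this
    simp [← this]

/-- table check for a word having order 6. -/
def isOrd6Tab (w : List ℕ) : Bool :=
  isOneTab (wpow w 6) && !isOneTab (wpow w 2) && !isOneTab (wpow w 3)

theorem isOrd6Tab_of {w : List ℕ} (ho : orderOf (wordPerm w) = 6) : isOrd6Tab w = true := by
  unfold isOrd6Tab
  have h6 : isOneTab (wpow w 6) = true := by
    rw [isOneTab_iff, wordPerm_wpow, ← ho]
    exact pow_orderOf_eq_one _
  have h2 : isOneTab (wpow w 2) = false := by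
    rw [Bool.eq_false_iff, Ne, isOneTab_iff, wordPerm_wpow]
    intro h
    have := orderOf_dvd_of_pow_eq_one h
    rw [ho] at this
    omega
  have h3 : isOneTab (wpow w 3) = false := by
    rw [Bool.eq_false_iff, Ne, isOneTab_iff, wordPerm_wpow]
    intro h
    have := orderOf_dvd_of_pow_eq_one h
    rw [ho] at this
    omega
  rw [h6, h2, h3]
  rfl

/-! ### shapes of elements of order 6 -/

def forms6 : List (List ℕ) := [[1, 2, 3, 4, 5], [1, 2, 3, 4, 6], [1, 2, 0, 4, 3]]

theorem pow_apply_inj (g : Equiv.Perm GolayPt) (p : GolayPt) (n : ℕ)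
    (h : ∀ k, 0 < k → k < n → (g ^ k) p ≠ p) {i j : ℕ} (hi : i < n) (hj : j < n)
    (hij : (g ^ i) p = (g ^ j) p) : i = j := by
  by_contra hne
  rcases Nat.lt_or_gt_of_ne hne with hlt | hlt
  · apply h (j - i) (by omega) (by omega)
    have : g ^ j = g ^ i * g ^ (j - i) := by rw [← pow_add]; congr 1; omega
    rw [this, Equiv.Perm.mul_apply] at hij
    exact ((g ^ i).injective hij).symm
  · apply h (i - j) (by omega) (by omega)
    have : g ^ i = g ^ j * g ^ (i - j) := by rw [← pow_add]; congr 1; omega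
    rw [this, Equiv.Perm.mul_apply] at hij
    exact (g ^ j).injective hij

theorem normal_form6 (g : Equiv.Perm GolayPt) (ho : orderOf g = 6) :
    ∃ k ∈ M24, ∃ f < 3, HasShape (k⁻¹ * g * k) (forms6.getD f []) := by
  have hg6 : g ^ 6 = 1 := by rw [← ho]; exact pow_orderOf_eq_one g
  have hg2 : g ^ 2 ≠ 1 := by
    intro h
    have := orderOf_dvd_of_pow_eq_one h
    rw [ho] at this
    omega
  have hg3 : g ^ 3 ≠ 1 := by
    intro h
    have := orderOf_dvd_of_pow_eq_one h
    rw [ho] at this
    omega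
  have hstep : ∀ (i : ℕ) (p : GolayPt), g ((g ^ i) p) = (g ^ (i + 1)) p := by
    intro i p
    rw [pow_succ', Equiv.Perm.mul_apply]
  by_cases hA : ∃ p, (g ^ 2) p ≠ p ∧ (g ^ 3) p ≠ p
  · obtain ⟨p, hp2, hp3⟩ := hA
    have hk : ∀ k, 0 < k → k < 6 → (g ^ k) p ≠ p := by
      intro k hk0 hk6 h
      have h1 : (g ^ 1) p ≠ p := by
        intro h1
        apply hp2
        rw [show (2 : ℕ) = 1 + 1 by rfl, pow_add, Equiv.Perm.mul_apply, h1, h1]
      interval_cases k
      · exact h1 h
      · exact hp2 h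
      · exact hp3 h
      · apply hp2
        have h6 : (g ^ 6) p = p := by rw [hg6]; rfl
        rw [show (6 : ℕ) = 2 + 4 by rfl, pow_add, Equiv.Perm.mul_apply, h] at h6
        exact h6
      · apply h1
        have h6 : (g ^ 6) p = p := by rw [hg6]; rfl
        rw [show (6 : ℕ) = 1 + 5 by rfl, pow_add, Equiv.Perm.mul_apply, h] at h6
        exact h6
    have hne : ∀ i j, i < 6 → j < 6 → i ≠ j → (g ^ i) p ≠ (g ^ j) p :=
      fun i j hi hj hij h => hij (pow_apply_inj g p 6 hk hi hj h)
    have hnd : [(g ^ 0) p, (g ^ 1) p, (g ^ 2) p, (g ^ 3) p, (g ^ 4) p].Nodup :=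
      nodup5 (hne 0 1 (by decide) (by decide) (by decide))
        (hne 0 2 (by decide) (by decide) (by decide))
        (hne 0 3 (by decide) (by decide) (by decide))
        (hne 0 4 (by decide) (by decide) (by decide))
        (hne 1 2 (by decide) (by decide) (by decide))
        (hne 1 3 (by decide) (by decide) (by decide))
        (hne 1 4 (by decide) (by decide) (by decide))
        (hne 2 3 (by decide) (by decide) (by decide))
        (hne 2 4 (by decide) (by decide) (by decide))
        (hne 3 4 (by decide) (by decide) (by decide))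
    obtain ⟨k, hkM, k0, k1, k2, k3, k4⟩ := exists_five _ _ _ _ _ hnd
    have hf' : ∀ i < 5, k⁻¹ ((g ^ 5) p) ≠ bpt i := by
      intro i hi h
      have h1 : (g ^ 5) p = k (bpt i) := by rw [← h]; simp
      interval_cases i
      · rw [k0] at h1; exact hne 5 0 (by decide) (by decide) (by decide) h1
      · rw [k1] at h1; exact hne 5 1 (by decide) (by decide) (by decide) h1
      · rw [k2] at h1; exact hne 5 2 (by decide) (by decide) (by decide) h1
      · rw [k3] at h1; exact hne 5 3 (by decide) (by decide) (by decide) h1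
      · rw [k4] at h1; exact hne 5 4 (by decide) (by decide) (by decide) h1
    obtain ⟨u, hu, hu1, hu2⟩ := exists_fix5 _ hf'
    have e0 : (k * u) (bpt 0) = (g ^ 0) p := by
      show k (u (bpt 0)) = _; rw [hu1 0 (by decide), k0]
    have e1 : (k * u) (bpt 1) = (g ^ 1) p := by
      show k (u (bpt 1)) = _; rw [hu1 1 (by decide), k1]
    have e2 : (k * u) (bpt 2) = (g ^ 2) p := by
      show k (u (bpt 2)) = _; rw [hu1 2 (by decide), k2]
    have e3 : (k * u) (bpt 3) = (g ^ 3) p := by
      show k (u (bpt 3)) = _; rw [hu1 3 (by decide), k3]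
    have e4 : (k * u) (bpt 4) = (g ^ 4) p := by
      show k (u (bpt 4)) = _; rw [hu1 4 (by decide), k4]
    rcases hu2 with h5 | h6
    · have e5 : (k * u) (bpt 5) = (g ^ 5) p := by show k (u (bpt 5)) = _; rw [h5]; simp
      refine ⟨k * u, M24.mul_mem hkM hu, 0, by decide, ?_⟩
      exact hasShape_of (conj_apply e0 e1 (hstep 0 p)) (conj_apply e1 e2 (hstep 1 p))
        (conj_apply e2 e3 (hstep 2 p)) (conj_apply e3 e4 (hstep 3 p))
        (conj_apply e4 e5 (hstep 4 p))
    · have e6 : (k * u) (bpt 6) = (g ^ 5) p := by show k (u (bpt 6)) = _; rw [h6]; simp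
      refine ⟨k * u, M24.mul_mem hkM hu, 1, by decide, ?_⟩
      exact hasShape_of (conj_apply e0 e1 (hstep 0 p)) (conj_apply e1 e2 (hstep 1 p))
        (conj_apply e2 e3 (hstep 2 p)) (conj_apply e3 e4 (hstep 3 p))
        (conj_apply e4 e6 (hstep 4 p))
  · push Not at hA
    obtain ⟨a, ha⟩ : ∃ a, (g ^ 2) a ≠ a := by
      by_contra h
      push Not at h
      exact hg2 (Equiv.ext h)
    obtain ⟨c, hc⟩ : ∃ c, (g ^ 3) c ≠ c := by
      by_contra h
      push Not at h
      exact hg3 (Equiv.ext h)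
    have ha3 : (g ^ 3) a = a := hA a ha
    have hc2 : (g ^ 2) c = c := by
      by_contra h
      exact hc (hA c h)
    -- `g ^ 3` fixes the cycle of `a` and moves `c`, `g c`
    have hcomm : ∀ x, (g ^ 3) (g x) = g ((g ^ 3) x) := by
      intro x
      rw [← Equiv.Perm.mul_apply, ← Equiv.Perm.mul_apply, ← pow_succ, ← pow_succ']
    have P1 : (g ^ 3) (g a) = g a := by rw [hcomm, ha3]
    have P2 : (g ^ 3) (g (g a)) = g (g a) := by rw [hcomm, P1]
    have Q1 : (g ^ 3) (g c) ≠ g c := by
      rw [hcomm]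
      exact fun h => hc (g.injective h)
    have hgga : g (g a) = (g ^ 2) a := by rw [sq, Equiv.Perm.mul_apply]
    have hggc : g (g c) = c := by
      have := hc2
      rwa [sq, Equiv.Perm.mul_apply] at this
    have hggga : g (g (g a)) = a := by
      have : g (g (g a)) = (g ^ 3) a := by
        rw [show (3 : ℕ) = 2 + 1 by rfl, pow_succ', Equiv.Perm.mul_apply, sq, Equiv.Perm.mul_apply]
      rw [this, ha3]
    have n01 : a ≠ g a := by
      intro h
      apply ha
      rw [← hgga, ← h, ← h]
    have n02 : a ≠ g (g a) := by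
      rw [hgga]; exact ha.symm
    have n12 : g a ≠ g (g a) := fun h => n01 (g.injective h)
    have n34 : c ≠ g c := by
      intro h
      apply hc
      rw [show (3 : ℕ) = 2 + 1 by rfl, pow_succ, Equiv.Perm.mul_apply, ← h, hc2]
    have n03 : a ≠ c := fun h => hc (h ▸ ha3)
    have n13 : g a ≠ c := fun h => hc (h ▸ P1)
    have n23 : g (g a) ≠ c := fun h => hc (h ▸ P2)
    have n04 : a ≠ g c := fun h => Q1 (h ▸ ha3)
    have n14 : g a ≠ g c := fun h => Q1 (h ▸ P1)
    have n24 : g (g a) ≠ g c := fun h => Q1 (h ▸ P2)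
    have hnd : [a, g a, g (g a), c, g c].Nodup := nodup5 n01 n02 n03 n04 n12 n13 n14 n23 n24 n34
    obtain ⟨k, hkM, k0, k1, k2, k3, k4⟩ := exists_five _ _ _ _ _ hnd
    refine ⟨k, hkM, 2, by decide, ?_⟩
    exact hasShape_of (conj_apply k0 k1 rfl) (conj_apply k1 k2 rfl) (conj_apply k2 k0 hggga)
      (conj_apply k3 k4 rfl) (conj_apply k4 k3 hggc)

/-! ### the check -/

def formWords6 : List (List ℕ) := [
  [1, 3, 3, 2, 2, 0, 0, 4, 4, 0, 2, 3, 3, 3, 3, 2],
  [1, 3, 3, 2, 2, 0, 0, 4, 4, 0, 2, 3, 3, 3, 3, 2, 1, 3, 2, 3, 2, 3, 4, 4, 3, 1],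
  [1, 3, 0, 0, 2, 0, 2, 0, 2, 2, 3, 2, 3, 3, 4, 3, 3, 2, 0, 4, 4, 3]]

theorem formWords6_spec : ∀ f : Fin 3, ∀ i : Fin 5,
    evalW (formWords6.getD f []) (base.getD i 0) = base.getD ((forms6.getD f []).getD i 0) 0 := by
  decide +kernel

def candWord6 (f c5 c6 : ℕ) : List ℕ := formWords6.getD f [] ++ wordAt 5 c5 ++ wordAt 6 c6

/-- the fixed point numbers of the cube and the fourth power are `(8, 6)` or `(0, 0)`. -/
def fixOK (w : List ℕ) : Bool :=
  (fixCount (wpow w 4) == 6 && fixCount (wpow w 3) == 8) ||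
    (fixCount (wpow w 4) == 0 && fixCount (wpow w 3) == 0)

def candOK6 (f c5 c6 : ℕ) : Bool :=
  !(okTarget 5 c5 && okTarget 6 c6 && isOrd6Tab (candWord6 f c5 c6)) || fixOK (candWord6 f c5 c6)

theorem cand_check6 : ∀ f : Fin 3, ∀ c5 c6 : Fin 24, candOK6 f c5 c6 = true := by decide +kernel

theorem card_fix_conj (k g : Equiv.Perm GolayPt) (n : ℕ) :
    (Finset.univ.filter fun p => ((k⁻¹ * g * k) ^ n) p = p).card =
      (Finset.univ.filter fun p => (g ^ n) p = p).card := by
  have hpow : (k⁻¹ * g * k) ^ n = k⁻¹ * g ^ n * k := by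
    induction n with
    | zero => simp
    | succ n ih => rw [pow_succ, ih, pow_succ]; group
  rw [hpow]
  apply Finset.card_bij (fun p _ => k p)
  · intro p hp
    simp only [Finset.mem_filter, Finset.mem_univ, true_and] at hp ⊢
    have : (k⁻¹ * g ^ n * k) p = k⁻¹ ((g ^ n) (k p)) := rfl
    rw [this, Equiv.Perm.inv_eq_iff_eq] at hp
    exact hp
  · intro p _ q _ h
    exact k.injective h
  · intro q hq
    simp only [Finset.mem_filter, Finset.mem_univ, true_and] at hq
    refine ⟨k⁻¹ q, ?_, by simp⟩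
    simp only [Finset.mem_filter, Finset.mem_univ, true_and]
    show k⁻¹ ((g ^ n) (k (k⁻¹ q))) = k⁻¹ q
    simp [hq]

/-- an element of order 6 of `M24`: the fixed points of its fourth power and of its cube number
`(6, 8)` or `(0, 0)`. -/
theorem ord6_fix (g : Equiv.Perm GolayPt) (hg : g ∈ M24) (ho : orderOf g = 6) :
    ((Finset.univ.filter fun p => (g ^ 4) p = p).card = 6 ∧
      (Finset.univ.filter fun p => (g ^ 3) p = p).card = 8) ∨
    ((Finset.univ.filter fun p => (g ^ 4) p = p).card = 0 ∧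
      (Finset.univ.filter fun p => (g ^ 3) p = p).card = 0) := by
  obtain ⟨k, hk, f, hf, hform⟩ := normal_form6 g ho
  have hg' : k⁻¹ * g * k ∈ M24 := M24.mul_mem (M24.mul_mem (M24.inv_mem hk) hg) hk
  have hform' : ∀ i < 5, (k⁻¹ * g * k) (bpt i) = wordPerm (formWords6.getD f []) (bpt i) := by
    intro i hi
    rw [hform i hi]
    symm
    exact wordPerm_pt (base_lt ⟨i, by omega⟩) (formWords6_spec ⟨f, hf⟩ ⟨i, hi⟩)
  obtain ⟨c5, c6, h5, h6, heq⟩ := eq_candidate _ _ hg' hform'
  have hcw : wordPerm (candWord6 f c5 c6) = k⁻¹ * g * k := heq.symm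
  have ho' : orderOf (k⁻¹ * g * k) = 6 := by
    have : k⁻¹ * g * k = MulAut.conj k⁻¹ g := by simp
    rw [this, MulEquiv.orderOf_eq, ho]
  have hord : isOrd6Tab (candWord6 f c5 c6) = true := by
    apply isOrd6Tab_of
    rw [hcw]; exact ho'
  have hc := cand_check6 ⟨f, hf⟩ c5 c6
  unfold candOK6 at hc
  simp only [h5, h6, hord, Bool.and_self, Bool.not_true, Bool.false_or] at hc
  unfold fixOK at hc
  rw [← card_fix_conj k g 4, ← card_fix_conj k g 3, ← hcw, ← wordPerm_wpow, ← wordPerm_wpow,
    card_fix_wordPerm, card_fix_wordPerm]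
  simpa using hc

end Cfsg.Agent.Lib.Helper92
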