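import Cfsg.Agent.Lib.Helper92.M24Class
import Cfsg.Agent.Lib.Helper92.M24Ord6

set_option autoImplicit false

namespace Cfsg.Agent.Lib.Helper92

open Cfsg Cfsg.Agent.Lib.Helper10 Cfsg.Agent.Lib.Helper95
open scoped Pointwise
open Classical

/-! ### a standard element of order 7, its centraliser and the normaliser of its subgroup -/

def s0w : List ℕ := [1, 3, 3, 2, 2, 0, 0, 4, 4, 0, 2, 3, 3, 3, 3, 2, 0, 2, 2, 3, 4, 3, 3, 3, 2, 3, 2, 0]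

def s0T : List ℕ := [1, 2, 3, 14, 11, 23, 4, 12, 8, 21, 20, 19, 15, 6, 5, 18, 9, 17, 16, 10, 13, 7, 22, 0]

def s0P : List (List ℕ) := [
  [0, 1, 2, 3, 4, 5, 6, 7, 8, 9, 10, 11, 12, 13, 14, 15, 16, 17, 18, 19, 20, 21, 22, 23],
  [1, 2, 3, 14, 11, 23, 4, 12, 8, 21, 20, 19, 15, 6, 5, 18, 9, 17, 16, 10, 13, 7, 22, 0],
  [2, 3, 14, 5, 19, 0, 11, 15, 8, 7, 13, 10, 18, 4, 23, 16, 21, 17, 9, 20, 6, 12, 22, 1],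
  [3, 14, 5, 23, 10, 1, 19, 18, 8, 12, 6, 20, 16, 11, 0, 9, 7, 17, 21, 13, 4, 15, 22, 2],
  [14, 5, 23, 0, 20, 2, 10, 16, 8, 15, 4, 13, 9, 19, 1, 21, 12, 17, 7, 6, 11, 18, 22, 3],
  [5, 23, 0, 1, 13, 3, 20, 9, 8, 18, 11, 6, 21, 10, 2, 7, 15, 17, 12, 4, 19, 16, 22, 14],
  [23, 0, 1, 2, 6, 14, 13, 21, 8, 16, 19, 4, 7, 20, 3, 12, 18, 17, 15, 11, 10, 9, 22, 5]]

def nW : List (List (List ℕ)) := [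
  [[],
   [],
   [],
   [],
   [],
   [],
   [],
   [],
   [],
   [],
   [],
   [],
   [],
   [],
   [],
   [],
   [],
   [],
   [],
   [],
   [],
   [],
   [],
   []],
  [[1, 3, 3, 2, 2, 0, 0, 4, 4, 0, 2, 3, 3, 3, 3, 2, 0, 2, 2, 3, 4, 3, 3, 3, 2, 3, 2, 0],
   [0, 1, 3, 3, 2, 2, 0, 0, 4, 4, 0, 0, 0, 0, 4, 3, 2, 4, 3, 2, 3, 2, 3, 4, 0, 2, 0],
   [0, 0, 1, 3, 3, 3, 3, 3, 4, 0, 0, 2, 3, 2, 2, 0, 0, 2, 3, 2, 0, 4, 4, 3, 3, 3, 4],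
   [0, 0, 0, 1, 0, 0, 3, 2, 0, 4, 3, 3, 4, 0, 0, 2, 2, 0, 4, 0, 2, 0, 4, 3, 4, 3, 3, 4, 4, 0, 2, 0],
   [2, 2, 0, 1, 0, 4, 0, 0, 4, 4, 3, 2, 0, 4, 0, 0, 0, 0, 4, 3, 2, 0, 2, 2, 3, 4, 3, 3, 3, 2, 3, 2, 0],
   [3, 4, 0, 1, 2, 2, 0, 0, 2, 0, 2, 0, 2, 2, 3, 0, 0, 0, 0, 0, 4, 0, 0, 0, 0, 2],
   [4, 0, 1, 3, 3, 4, 3, 4, 3, 2, 0, 4, 0, 2, 0, 2, 0, 2, 3],
   [0, 4, 0, 1, 2, 3, 2, 3, 4, 0, 2, 2, 3, 2, 0, 4, 4, 0, 4, 3, 2, 3, 3, 3, 2, 3, 4, 3, 3, 2, 2],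
   [],
   [4, 1, 3, 3, 1, 3, 3, 2, 0, 0, 0, 0, 2, 3, 3, 4, 4, 0, 0, 0, 0, 4, 3, 4, 3, 2, 3, 2, 3, 4, 0, 2, 0],
   [2, 0, 4, 3, 1, 0, 0, 0, 0, 4, 0, 4, 3, 3, 4, 4, 3, 3, 2, 0, 0, 3, 4, 0, 0, 0, 4, 3, 3, 3, 2, 0],
   [1, 0, 0, 1, 3, 2, 0, 0, 2, 3, 2, 3, 3, 0, 2, 3, 3, 3, 3, 2, 2, 2, 0, 0, 0, 2, 2, 3, 4, 0],
   [1, 3, 3, 1, 2, 3, 2, 3, 4, 2, 0, 2, 0, 2, 0, 0, 2, 0, 2, 0, 2],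
   [3, 2, 3, 1, 0, 0, 2, 3, 4, 4, 3, 3, 2, 0, 0, 1, 3, 2, 3, 2, 3, 4, 4, 3, 1],
   [2, 3, 1, 3, 3, 3, 3, 4, 3, 4, 3, 2, 2, 2, 0, 2, 0, 2, 0, 0, 2, 2, 3, 4, 3, 3, 3, 2, 3, 2, 0],
   [0, 2, 3, 1, 0, 0, 0, 0, 0, 4, 3, 3, 3, 2, 3, 2, 3, 4, 4, 3, 3, 0, 0, 0, 0, 0, 4, 0, 0, 0, 0, 2],
   [4, 3, 2, 3, 1, 2, 2, 0, 3, 3, 4, 4, 0, 2, 3, 2, 2, 0, 0, 2, 3, 4, 0, 0, 0, 2, 3, 3, 3, 2, 0],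
   [],
   [2, 0, 1, 3, 2, 3, 3, 3, 3, 3, 2, 2, 0, 2, 0, 2, 0, 2, 0, 2, 2, 1, 0, 0, 0, 2, 3, 3, 2, 1],
   [4, 3, 1, 3, 3, 3, 3, 4, 0, 2, 2, 3, 4, 0, 0, 0, 0, 4, 3, 2, 0, 2, 0, 2, 0, 2],
   [0, 4, 3, 1, 4, 3, 3, 3, 3, 3, 3, 2, 2, 0, 4, 4, 0, 0, 0, 0, 4, 3, 3, 4, 4, 3, 3, 3, 4, 3, 2, 0, 0],
   [3, 3, 1, 4, 3, 3, 4, 0, 2, 0, 2, 0, 2],
   [],
   []],
  [[1, 4, 4, 3, 3, 4, 3, 4, 3, 2, 2, 0, 2, 3, 2, 2, 3, 2, 0, 0],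
   [0, 1, 4, 4, 3, 3, 3, 3, 3, 2, 2, 0, 3, 3, 4, 4, 0, 4, 4, 0, 0, 0, 0, 0, 4, 0, 0, 0, 0, 2],
   [0, 0, 1, 3, 3, 4, 4, 2, 0, 2, 0, 2, 0, 0, 0, 0, 0, 0, 4, 0, 0, 0, 0, 2],
   [0, 0, 0, 1, 4, 4, 3, 4, 0, 0, 0, 2, 3, 3, 2, 0, 2, 0, 2, 0, 3, 4, 4, 3, 3, 3, 4, 3, 2, 0, 0],
   [2, 2, 0, 1, 2, 3, 3, 3, 0, 0, 0, 2, 3, 3, 4, 0, 0, 0, 0, 4, 3, 2, 0, 2, 2, 3, 4, 3, 3, 3, 2, 3, 2, 0],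
   [3, 4, 0, 1, 2, 2, 0, 2, 3, 3, 4, 4, 0, 0, 4, 0, 2, 0, 2, 0, 2, 3, 4, 4, 0, 0, 2, 0, 4, 0, 0],
   [4, 0, 1, 2, 3, 3, 2, 2, 0, 0, 4, 2, 2, 3, 2, 2, 0, 0, 4, 4, 1, 3, 3, 4, 4, 3, 4, 4, 0, 2, 1],
   [0, 4, 0, 1, 2, 3, 3, 3, 2, 2, 4, 4, 0, 0, 0, 0, 4, 3, 4, 3, 2, 3, 2, 3, 4, 0, 2, 0],
   [],
   [4, 1, 3, 3, 1, 0, 0, 0, 0, 4, 3, 3, 3, 4, 4, 0, 0, 0, 0, 4, 3, 3, 4, 4, 3, 3, 3, 4, 3, 2, 0, 0],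
   [2, 0, 4, 3, 1, 2, 3, 3, 3, 0, 0, 4, 0, 4, 3, 4, 0, 2, 3, 3, 3, 3, 2, 4, 4, 1, 3, 3, 4, 4, 3, 4, 4, 0, 2, 1],
   [1, 0, 0, 1, 2, 0, 3, 2, 2, 0, 0, 4, 2, 2, 0, 4, 4, 3, 2, 0, 4, 0, 0, 0, 0, 0, 4, 0, 0, 0, 0, 2],
   [1, 3, 3, 1, 2, 3, 3, 3, 3, 3, 2, 0, 0, 0, 0, 2, 3, 2, 2, 0, 0, 2, 3, 4, 0, 0, 0, 2, 3, 3, 3, 2, 0],
   [3, 2, 3, 1, 3, 3, 3, 2, 2, 0, 2, 3, 3, 3, 3, 2, 2, 2, 3, 3, 4, 3, 3, 2, 0, 4, 4, 3],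
   [2, 3, 1, 2, 3, 3, 4, 4, 0, 2, 3, 2, 2, 0, 0, 2],
   [0, 2, 3, 1, 2, 3, 3, 3, 3, 2, 0, 4, 3, 3, 2, 3, 2, 2, 0, 0, 2, 3, 4, 4, 3, 3, 3, 4, 3, 2, 0, 0],
   [4, 3, 2, 3, 1, 4, 3, 3, 4, 0, 2, 2, 3, 4, 4, 0, 0, 0, 0, 4, 3, 0, 0, 0, 0, 0, 4, 0, 0, 0, 0, 2],
   [],
   [2, 0, 1, 3, 3, 0, 0, 4, 3, 3, 3, 0, 4, 0, 2, 0, 2, 0, 2, 3, 3, 4, 3, 2, 2, 0, 0, 2, 0, 2, 3],
   [4, 3, 1, 0, 0, 3, 2, 0, 4, 3, 3, 4, 3, 2, 2, 3, 4, 0, 0, 0, 3, 4, 3, 2, 0, 4, 0, 4, 0, 2],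
   [0, 4, 3, 1, 0, 3, 3, 2, 0, 0, 0, 0, 2, 3, 2, 2, 0, 0, 2, 0, 2, 0, 2, 0, 2],
   [3, 3, 1, 2, 0, 0, 4, 4, 3, 2, 0, 2, 0, 2, 0, 2, 0, 0, 0, 0, 0, 0, 4, 0, 0, 0, 0, 2],
   [],
   [0, 4, 4, 4, 0, 0, 2, 2, 0, 4, 0, 2, 2, 3, 3, 4, 3, 3, 2, 0, 4, 4, 3]],
  [[1, 0, 2, 3, 3, 3, 3, 3, 2, 2, 0, 4, 0, 0, 0, 0, 4, 3, 2, 2, 3, 3, 4, 3, 3, 2, 0, 4, 4, 3],
   [0, 1, 0, 4, 0, 3, 3, 3, 3, 4, 0, 0, 3, 3, 4, 0, 0, 2, 2, 0, 4, 3, 2, 3, 2, 3, 4, 0, 2, 0],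
   [0, 0, 1, 0, 2, 3, 3, 4, 4, 3, 3, 2, 0, 0, 4, 4, 0, 0, 2, 0, 4, 0, 0],
   [0, 0, 0, 1, 0, 2, 3, 3, 3, 3, 2, 2, 4, 4, 1, 3, 3, 4, 4, 3, 4, 4, 0, 2, 1],
   [2, 2, 0, 1, 0, 0, 4, 0, 0, 0, 4, 0, 4, 3, 4, 0, 0, 0, 0, 4, 3, 2, 2, 0, 0, 0, 2, 2, 3, 4, 0],
   [3, 4, 0, 1, 2, 3, 2, 3, 3, 4, 0, 2, 2, 3, 4, 0, 2, 3, 3, 3, 3, 2, 2, 3, 3, 4, 3, 3, 2, 0, 4, 4, 3],
   [4, 0, 1, 3, 3, 2, 3, 3, 3, 3, 3, 2, 2, 0, 0, 4, 0, 2, 0, 2, 0, 2, 3, 3, 4, 3, 2, 0, 4, 0, 4, 0, 2],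
   [0, 4, 0, 1, 3, 3, 2, 0, 3, 2, 0, 4, 3, 3, 4, 0, 2, 3, 3, 3, 3, 2, 3, 4, 3, 2, 0, 4, 0, 4, 0, 2],
   [],
   [4, 1, 3, 3, 1, 0, 2, 2, 2, 2, 1, 0, 0, 0, 2, 3, 3, 2, 1],
   [2, 0, 4, 3, 1, 4, 0, 3, 2, 0, 4, 3, 3, 4, 3, 2, 2, 3, 4, 0, 0, 0, 1, 3, 2, 3, 2, 3, 4, 4, 3, 1],
   [1, 0, 0, 1, 4, 3, 2, 2, 4, 0, 2, 3, 3, 3, 3, 2, 0, 2, 2, 3, 4, 3, 3, 3, 2, 3, 2, 0],
   [1, 3, 3, 1, 3, 3, 3, 4, 0, 2, 2, 3, 4, 0, 2, 3, 3, 3, 3, 2, 2, 2, 1, 0, 0, 0, 2, 3, 3, 2, 1],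
   [3, 2, 3, 1, 3, 3, 2, 0, 2, 2, 4, 0, 0, 2, 2, 0, 4, 0, 2, 0, 0, 0, 0, 0, 4, 0, 0, 0, 0, 2],
   [2, 3, 1, 3, 2, 4, 0, 0, 2, 2, 0, 4, 0, 2, 0, 0, 0, 0, 0, 4, 0, 0, 0, 0, 2],
   [0, 2, 3, 1, 0, 4, 0, 0, 0, 4, 0, 4, 3, 2, 2, 3, 2, 2, 0, 0],
   [4, 3, 2, 3, 1, 0, 2, 3, 3, 2, 2, 0, 0, 4, 2, 2, 0, 4, 4, 3, 2, 0, 4],
   [],
   [2, 0, 1, 3, 2, 0, 0, 2, 3, 2, 3, 3, 4, 0, 0, 0, 0, 4, 3, 2, 0, 2, 0, 2, 0, 2],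
   [4, 3, 1, 3, 3, 2, 0, 3, 3, 2, 0, 0, 0, 0, 0, 4, 0, 2, 0, 2, 0, 2, 3, 0, 4, 3, 4, 3, 3, 4, 4, 0, 2, 0],
   [0, 4, 3, 1, 3, 2, 0, 0, 4, 4, 3, 2, 0, 2, 0, 2, 0, 2, 0],
   [3, 3, 1, 2, 2, 0, 0, 0, 0, 2, 3, 3, 4, 0, 0, 2, 2, 0, 4, 0, 2, 2, 3, 3, 4, 3, 3, 2, 0, 4, 4, 3],
   [],
   [0, 0, 3, 4, 3, 4, 3, 2, 2, 4, 0, 0, 0, 0, 4, 3, 2, 2, 0, 0, 0, 2, 2, 3, 4, 0]],
  [[1, 2, 0, 2, 2, 3, 2, 3, 4, 4, 3, 3, 4, 3, 2, 3, 2, 3, 4, 0, 2, 0],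
   [0, 1, 3, 2, 0, 3, 3, 3, 3, 4, 0, 0, 4, 0, 2, 3, 3, 3, 3, 2, 3, 4, 0, 0, 0, 4, 3, 3, 3, 2, 0],
   [0, 0, 1, 3, 3, 3, 3, 4, 0, 0, 0, 2, 3, 3, 3, 3, 2, 2, 3, 4, 3, 2, 2, 0, 0, 2, 0, 2, 3],
   [0, 0, 0, 1, 0, 0, 4, 0, 3, 3, 3, 3, 4, 0, 0, 3, 3, 4, 0, 0, 2, 2, 0, 4, 4, 1, 3, 3, 4, 4, 3, 4, 4, 0, 2, 1],
   [2, 2, 0, 1, 3, 2, 0, 0, 4, 4, 3, 2, 0, 0, 2, 3, 3, 3, 3, 2, 2, 0, 2, 0, 2, 0, 2],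
   [3, 4, 0, 1, 4, 4, 3, 2, 2, 0, 4, 4, 3, 2, 0, 4, 3, 2, 0, 4, 4, 3, 3, 3, 4],
   [4, 0, 1, 4, 3, 3, 4, 3, 4, 3, 2, 0, 2, 3, 3, 3, 3, 2, 2, 2, 0, 0, 0, 2, 2, 3, 4, 0],
   [0, 4, 0, 1, 2, 0, 2, 3, 4, 0, 2, 2, 3, 4, 0, 0, 2, 2, 0, 4, 0, 2, 4, 3, 2, 3, 2, 3, 4, 0, 2, 0],
   [],
   [4, 1, 3, 3, 1, 2, 3, 2, 3, 4, 0, 0, 0, 2, 3, 3, 4, 4, 0, 0, 0, 0, 4, 3, 4, 3, 2, 3, 2, 3, 4, 0, 2, 0],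
   [2, 0, 4, 3, 1, 3, 3, 2, 2, 3, 3, 4, 0, 0, 2, 2, 0, 4, 4, 1, 3, 3, 4, 4, 3, 4, 4, 0, 2, 1],
   [1, 0, 0, 1, 2, 3, 2, 3, 3, 3, 4, 4, 0, 4, 0, 2, 3, 3, 3, 3, 2, 2, 0, 0, 0, 2, 2, 3, 4, 0],
   [1, 3, 3, 1, 3, 2, 3, 2, 3, 4, 0, 2, 2, 3, 3, 3, 4, 0, 0, 2, 2, 0, 3, 3, 2, 3, 4, 3, 3, 2, 2],
   [3, 2, 3, 1, 0, 2, 0, 4, 4, 0, 4, 3, 2, 3, 0, 2, 0, 2, 0, 2],
   [2, 3, 1, 3, 2, 3, 4, 2, 2, 3, 2, 2, 0, 0, 0, 2, 2, 3, 4, 3, 3, 3, 2, 3, 2, 0],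
   [0, 2, 3, 1, 0, 4, 4, 0, 2, 3, 3, 3, 3, 2, 2, 3, 3, 2, 3, 4, 3, 3, 2, 2],
   [4, 3, 2, 3, 1, 2, 0, 0, 0, 0, 2, 3, 3, 3, 3, 4, 0, 0, 2, 2, 0, 2, 0, 0, 0, 2, 2, 3, 4, 0],
   [],
   [2, 0, 1, 4, 3, 3, 0, 4, 4, 3, 2, 0, 3, 4, 4, 3, 3, 2, 0, 0],
   [4, 3, 1, 4, 4, 3, 0, 0, 4, 0, 4, 3, 4, 3, 2, 2, 3, 4, 0, 0, 0, 4, 4, 0, 0, 2, 0, 4, 0, 0],
   [0, 4, 3, 1, 3, 3, 3, 0, 0, 4, 0, 4, 3, 2, 3, 3, 4, 3, 3, 2, 0, 4, 4, 3],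
   [3, 3, 1, 0, 0, 4, 0, 4, 4, 4, 4, 0, 0, 0, 0, 4, 3, 2, 3, 3, 4, 3, 3, 2, 0, 4, 4, 3],
   [],
   [0, 0, 0, 3, 3, 3, 3, 2, 2, 0, 4, 3, 2, 2, 3, 4, 0, 0, 0, 2, 0, 0, 0, 2, 2, 3, 4, 0]],
  [[1, 2, 3, 2, 3, 3, 2, 0, 4, 3, 3, 0, 0, 2, 0, 2, 0, 2, 2, 3, 3, 4, 0, 0, 0, 4, 3, 3, 3, 2, 0],
   [0, 1, 0, 0, 4, 3, 3, 3, 2, 0, 4, 4, 0, 4, 3, 2, 3, 2, 3, 3, 4, 3, 3, 2, 0, 4, 4, 3],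
   [0, 0, 1, 3, 3, 2, 3, 3, 4, 3, 4, 3, 2, 2, 3, 2, 3, 4, 4, 3, 3, 2, 2, 1, 0, 0, 0, 2, 3, 3, 2, 1],
   [0, 0, 0, 1, 3, 3, 2, 3, 3, 4, 0, 2, 2, 3, 4, 0, 0, 0, 0, 4, 3, 2, 3, 2, 0, 4, 4, 3, 3, 3, 4],
   [2, 2, 0, 1, 3, 2, 3, 4, 0, 0, 0, 2, 3, 3, 0, 2, 3, 2, 2, 3, 2, 0, 0, 0, 2, 0, 2, 0, 2],
   [3, 4, 0, 1, 3, 0, 2, 3, 2, 3, 3, 2, 3, 2, 2, 0, 0, 2, 4, 4, 0, 0, 2, 0, 4, 0, 0],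
   [4, 0, 1, 4, 3, 3, 0, 2, 3, 2, 3, 3, 4, 0, 2, 3, 3, 3, 3, 2, 0, 2, 2, 3, 4, 3, 3, 3, 2, 3, 2, 0],
   [0, 4, 0, 1, 0, 0, 0, 2, 3, 3, 4, 4, 0, 2, 0, 4, 4, 0, 4, 3, 2, 3, 2, 3, 3, 4, 3, 3, 2, 0, 4, 4, 3],
   [],
   [4, 1, 3, 3, 1, 4, 0, 0, 0, 0, 2, 3, 3, 3, 3, 4, 4, 0, 4, 4, 0, 2, 0, 2, 0, 2],
   [2, 0, 4, 3, 1, 2, 0, 2, 0, 2, 0, 2, 0, 3, 4, 3, 2, 2, 0, 0, 2, 0, 2, 3],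
   [1, 0, 0, 1, 2, 2, 0, 3, 3, 4, 4, 0, 3, 4, 4, 3, 3, 2, 0, 0, 3, 3, 2, 3, 4, 3, 3, 2, 2],
   [1, 3, 3, 1, 2, 0, 2, 2, 2, 0, 4, 4, 0, 4, 3, 2, 3, 2, 2, 0, 4, 4, 0, 0, 4, 4, 0, 2, 3],
   [3, 2, 3, 1, 2, 3, 3, 2, 0, 4, 3, 3, 2, 2, 3, 2, 2, 0, 0, 4, 3, 2, 3, 2, 3, 4, 0, 2, 0],
   [2, 3, 1, 2, 3, 2, 3, 3, 3, 3, 3, 4, 0, 0, 0, 0, 2, 0, 2, 0, 2, 2, 3, 1, 3, 2, 3, 2, 3, 4, 4, 3, 1],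
   [0, 2, 3, 1, 0, 2, 3, 3, 4, 3, 4, 3, 2, 2, 2, 2, 3, 2, 2, 0, 0, 3, 4, 0, 0, 0, 2, 3, 3, 3, 2, 0],
   [4, 3, 2, 3, 1, 4, 3, 3, 0, 0, 0, 2, 3, 3, 2, 3, 2, 2, 0, 0, 2, 3, 4, 3, 2, 2, 0, 0, 2, 0, 2, 3],
   [],
   [2, 0, 1, 3, 3, 3, 3, 3, 3, 3, 2, 2, 0, 0, 2, 3, 2, 2, 3, 2, 0, 0, 0, 2, 2, 3, 4, 3, 3, 3, 2, 3, 2, 0],
   [4, 3, 1, 0, 2, 3, 3, 3, 4, 4, 0, 4, 0, 2, 3, 3, 3, 3, 2, 4, 4, 1, 3, 3, 4, 4, 3, 4, 4, 0, 2, 1],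
   [0, 4, 3, 1, 2, 3, 2, 3, 3, 3, 4, 4, 0, 4, 3, 2, 2, 3, 4, 0, 0, 0, 3, 3, 2, 3, 4, 3, 3, 2, 2],
   [3, 3, 1, 2, 3, 3, 3, 2, 0, 0, 0, 0, 0, 0, 2, 0, 2, 0, 2, 2, 3, 3, 4, 3, 2, 0, 4, 0, 4, 0, 2],
   [],
   [2, 3, 3, 4, 0, 2, 2, 3, 0, 2, 3, 3, 3, 3, 2, 2]],
  [[1, 3, 2, 0, 4, 3, 3, 2, 3, 2, 3, 4, 4, 3, 3, 0, 2, 0, 2, 0, 2],
   [0, 1, 0, 3, 3, 3, 3, 4, 0, 0, 2, 3, 2, 2, 0, 0, 2, 2, 2, 1, 0, 0, 0, 2, 3, 3, 2, 1],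
   [0, 0, 1, 0, 0, 4, 4, 3, 2, 0, 0, 0, 2, 0, 2, 0, 2, 2, 3, 3, 4, 3, 2, 2, 0, 0, 2, 0, 2, 3],
   [0, 0, 0, 1, 0, 0, 4, 4, 3, 2, 0, 4, 0, 2, 3, 3, 3, 3, 2, 2, 2, 0, 4, 4, 0, 0, 4, 4, 0, 2, 3],
   [2, 2, 0, 1, 0, 2, 3, 0, 2, 3, 2, 3, 3, 2, 2, 0, 4, 4, 3, 2, 0, 4, 3, 2, 0, 4, 4, 3, 3, 3, 4],
   [3, 4, 0, 1, 2, 0, 2, 2, 3, 2, 2, 0, 0, 2, 2, 0, 0, 0, 2, 2, 3, 4, 0],
   [4, 0, 1, 3, 3, 3, 0, 0, 4, 0, 4, 3, 2, 0, 4, 4, 0, 4, 3, 2, 3, 2, 3, 3, 4, 3, 3, 2, 0, 4, 4, 3],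
   [0, 4, 0, 1, 4, 3, 3, 3, 4, 0, 2, 2, 3, 2, 0, 0, 0, 2, 2, 3, 4, 0],
   [],
   [4, 1, 3, 3, 1, 4, 3, 3, 3, 4, 3, 4, 3, 2, 2, 2, 0, 4, 4, 3, 2, 0, 2, 2, 3, 4, 0, 0, 0, 2, 3, 3, 3, 2, 0],
   [2, 0, 4, 3, 1, 3, 3, 3, 2, 3, 4, 0, 2, 2, 3, 3, 4, 0, 0, 0, 2, 3, 3, 3, 2, 0],
   [1, 0, 0, 1, 0, 0, 0, 4, 0, 0, 2, 2, 0, 4, 0, 2, 0, 2, 2, 3, 4, 3, 3, 3, 2, 3, 2, 0],
   [1, 3, 3, 1, 0, 0, 0, 3, 4, 3, 4, 3, 2, 4, 0, 0, 0, 0, 4, 3, 2, 3, 2, 0, 4, 4, 3, 3, 3, 4],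
   [3, 2, 3, 1, 4, 3, 2, 0, 2, 3, 3, 3, 3, 2, 2, 2, 2, 0, 4, 4, 0, 0, 4, 4, 0, 2, 3],
   [2, 3, 1, 3, 2, 0, 3, 3, 2, 0, 0, 0, 0, 2, 0, 4, 4, 3, 2, 0, 2, 2, 2, 3, 3, 4, 3, 3, 2, 0, 4, 4, 3],
   [0, 2, 3, 1, 2, 3, 3, 3, 4, 4, 0, 0, 4, 0, 2, 0, 2, 0, 2, 3, 0, 4, 3, 4, 3, 3, 4, 4, 0, 2, 0],
   [4, 3, 2, 3, 1, 3, 3, 3, 0, 0, 4, 0, 4, 3, 4, 4, 0, 0, 0, 0, 4, 3],
   [],
   [2, 0, 1, 2, 0, 3, 3, 3, 3, 2, 2, 0, 2, 2, 3, 2, 2, 0, 0, 4, 4, 1, 3, 3, 4, 4, 3, 4, 4, 0, 2, 1],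
   [4, 3, 1, 0, 0, 4, 0, 0, 0, 4, 0, 4, 3, 2, 2, 3, 2, 2, 0, 0],
   [0, 4, 3, 1, 0, 4, 0, 3, 4, 3, 4, 3, 2, 2, 3, 2, 2, 0, 0, 2, 1, 3, 2, 3, 2, 3, 4, 4, 3, 1],
   [3, 3, 1, 0, 0, 3, 2, 2, 0, 0, 4, 0, 2, 3, 2, 2, 3, 2, 0, 0, 4, 4, 0, 0, 2, 0, 4, 0, 0],
   [],
   [4, 3, 3, 3, 3, 2, 0, 0, 0, 0, 4, 0, 0, 2, 2, 0, 4, 0, 2, 0, 2, 2, 3, 4, 3, 3, 3, 2, 3, 2, 0]]]

def nT : List (List (List ℕ)) := [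
  [[],
   [],
   [],
   [],
   [],
   [],
   [],
   [],
   [],
   [],
   [],
   [],
   [],
   [],
   [],
   [],
   [],
   [],
   [],
   [],
   [],
   [],
   [],
   []],
  [[1, 2, 3, 14, 11, 23, 4, 12, 8, 21, 20, 19, 15, 6, 5, 18, 9, 17, 16, 10, 13, 7, 22, 0],
   [2, 3, 14, 5, 13, 17, 12, 15, 22, 9, 18, 4, 19, 16, 0, 10, 7, 23, 21, 11, 8, 20, 6, 1],
   [3, 14, 5, 23, 9, 17, 19, 13, 11, 20, 8, 22, 7, 6, 1, 21, 4, 0, 10, 15, 16, 18, 12, 2],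
   [14, 5, 23, 0, 6, 17, 15, 21, 7, 22, 12, 13, 8, 16, 2, 19, 18, 1, 9, 11, 20, 4, 10, 3],
   [11, 19, 10, 20, 5, 8, 15, 9, 12, 16, 22, 17, 0, 21, 6, 23, 7, 13, 18, 2, 14, 3, 1, 4],
   [23, 0, 1, 2, 22, 14, 21, 13, 15, 19, 16, 7, 4, 18, 3, 10, 20, 17, 8, 9, 12, 11, 6, 5],
   [4, 11, 19, 10, 17, 20, 21, 0, 16, 5, 18, 1, 12, 15, 8, 22, 23, 13, 2, 14, 3, 9, 7, 6],
   [12, 15, 18, 16, 5, 21, 1, 13, 23, 20, 17, 0, 10, 2, 9, 19, 11, 22, 6, 3, 14, 8, 4, 7],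
   [],
   [21, 7, 12, 15, 20, 16, 4, 2, 13, 1, 8, 6, 0, 11, 18, 23, 5, 22, 3, 19, 10, 17, 14, 9],
   [20, 13, 6, 4, 18, 8, 23, 5, 3, 0, 2, 21, 16, 14, 19, 22, 1, 11, 17, 12, 7, 9, 15, 10],
   [19, 10, 20, 13, 15, 6, 2, 12, 14, 9, 0, 18, 3, 1, 8, 5, 16, 4, 21, 7, 22, 23, 17, 11],
   [15, 18, 16, 9, 4, 22, 23, 3, 14, 17, 5, 6, 8, 1, 7, 10, 0, 21, 2, 19, 13, 11, 20, 12],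
   [6, 4, 11, 19, 2, 8, 21, 12, 7, 9, 16, 0, 1, 22, 20, 23, 15, 10, 18, 17, 3, 5, 14, 13],
   [5, 23, 0, 1, 11, 3, 6, 21, 4, 22, 13, 20, 9, 19, 2, 15, 7, 17, 16, 8, 10, 12, 18, 14],
   [18, 16, 9, 21, 2, 22, 10, 19, 4, 20, 6, 5, 3, 11, 12, 17, 13, 7, 8, 0, 23, 14, 1, 15],
   [9, 21, 7, 12, 0, 22, 11, 6, 10, 20, 13, 14, 3, 19, 18, 23, 8, 15, 4, 1, 2, 17, 5, 16],
   [],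
   [16, 9, 21, 7, 5, 15, 23, 8, 3, 13, 0, 2, 19, 1, 12, 4, 10, 22, 6, 14, 17, 11, 20, 18],
   [10, 20, 13, 6, 7, 8, 3, 0, 1, 17, 2, 21, 22, 5, 11, 18, 14, 4, 23, 15, 9, 12, 16, 19],
   [13, 6, 4, 11, 17, 19, 16, 5, 15, 3, 12, 23, 21, 7, 8, 22, 14, 10, 0, 2, 1, 18, 9, 20],
   [7, 12, 15, 18, 17, 9, 23, 19, 2, 6, 14, 0, 20, 3, 16, 4, 11, 22, 8, 5, 1, 13, 10, 21],
   [],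
   [0, 1, 2, 3, 4, 5, 6, 7, 8, 9, 10, 11, 12, 13, 14, 15, 16, 17, 18, 19, 20, 21, 22, 23]],
  [[2, 14, 23, 1, 15, 5, 16, 8, 9, 20, 21, 18, 13, 12, 3, 11, 4, 17, 6, 7, 22, 10, 19, 0],
   [3, 5, 0, 2, 21, 17, 10, 11, 20, 13, 19, 9, 12, 6, 23, 22, 4, 14, 8, 15, 7, 18, 16, 1],
   [14, 23, 1, 3, 15, 0, 18, 19, 12, 11, 7, 22, 10, 21, 5, 4, 8, 17, 6, 16, 9, 20, 13, 2],
   [5, 0, 2, 14, 8, 23, 12, 11, 16, 20, 15, 10, 9, 7, 17, 22, 6, 1, 13, 19, 4, 21, 18, 3],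
   [19, 20, 6, 11, 9, 10, 5, 12, 14, 21, 17, 16, 3, 2, 8, 1, 22, 13, 15, 7, 18, 0, 23, 4],
   [0, 2, 14, 23, 16, 17, 11, 8, 4, 20, 10, 21, 7, 6, 3, 12, 19, 1, 13, 15, 18, 9, 22, 5],
   [11, 10, 13, 4, 15, 19, 3, 12, 14, 22, 1, 21, 23, 17, 8, 5, 9, 20, 7, 18, 16, 2, 0, 6],
   [15, 16, 21, 12, 10, 9, 6, 23, 11, 17, 20, 19, 14, 13, 18, 5, 1, 22, 2, 8, 4, 3, 0, 7],
   [],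
   [7, 15, 16, 21, 5, 22, 6, 4, 19, 8, 20, 3, 17, 10, 18, 14, 11, 12, 13, 2, 1, 0, 23, 9],
   [13, 4, 19, 20, 16, 6, 2, 12, 14, 7, 23, 15, 17, 3, 8, 0, 18, 11, 21, 22, 9, 5, 1, 10],
   [10, 13, 4, 19, 16, 8, 0, 3, 14, 23, 1, 9, 18, 2, 6, 15, 17, 20, 5, 21, 12, 22, 7, 11],
   [18, 9, 7, 15, 11, 16, 1, 6, 5, 4, 14, 10, 3, 23, 22, 0, 13, 21, 19, 20, 8, 2, 17, 12],
   [4, 19, 20, 6, 16, 11, 1, 15, 5, 18, 14, 21, 3, 23, 8, 0, 12, 10, 9, 7, 22, 2, 17, 13],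
   [23, 1, 3, 5, 10, 2, 13, 22, 6, 16, 4, 20, 9, 19, 0, 12, 7, 17, 21, 11, 8, 18, 15, 14],
   [16, 21, 12, 18, 8, 7, 4, 3, 6, 14, 10, 19, 0, 11, 9, 23, 1, 22, 17, 13, 20, 2, 5, 15],
   [21, 12, 18, 9, 5, 15, 0, 8, 1, 20, 2, 23, 13, 14, 7, 11, 4, 22, 6, 3, 17, 10, 19, 16],
   [],
   [9, 7, 15, 16, 8, 12, 11, 14, 4, 5, 20, 10, 1, 19, 21, 0, 2, 22, 17, 6, 13, 3, 23, 18],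
   [20, 6, 11, 10, 15, 13, 14, 22, 17, 16, 23, 9, 3, 0, 8, 5, 18, 4, 12, 7, 21, 1, 2, 19],
   [6, 11, 10, 13, 21, 8, 2, 14, 17, 3, 23, 18, 7, 1, 19, 15, 0, 4, 5, 9, 22, 16, 12, 20],
   [12, 18, 9, 7, 5, 16, 23, 19, 14, 11, 3, 17, 10, 2, 15, 4, 8, 22, 6, 0, 1, 20, 13, 21],
   [],
   [1, 3, 5, 0, 7, 17, 20, 13, 4, 8, 19, 9, 22, 11, 14, 21, 6, 2, 10, 16, 18, 15, 12, 23]],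
  [[3, 23, 2, 5, 20, 17, 8, 9, 22, 15, 11, 10, 18, 16, 1, 13, 6, 14, 19, 21, 7, 4, 12, 0],
   [14, 0, 3, 23, 8, 17, 13, 15, 12, 16, 20, 19, 18, 7, 2, 10, 11, 5, 6, 9, 22, 4, 21, 1],
   [5, 1, 14, 0, 15, 23, 7, 19, 11, 9, 20, 6, 21, 16, 17, 22, 4, 3, 18, 12, 13, 8, 10, 2],
   [23, 2, 5, 1, 15, 0, 9, 11, 13, 16, 19, 6, 22, 12, 17, 7, 10, 14, 21, 18, 4, 20, 8, 3],
   [10, 6, 19, 13, 22, 11, 16, 9, 12, 2, 14, 23, 3, 0, 20, 7, 1, 8, 21, 17, 18, 5, 15, 4],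
   [1, 14, 0, 3, 4, 2, 19, 15, 16, 6, 9, 18, 13, 11, 17, 10, 22, 23, 8, 20, 7, 21, 12, 5],
   [19, 13, 11, 20, 1, 10, 23, 12, 7, 14, 18, 9, 5, 3, 8, 17, 21, 4, 2, 0, 16, 22, 15, 6],
   [18, 21, 15, 9, 2, 12, 5, 14, 23, 19, 4, 11, 20, 6, 16, 3, 13, 22, 1, 10, 0, 8, 17, 7],
   [],
   [12, 16, 7, 18, 3, 15, 23, 6, 10, 5, 4, 20, 17, 2, 22, 1, 11, 21, 0, 14, 13, 19, 8, 9],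
   [6, 19, 13, 11, 21, 8, 12, 1, 14, 23, 15, 22, 3, 5, 20, 16, 18, 4, 9, 17, 2, 7, 0, 10],
   [20, 4, 10, 6, 16, 19, 15, 7, 9, 2, 1, 17, 23, 5, 13, 18, 3, 8, 21, 0, 22, 14, 12, 11],
   [16, 7, 18, 21, 4, 9, 10, 1, 5, 19, 2, 23, 8, 6, 22, 13, 3, 15, 20, 11, 0, 14, 17, 12],
   [11, 20, 4, 10, 9, 8, 15, 17, 5, 14, 21, 7, 23, 2, 6, 16, 12, 19, 22, 3, 1, 18, 0, 13],
   [0, 3, 23, 2, 13, 5, 10, 11, 6, 18, 15, 22, 7, 21, 1, 20, 16, 17, 4, 12, 8, 9, 19, 14],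
   [9, 12, 16, 7, 19, 18, 10, 6, 13, 17, 14, 0, 23, 2, 21, 4, 5, 22, 8, 1, 11, 3, 20, 15],
   [7, 18, 21, 15, 11, 22, 10, 23, 2, 14, 20, 8, 1, 3, 9, 6, 13, 12, 4, 17, 0, 19, 5, 16],
   [],
   [21, 15, 9, 12, 8, 22, 10, 3, 2, 5, 19, 4, 14, 1, 16, 11, 6, 7, 20, 23, 17, 13, 0, 18],
   [13, 11, 20, 4, 12, 6, 21, 0, 23, 16, 2, 14, 9, 18, 8, 22, 5, 10, 15, 7, 3, 17, 1, 19],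
   [4, 10, 6, 19, 15, 13, 21, 22, 16, 3, 0, 23, 1, 2, 11, 9, 17, 8, 7, 5, 18, 14, 12, 20],
   [15, 9, 12, 16, 4, 18, 8, 14, 2, 13, 17, 23, 11, 10, 22, 20, 5, 7, 6, 19, 1, 3, 0, 21],
   [],
   [2, 5, 1, 14, 12, 3, 9, 8, 10, 22, 19, 13, 7, 21, 17, 15, 4, 0, 18, 16, 11, 6, 20, 23]],
  [[14, 1, 5, 2, 22, 23, 10, 9, 19, 16, 13, 15, 20, 11, 17, 8, 12, 3, 21, 7, 18, 6, 4, 0],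
   [5, 2, 23, 3, 19, 17, 9, 16, 21, 18, 7, 20, 4, 15, 14, 13, 22, 0, 12, 6, 10, 8, 11, 1],
   [23, 3, 0, 14, 6, 1, 21, 4, 18, 13, 7, 19, 22, 12, 17, 15, 20, 5, 10, 8, 11, 9, 16, 2],
   [0, 14, 1, 5, 6, 17, 15, 9, 16, 21, 7, 20, 10, 12, 23, 8, 18, 2, 22, 13, 11, 4, 19, 3],
   [20, 11, 13, 19, 14, 10, 3, 15, 0, 22, 23, 2, 9, 1, 6, 7, 21, 8, 12, 17, 5, 18, 16, 4],
   [2, 23, 3, 0, 6, 1, 19, 16, 8, 18, 20, 10, 12, 13, 14, 9, 21, 17, 15, 4, 11, 7, 22, 5],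
   [10, 4, 20, 11, 22, 19, 16, 1, 15, 3, 18, 12, 2, 21, 13, 0, 14, 8, 17, 7, 9, 23, 5, 6],
   [16, 12, 9, 15, 19, 18, 11, 2, 13, 17, 20, 4, 5, 6, 21, 0, 23, 22, 1, 8, 10, 3, 14, 7],
   [],
   [15, 21, 18, 7, 14, 16, 19, 5, 6, 3, 10, 0, 8, 20, 22, 13, 2, 12, 1, 17, 23, 11, 4, 9],
   [4, 20, 11, 13, 17, 19, 12, 3, 7, 2, 18, 0, 15, 21, 8, 22, 23, 6, 14, 5, 1, 16, 9, 10],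
   [13, 19, 6, 10, 7, 4, 0, 12, 14, 21, 1, 18, 17, 2, 8, 3, 9, 20, 16, 22, 15, 23, 5, 11],
   [9, 15, 21, 18, 5, 16, 3, 19, 2, 13, 17, 23, 11, 0, 7, 20, 4, 22, 6, 14, 1, 8, 10, 12],
   [19, 6, 10, 4, 21, 20, 1, 12, 14, 15, 23, 22, 3, 5, 8, 2, 18, 11, 9, 7, 16, 17, 0, 13],
   [1, 5, 2, 23, 19, 3, 21, 11, 16, 20, 22, 4, 15, 7, 17, 9, 8, 0, 10, 6, 13, 18, 12, 14],
   [21, 18, 7, 16, 14, 22, 13, 6, 19, 11, 20, 3, 0, 8, 9, 23, 10, 12, 4, 17, 1, 2, 5, 15],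
   [12, 9, 15, 21, 3, 7, 0, 8, 2, 4, 14, 5, 19, 1, 18, 11, 6, 22, 20, 23, 17, 13, 10, 16],
   [],
   [7, 16, 12, 9, 17, 22, 8, 20, 13, 11, 10, 2, 0, 6, 21, 1, 4, 15, 19, 5, 14, 23, 3, 18],
   [6, 10, 4, 20, 22, 13, 7, 14, 9, 23, 21, 16, 5, 15, 11, 3, 0, 8, 17, 18, 12, 2, 1, 19],
   [11, 13, 19, 6, 12, 8, 14, 23, 3, 17, 0, 16, 22, 5, 4, 21, 1, 10, 2, 15, 7, 9, 18, 20],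
   [18, 7, 16, 12, 14, 22, 13, 11, 4, 19, 10, 2, 1, 20, 15, 17, 6, 9, 8, 3, 23, 5, 0, 21],
   [],
   [3, 0, 14, 1, 7, 17, 20, 8, 19, 10, 11, 16, 21, 4, 2, 12, 6, 5, 13, 18, 9, 15, 22, 23]],
  [[5, 3, 1, 23, 22, 2, 21, 4, 20, 18, 10, 8, 9, 7, 17, 15, 13, 14, 12, 16, 11, 6, 19, 0],
   [23, 14, 2, 0, 16, 3, 21, 8, 4, 22, 10, 11, 7, 18, 17, 12, 19, 5, 9, 15, 6, 13, 20, 1],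
   [0, 5, 3, 1, 16, 17, 22, 4, 8, 19, 21, 7, 6, 10, 23, 12, 9, 14, 18, 20, 11, 15, 13, 2],
   [1, 23, 14, 2, 10, 5, 13, 22, 9, 8, 12, 21, 6, 19, 17, 4, 7, 0, 20, 11, 16, 18, 15, 3],
   [13, 10, 11, 6, 5, 8, 2, 16, 21, 12, 1, 3, 22, 9, 20, 23, 14, 19, 0, 7, 15, 17, 18, 4],
   [3, 1, 23, 14, 20, 17, 8, 21, 22, 12, 6, 4, 9, 15, 2, 11, 13, 0, 10, 18, 7, 19, 16, 5],
   [20, 19, 4, 13, 15, 8, 18, 1, 23, 0, 7, 22, 2, 3, 10, 12, 16, 11, 9, 17, 5, 21, 14, 6],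
   [9, 18, 12, 21, 19, 15, 11, 23, 2, 4, 0, 1, 20, 10, 22, 8, 5, 16, 6, 13, 14, 17, 3, 7],
   [],
   [18, 12, 21, 16, 6, 7, 4, 1, 2, 19, 23, 5, 13, 10, 22, 20, 17, 15, 8, 11, 0, 3, 14, 9],
   [11, 6, 20, 19, 9, 13, 7, 17, 0, 22, 3, 1, 12, 16, 8, 15, 2, 4, 21, 18, 23, 5, 14, 10],
   [6, 20, 19, 4, 2, 8, 14, 22, 12, 16, 23, 3, 9, 18, 13, 5, 0, 10, 17, 7, 21, 1, 15, 11],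
   [21, 16, 15, 7, 11, 18, 13, 2, 17, 10, 14, 0, 19, 8, 22, 20, 5, 9, 6, 4, 23, 3, 1, 12],
   [10, 11, 6, 20, 1, 19, 17, 0, 14, 18, 12, 7, 21, 22, 4, 2, 16, 8, 23, 9, 3, 15, 5, 13],
   [2, 0, 5, 3, 4, 17, 19, 22, 9, 12, 20, 11, 15, 7, 1, 10, 13, 23, 8, 16, 18, 6, 21, 14],
   [7, 9, 18, 12, 3, 22, 17, 10, 8, 13, 5, 23, 19, 6, 21, 0, 14, 16, 2, 4, 20, 1, 11, 15],
   [15, 7, 9, 18, 8, 12, 13, 19, 4, 5, 23, 0, 2, 14, 21, 10, 1, 22, 6, 17, 11, 3, 20, 16],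
   [],
   [12, 21, 16, 15, 23, 7, 5, 14, 3, 11, 20, 8, 10, 6, 9, 2, 13, 22, 0, 4, 17, 19, 1, 18],
   [4, 13, 10, 11, 21, 20, 16, 3, 5, 7, 0, 2, 22, 15, 8, 9, 14, 6, 12, 18, 23, 1, 17, 19],
   [19, 4, 13, 10, 0, 6, 1, 7, 12, 3, 9, 16, 23, 14, 8, 5, 22, 11, 17, 2, 21, 15, 18, 20],
   [16, 15, 7, 9, 19, 12, 20, 17, 0, 8, 3, 1, 13, 11, 22, 6, 2, 18, 10, 4, 23, 5, 14, 21],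
   [],
   [14, 2, 0, 5, 12, 17, 22, 20, 8, 6, 18, 16, 10, 4, 3, 9, 15, 1, 7, 11, 13, 21, 19, 23]],
  [[23, 5, 14, 3, 10, 17, 19, 18, 9, 12, 6, 20, 16, 15, 2, 8, 13, 1, 4, 7, 21, 11, 22, 0],
   [0, 23, 5, 14, 16, 17, 22, 20, 8, 13, 9, 15, 4, 19, 3, 21, 12, 2, 7, 6, 11, 18, 10, 1],
   [1, 0, 23, 5, 9, 3, 12, 11, 6, 16, 13, 19, 21, 15, 17, 22, 20, 14, 7, 18, 4, 8, 10, 2],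
   [2, 1, 0, 23, 12, 5, 21, 18, 16, 6, 11, 19, 8, 10, 14, 22, 4, 17, 15, 13, 9, 20, 7, 3],
   [6, 13, 20, 10, 2, 11, 3, 22, 15, 17, 7, 21, 0, 5, 8, 14, 18, 19, 23, 1, 9, 12, 16, 4],
   [14, 3, 2, 1, 11, 0, 8, 20, 6, 18, 15, 9, 12, 22, 23, 13, 7, 17, 4, 16, 19, 21, 10, 5],
   [13, 20, 10, 19, 15, 4, 7, 0, 23, 16, 3, 5, 12, 18, 8, 21, 1, 11, 9, 22, 17, 2, 14, 6],
   [21, 9, 16, 18, 3, 15, 23, 2, 5, 11, 6, 8, 19, 4, 12, 1, 10, 22, 0, 20, 17, 13, 14, 7],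
   [],
   [16, 18, 15, 12, 3, 22, 2, 11, 10, 6, 23, 14, 19, 4, 7, 17, 5, 21, 0, 13, 20, 1, 8, 9],
   [19, 11, 4, 6, 2, 13, 5, 1, 14, 18, 12, 22, 16, 15, 20, 0, 9, 8, 23, 21, 17, 7, 3, 10],
   [4, 6, 13, 20, 1, 19, 17, 12, 16, 14, 22, 9, 3, 0, 8, 2, 18, 10, 23, 5, 15, 21, 7, 11],
   [7, 21, 9, 16, 11, 15, 19, 17, 3, 8, 1, 0, 6, 20, 22, 10, 14, 18, 13, 4, 23, 2, 5, 12],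
   [20, 10, 19, 11, 16, 6, 9, 17, 3, 22, 1, 0, 15, 7, 8, 21, 14, 4, 12, 18, 23, 2, 5, 13],
   [3, 2, 1, 0, 4, 17, 6, 7, 15, 9, 10, 11, 12, 21, 23, 8, 19, 5, 20, 16, 18, 13, 22, 14],
   [12, 7, 21, 9, 2, 22, 5, 19, 6, 11, 17, 14, 4, 8, 16, 3, 0, 18, 1, 13, 10, 23, 20, 15],
   [18, 15, 12, 7, 5, 9, 0, 4, 8, 23, 11, 6, 2, 17, 22, 3, 13, 21, 14, 1, 19, 20, 10, 16],
   [],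
   [15, 12, 7, 21, 5, 9, 0, 23, 14, 8, 13, 20, 19, 11, 16, 1, 4, 22, 17, 6, 3, 10, 2, 18],
   [11, 4, 6, 13, 21, 8, 7, 17, 3, 1, 12, 18, 5, 14, 20, 16, 9, 10, 22, 23, 2, 15, 0, 19],
   [10, 19, 11, 4, 7, 6, 18, 21, 15, 0, 5, 17, 1, 23, 13, 9, 2, 8, 16, 3, 22, 14, 12, 20],
   [9, 16, 18, 15, 1, 22, 17, 13, 8, 6, 2, 23, 11, 10, 12, 3, 5, 7, 14, 4, 19, 0, 20, 21],
   [],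
   [5, 14, 3, 2, 12, 0, 18, 6, 8, 15, 4, 13, 9, 22, 17, 21, 20, 1, 7, 16, 11, 10, 19, 23]]]

def nKeys : List (ℕ × ℕ × ℕ × ℕ) := [(1, 0, 4, 5), (1, 0, 18, 14), (1, 1, 9, 5), (1, 1, 12, 14), (1, 2, 15, 14), (1, 2, 18, 17), (1, 3, 8, 5), (1, 3, 20, 17), (1, 4, 15, 14), (1, 4, 18, 17), (1, 5, 8, 17), (1, 5, 22, 14), (1, 6, 9, 14), (1, 6, 13, 5), (1, 7, 9, 17), (1, 7, 19, 17), (1, 9, 9, 17), (1, 9, 19, 17), (1, 10, 10, 5), (1, 10, 11, 5), (1, 11, 10, 14), (1, 11, 16, 14), (1, 12, 8, 5), (1, 12, 20, 17), (1, 13, 7, 5), (1, 13, 22, 17), (1, 14, 10, 17), (1, 14, 21, 5), (1, 15, 10, 5), (1, 15, 11, 5), (1, 16, 4, 14), (1, 16, 6, 14), (1, 18, 6, 5), (1, 18, 15, 5), (1, 19, 8, 5), (1, 19, 20, 17), (1, 20, 9, 14), (1, 20, 13, 5), (1, 21,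 8, 17), (1, 21, 22, 14), (1, 23, 4, 5), (1, 23, 18, 14), (2, 0, 6, 5), (2, 0, 15, 5), (2, 1, 10, 5), (2, 1, 11, 5), (2, 2, 12, 5), (2, 2, 13, 14), (2, 3, 9, 14), (2, 3, 13, 5), (2, 4, 20, 5), (2, 4, 22, 5), (2, 5, 13, 17), (2, 5, 19, 5), (2, 6, 4, 17), (2, 6, 15, 17), (2, 7, 10, 17), (2, 7, 21, 5), (2, 9, 8, 5), (2, 9, 20, 17), (2, 10, 6, 17), (2, 10, 18, 5), (2, 11, 4, 14), (2, 11, 6, 14), (2, 12, 10, 14), (2, 12, 16, 14), (2, 13, 10, 14), (2, 13, 16, 14), (2, 14, 6, 5), (2, 14, 15, 5), (2, 15, 8, 17), (2, 15, 22, 14), (2, 16, 6, 5), (2, 16, 15, 5), (2, 18, 8, 17), (2, 18, 22, 14), (2, 19, 11, 14), (2, 19, 21, 17), (2, 20, 9, 5), (2, 20, 12, 14), (2, 21, 12, 5), (2, 21, 13, 14), (2, 23, 8, 5), (2, 23, 20, 17), (4, 0, 9, 14),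 (4, 0, 13, 5), (4, 1, 4, 14), (4, 1, 6, 14), (4, 2, 6, 17), (4, 2, 18, 5), (4, 3, 10, 5), (4, 3, 11, 5), (4, 4, 10, 17), (4, 4, 21, 5), (4, 5, 4, 5), (4, 5, 18, 14), (4, 6, 8, 17), (4, 6, 22, 14), (4, 7, 10, 17), (4, 7, 21, 5), (4, 9, 6, 17), (4, 9, 18, 5), (4, 10, 9, 14), (4, 10, 13, 5), (4, 11, 6, 17), (4, 11, 18, 5), (4, 12, 9, 17), (4, 12, 19, 17), (4, 13, 7, 14), (4, 13, 8, 14), (4, 14, 20, 5), (4, 14, 22, 5), (4, 15, 7, 5), (4, 15, 22, 17), (4, 16, 6, 5), (4, 16, 15, 5), (4, 18, 16, 5), (4, 18, 21, 14), (4, 19, 8, 17), (4, 19, 22, 14), (4, 20, 8, 5), (4, 20, 20, 17), (4, 21, 10, 5), (4, 21, 11, 5), (4, 23, 13, 17), (4, 23, 19, 5)]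

theorem s0T_spec : tabW s0w = s0T := by decide +kernel

theorem s0P_spec : ∀ j : Fin 7, tabW (wpow s0w j) = s0P.getD j [] := by decide +kernel

theorem s0P_base : ∀ i : Fin 5, (s0P.getD i []).getD 23 0 = base.getD i 0 := by decide +kernel

theorem s0P_lt : ∀ j : Fin 7, ∀ x : Fin 24, (s0P.getD j []).getD x 0 < 24 := by decide +kernel

/-- the admissible pairs (exponent, image of the first base point). -/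
def nValid (j q : ℕ) : Bool := decide (1 ≤ j) && decide (j < 7) && s0T.getD q 0 != q

theorem nT_spec : ∀ j : Fin 7, ∀ q : Fin 24, nValid j q = true →
    tabW ((nW.getD j []).getD q []) = (nT.getD j []).getD q [] := by decide +kernel

theorem nT_base : ∀ j : Fin 7, ∀ q : Fin 24, nValid j q = true → ∀ i : Fin 5,
    ((nT.getD j []).getD q []).getD (base.getD i 0) 0 =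
      (s0P.getD ((j.val * i.val) % 7) []).getD q 0 := by decide +kernel

/-- the candidate with the given key. -/
def nCand (k : ℕ × ℕ × ℕ × ℕ) : List ℕ :=
  (nW.getD k.1 []).getD k.2.1 [] ++ wordAt 5 k.2.2.1 ++ wordAt 6 k.2.2.2

/-- the table of the candidate with the given key. -/
def nCandT (k : ℕ × ℕ × ℕ × ℕ) : List ℕ :=
  candT ((nT.getD k.1 []).getD k.2.1 []) k.2.2.1 k.2.2.2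

/-- table check for `n * s0 = s0 ^ j * n`. -/
def relOK (j : ℕ) (t : List ℕ) : Bool := compT t s0T == compT (s0P.getD j []) t

theorem n_check : ∀ j : Fin 7, ∀ q c5 c6 : Fin 24, nValid j q = true → okTarget 5 c5 = true →
    okTarget 6 c6 = true → relOK j (nCandT (j.val, q.val, c5.val, c6.val)) = true →
    (j.val, q.val, c5.val, c6.val) ∈ nKeys := by decide +kernel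

theorem nKeys_ok : ∀ k ∈ nKeys, k.1 < 7 ∧ k.2.1 < 24 ∧ k.2.2.1 < 24 ∧ k.2.2.2 < 24 ∧
    nValid k.1 k.2.1 = true ∧ relOK k.1 (nCandT k) = true := by decide +kernel

theorem nKeys_nodup : (nKeys.map nCandT).Nodup := by decide +kernel


theorem wordPerm_eq_of_tabW {w w' : List ℕ} (h : tabW w = tabW w') : wordPerm w = wordPerm w' := by
  apply perm_ext_idx
  intro i
  rw [idx_wordPerm_pt w i.2, idx_wordPerm_pt w' i.2, ← tabW_getD w i.2, ← tabW_getD w' i.2, h]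

theorem tabW_eq_of_wordPerm {w w' : List ℕ} (h : wordPerm w = wordPerm w') : tabW w = tabW w' := by
  rw [← tabOf_wordPerm, ← tabOf_wordPerm, h]

/-- the standard element of order 7. -/
noncomputable def s0 : Equiv.Perm GolayPt := wordPerm s0w

theorem s0_mem : s0 ∈ M24 := wordPerm_mem_M24 _

theorem s0_pow (m : ℕ) : s0 ^ m = wordPerm (wpow s0w m) := (wordPerm_wpow s0w m).symm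

theorem s0_pow_seven : s0 ^ 7 = 1 := by
  rw [s0_pow]
  have h : tabW (wpow s0w 7) = tabW [] := by decide +kernel
  have := wordPerm_eq_of_tabW h
  rw [this]
  rfl

theorem s0_pow_apply {m x : ℕ} (hm : m < 7) (hx : x < 24) :
    (s0 ^ m) (pt x) = pt ((s0P.getD m []).getD x 0) := by
  rw [s0_pow]
  apply wordPerm_pt hx
  rw [← tabW_getD _ hx]
  have := s0P_spec ⟨m, hm⟩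
  simp only at this
  rw [this]

theorem s0_pow_bpt {i : ℕ} (hi : i < 5) : (s0 ^ i) (bpt 0) = bpt i := by
  show (s0 ^ i) (pt 23) = pt (base.getD i 0)
  rw [s0_pow_apply (by omega) (by norm_num)]
  have := s0P_base ⟨i, hi⟩
  simp only at this
  rw [this]

/-- `relOK` expresses the relation for words. -/
theorem relOK_iff (j : ℕ) (hj : j < 7) (w : List ℕ) :
    relOK j (tabW w) = true ↔ wordPerm w * s0 = s0 ^ j * wordPerm w := by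
  unfold relOK
  rw [beq_iff_eq, ← s0T_spec]
  have h1 := s0P_spec ⟨j, hj⟩
  simp only at h1
  rw [← h1, ← tabW_append, ← tabW_append, s0_pow, s0, ← wordPerm_append, ← wordPerm_append]
  exact ⟨wordPerm_eq_of_tabW, tabW_eq_of_wordPerm⟩

theorem tabW_nCand (j : Fin 7) (q c5 c6 : Fin 24) (h : nValid j q = true) :
    tabW (nCand (j.val, q.val, c5.val, c6.val)) = nCandT (j.val, q.val, c5.val, c6.val) := by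
  unfold nCand nCandT
  rw [tabW_cand, nT_spec j q h]

theorem tabW_nCand_of_mem {k : ℕ × ℕ × ℕ × ℕ} (hk : k ∈ nKeys) : tabW (nCand k) = nCandT k := by
  obtain ⟨h1, h2, h3, h4, h5, -⟩ := nKeys_ok k hk
  exact tabW_nCand ⟨k.1, h1⟩ ⟨k.2.1, h2⟩ ⟨k.2.2.1, h3⟩ ⟨k.2.2.2, h4⟩ h5

theorem nKeys_rel {k : ℕ × ℕ × ℕ × ℕ} (hk : k ∈ nKeys) :
    wordPerm (nCand k) * s0 = s0 ^ k.1 * wordPerm (nCand k) := by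
  obtain ⟨h1, -, -, -, -, h6⟩ := nKeys_ok k hk
  rw [← relOK_iff k.1 h1, tabW_nCand_of_mem hk]
  exact h6

theorem rel_pow {n : Equiv.Perm GolayPt} {j : ℕ} (hrel : n * s0 = s0 ^ j * n) (i : ℕ) :
    n * s0 ^ i = s0 ^ (j * i) * n := by
  induction i with
  | zero => simp
  | succ i ih =>
    rw [pow_succ, ← mul_assoc, ih, mul_assoc, hrel, ← mul_assoc, ← pow_add, Nat.mul_succ]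

/-- an element of the group normalising the standard subgroup of order 7 is one of the 126
listed elements. -/
theorem norm_mem (n : Equiv.Perm GolayPt) (hn : n ∈ M24) (j : ℕ) (hj1 : 1 ≤ j) (hj7 : j < 7)
    (hrel : n * s0 = s0 ^ j * n) : ∃ k ∈ nKeys, k.1 = j ∧ n = wordPerm (nCand k) := by
  set q : Fin 24 := ⟨idx (n (bpt 0)), idx_lt _⟩ with hq
  have hnq : n (bpt 0) = pt q := (pt_idx _).symm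
  -- the image of the first base point is moved by `s0`
  have hmoved : s0 (pt q) ≠ pt q := by
    intro h
    have h1 : (s0 ^ j) (n (bpt 0)) = n (bpt 0) := by
      rw [hnq]
      clear hrel hj1 hj7
      induction j with
      | zero => simp
      | succ j ih => rw [pow_succ]; show (s0 ^ j) (s0 (pt q)) = pt q; rw [h, ih]
    have h2 : n (s0 (bpt 0)) = n (bpt 0) := by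
      have := congrArg (fun σ : Equiv.Perm GolayPt => σ (bpt 0)) hrel
      simp only [Equiv.Perm.coe_mul, Function.comp_apply] at this
      rw [this, h1]
    have h3 := n.injective h2
    have h4 := s0_pow_bpt (i := 1) (by norm_num)
    rw [pow_one, h3] at h4
    exact absurd (bpt_injective (by norm_num) (by norm_num) h4) (by norm_num)
  have hval : nValid j q = true := by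
    unfold nValid
    simp only [hj1, hj7, decide_true, Bool.true_and, bne_iff_ne, ne_eq]
    intro h
    apply hmoved
    have := s0_pow_apply (m := 1) (x := q) (by norm_num) q.2
    rw [pow_one] at this
    rw [this]
    congr 1
  have hbase : ∀ i < 5, n (bpt i) = wordPerm ((nW.getD j []).getD q []) (bpt i) := by
    intro i hi
    rw [← s0_pow_bpt hi]
    have h1 := congrArg (fun σ : Equiv.Perm GolayPt => σ (bpt 0)) (rel_pow hrel i)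
    simp only [Equiv.Perm.coe_mul, Function.comp_apply] at h1
    rw [h1, hnq, pow_eq_pow_mod (j * i) s0_pow_seven,
      s0_pow_apply (Nat.mod_lt _ (by norm_num)) q.2, s0_pow_bpt hi]
    symm
    show wordPerm _ (pt (base.getD i 0)) = _
    apply wordPerm_pt (base_lt ⟨i, by omega⟩)
    rw [← tabW_getD _ (base_lt ⟨i, by omega⟩)]
    have h2 := nT_spec ⟨j, hj7⟩ q hval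
    simp only at h2
    rw [h2]
    exact nT_base ⟨j, hj7⟩ q hval ⟨i, hi⟩
  obtain ⟨c5, c6, h5, h6, hneq⟩ := eq_candidate _ n hn hbase
  have hneq' : n = wordPerm (nCand (j, q.val, c5.val, c6.val)) := hneq
  refine ⟨(j, q.val, c5.val, c6.val), ?_, rfl, hneq'⟩
  apply n_check ⟨j, hj7⟩ q c5 c6 hval h5 h6
  rw [← tabW_nCand ⟨j, hj7⟩ q c5 c6 hval, relOK_iff j hj7, ← hneq']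
  exact hrel

end Cfsg.Agent.Lib.Helper92
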