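import Cfsg.Agent.Lib.Helper92.M24Class
import Cfsg.Agent.Lib.Helper95.SextetBasic

set_option autoImplicit false

namespace Cfsg.Agent.Lib.Helper92

open Cfsg Cfsg.Agent.Lib.Helper10 Cfsg.Agent.Lib.Helper95
open scoped Pointwise
open Classical

/-! ### the standard sextet and its stabiliser -/

def sxTets : List ℕ := [8388615, 147496, 268544, 1082880, 2621632, 4268048]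

def sxPerm4 : List (List ℕ) := [[23, 0, 1, 2], [23, 0, 2, 1], [23, 1, 0, 2], [23, 1, 2, 0], [23, 2, 0, 1], [23, 2, 1, 0], [0, 23, 1, 2], [0, 23, 2, 1], [0, 1, 23, 2], [0, 1, 2, 23], [0, 2, 23, 1], [0, 2, 1, 23], [1, 23, 0, 2], [1, 23, 2, 0], [1, 0, 23, 2], [1, 0, 2, 23], [1, 2, 23, 0], [1, 2, 0, 23], [2, 23, 0, 1], [2, 23, 1, 0], [2, 0, 23, 1], [2, 0, 1, 23], [2, 1, 23, 0], [2, 1, 0, 23]]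

def sxQ4 : List ℕ := [3, 5, 14, 17]

def sxSwapW : List (List (List ℕ)) := [
  [[],
   [2, 2, 3, 1, 0, 0, 4, 0, 4, 0, 0, 0, 2, 3, 3, 2, 0, 4, 4, 3, 2, 0, 2, 2, 3, 4, 3, 2, 0, 4, 0, 4, 0, 2, 3, 2, 3, 3, 3, 4, 0, 4, 3, 3, 3, 3, 4],
   [2, 0, 1, 0, 0, 0, 0, 4, 0, 4, 3, 2, 3, 2, 3, 4, 4, 3, 3, 2, 3, 3, 4, 3, 3, 2, 0, 4, 4, 3],
   [2, 0, 4, 3, 1, 0, 0, 3, 4, 3, 4, 3, 2, 2, 2, 3, 2, 3, 4, 4, 3, 3, 4, 3, 2, 3, 2, 3, 4, 0, 2, 0, 3, 3, 3, 3, 4, 3, 2, 0, 4, 4, 0],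
   [4, 0, 1, 3, 3, 2, 3, 3, 2, 2, 0, 0, 4, 0, 2, 3, 3, 3, 3, 2, 2, 3, 3, 2, 3, 4, 3, 3, 2, 2, 3, 2, 2, 3, 4, 0, 2, 0, 0, 0, 0],
   [3, 2, 3, 1, 0, 0, 0, 3, 3, 2, 0, 0, 0, 0, 0, 4, 0, 2, 0, 2, 0, 2, 3, 4, 3, 2, 3, 2, 3, 4, 0, 2, 0, 3, 2, 3, 3, 3, 4, 0, 4, 3, 3, 3, 3, 4]],
  [[2, 2, 3, 1, 0, 0, 4, 0, 4, 0, 0, 0, 2, 3, 3, 2, 0, 4, 4, 3, 2, 0, 2, 2, 3, 4, 3, 2, 0, 4, 0, 4, 0, 2, 3, 2, 3, 3, 3, 4, 0, 4, 3, 3, 3, 3, 4],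
   [],
   [0, 1, 0, 3, 3, 3, 3, 4, 0, 0, 0, 2, 3, 2, 2, 3, 2, 0, 0, 3, 4, 3, 2, 2, 0, 0, 2, 0, 2, 3, 3, 2, 2, 3, 4, 0, 2, 0, 0, 0, 0],
   [0, 1, 3, 3, 3, 3, 4, 0, 0, 2, 0, 4, 4, 3, 2, 0, 2, 2, 4, 3, 2, 3, 2, 3, 4, 0, 2, 0, 3, 2, 3, 3, 3, 4, 0, 4, 3, 3, 3, 3, 4],
   [0, 1, 3, 3, 3, 3, 4, 0, 0, 2, 0, 4, 4, 3, 2, 0, 2, 2, 0, 2, 0, 2, 0, 2, 0, 2, 0, 0, 4, 0, 4, 3, 2, 0, 4, 4, 3, 2],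
   [0, 0, 1, 3, 3, 2, 3, 2, 2, 4, 0, 2, 3, 3, 3, 3, 2, 4, 4, 0, 0, 2, 0, 4, 0, 0, 0, 2, 0, 2, 0, 4, 3, 4, 4, 3, 2, 0, 4, 0]],
  [[2, 0, 1, 0, 0, 0, 0, 4, 0, 4, 3, 2, 3, 2, 3, 4, 4, 3, 3, 2, 3, 3, 4, 3, 3, 2, 0, 4, 4, 3],
   [0, 1, 0, 3, 3, 3, 3, 4, 0, 0, 0, 2, 3, 2, 2, 3, 2, 0, 0, 3, 4, 3, 2, 2, 0, 0, 2, 0, 2, 3, 3, 2, 2, 3, 4, 0, 2, 0, 0, 0, 0],
   [],
   [1, 3, 3, 2, 2, 0, 0, 4, 2, 0, 4, 4, 0, 4, 3, 2, 3, 4, 3, 2, 3, 2, 3, 4, 0, 2, 0],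
   [1, 3, 3, 3, 3, 4, 0, 0, 2, 0, 4, 4, 0, 4, 3, 2, 3, 3, 4, 4, 3, 3, 3, 4, 3, 2, 0, 0],
   [1, 4, 4, 3, 2, 2, 0, 4, 4, 3, 2, 0, 4, 2, 0, 0, 0, 2, 2, 3, 4, 0, 0, 2, 0, 0, 4, 0, 4, 3, 2, 0, 4, 4, 3, 2]],
  [[2, 0, 4, 3, 1, 0, 0, 3, 4, 3, 4, 3, 2, 2, 2, 3, 2, 3, 4, 4, 3, 3, 4, 3, 2, 3, 2, 3, 4, 0, 2, 0, 3, 3, 3, 3, 4, 3, 2, 0, 4, 4, 0],
   [0, 1, 3, 3, 3, 3, 4, 0, 0, 2, 0, 4, 4, 3, 2, 0, 2, 2, 4, 3, 2, 3, 2, 3, 4, 0, 2, 0, 3, 2, 3, 3, 3, 4, 0, 4, 3, 3, 3, 3, 4],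
   [1, 3, 3, 2, 2, 0, 0, 4, 2, 0, 4, 4, 0, 4, 3, 2, 3, 4, 3, 2, 3, 2, 3, 4, 0, 2, 0],
   [],
   [1, 3, 3, 2, 2, 0, 0, 4, 2, 0, 4, 4, 0, 4, 3, 2, 3, 4, 3, 2, 3, 2, 3, 4, 0, 2, 0, 0, 2, 0, 0, 4, 0, 4, 3, 2, 0, 4, 4, 3, 2],
   [0, 3, 3, 3, 3, 4, 0, 0, 2, 0, 4, 4, 3, 2, 0, 2, 2, 1, 3, 2, 3, 2, 3, 4, 4, 3, 1, 3, 4, 4, 3, 4, 0, 0, 0, 2, 0, 4, 4]],
  [[4, 0, 1, 3, 3, 2, 3, 3, 2, 2, 0, 0, 4, 0, 2, 3, 3, 3, 3, 2, 2, 3, 3, 2, 3, 4, 3, 3, 2, 2, 3, 2, 2, 3, 4, 0, 2, 0, 0, 0, 0],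
   [0, 1, 3, 3, 3, 3, 4, 0, 0, 2, 0, 4, 4, 3, 2, 0, 2, 2, 0, 2, 0, 2, 0, 2, 0, 2, 0, 0, 4, 0, 4, 3, 2, 0, 4, 4, 3, 2],
   [1, 3, 3, 3, 3, 4, 0, 0, 2, 0, 4, 4, 0, 4, 3, 2, 3, 3, 4, 4, 3, 3, 3, 4, 3, 2, 0, 0],
   [1, 3, 3, 2, 2, 0, 0, 4, 2, 0, 4, 4, 0, 4, 3, 2, 3, 4, 3, 2, 3, 2, 3, 4, 0, 2, 0, 0, 2, 0, 0, 4, 0, 4, 3, 2, 0, 4, 4, 3, 2],
   [],
   [4, 4, 0, 2, 3, 2, 2, 3, 2, 0, 0, 0, 0, 0, 0, 0, 4, 0, 0, 0, 0, 2]],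
  [[3, 2, 3, 1, 0, 0, 0, 3, 3, 2, 0, 0, 0, 0, 0, 4, 0, 2, 0, 2, 0, 2, 3, 4, 3, 2, 3, 2, 3, 4, 0, 2, 0, 3, 2, 3, 3, 3, 4, 0, 4, 3, 3, 3, 3, 4],
   [0, 0, 1, 3, 3, 2, 3, 2, 2, 4, 0, 2, 3, 3, 3, 3, 2, 4, 4, 0, 0, 2, 0, 4, 0, 0, 0, 2, 0, 2, 0, 4, 3, 4, 4, 3, 2, 0, 4, 0],
   [1, 4, 4, 3, 2, 2, 0, 4, 4, 3, 2, 0, 4, 2, 0, 0, 0, 2, 2, 3, 4, 0, 0, 2, 0, 0, 4, 0, 4, 3, 2, 0, 4, 4, 3, 2],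
   [0, 3, 3, 3, 3, 4, 0, 0, 2, 0, 4, 4, 3, 2, 0, 2, 2, 1, 3, 2, 3, 2, 3, 4, 4, 3, 1, 3, 4, 4, 3, 4, 0, 0, 0, 2, 0, 4, 4],
   [4, 4, 0, 2, 3, 2, 2, 3, 2, 0, 0, 0, 0, 0, 0, 0, 4, 0, 0, 0, 0, 2],
   []]]

def sxKW : List (List (List ℕ)) := [
  [[],
   [3, 4, 4, 3, 3, 3, 4, 3, 2, 0, 0],
   [2, 0, 0, 0, 2, 2, 3, 4, 0],
   [3, 2, 0, 4, 4, 3, 3, 3, 4]],
  [[4, 4, 0, 2, 3, 2, 2, 3, 2, 0, 0, 0, 0, 0, 0, 0, 4, 0, 0, 0, 0, 2],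
   [4, 4, 0, 2, 3, 2, 2, 3, 2, 0, 0, 3, 4, 3, 2, 2, 0, 0, 2, 0, 2, 3],
   [4, 4, 0, 2, 3, 2, 2, 3, 2, 0, 0, 2, 2, 1, 0, 0, 0, 2, 3, 3, 2, 1],
   [4, 4, 0, 2, 3, 2, 2, 3, 2, 0, 0, 3, 4, 3, 2, 0, 4, 0, 4, 0, 2]],
  [[0, 3, 3, 3, 3, 4, 0, 0, 2, 0, 4, 4, 3, 2, 0, 2, 2, 3, 4, 0, 0, 0, 4, 3, 3, 3, 2, 0],
   [0, 3, 3, 3, 3, 4, 0, 0, 2, 0, 4, 4, 3, 2, 0, 2, 2, 0, 2, 2, 3, 4, 3, 3, 3, 2, 3, 2, 0],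
   [0, 3, 3, 3, 3, 4, 0, 0, 2, 0, 4, 4, 3, 2, 0, 2, 2, 0, 4, 3, 4, 3, 3, 4, 4, 0, 2, 0],
   [0, 3, 3, 3, 3, 4, 0, 0, 2, 0, 4, 4, 3, 2, 0, 2, 2, 1, 3, 2, 3, 2, 3, 4, 4, 3, 1]],
  [[0, 3, 4, 4, 3, 3, 2, 0, 0, 3, 4, 4, 3, 3, 3, 4, 3, 2, 0, 0],
   [0, 3, 4, 4, 3, 3, 2, 0, 0, 3, 2, 0, 4, 4, 3, 3, 3, 4],
   [0, 3, 4, 4, 3, 3, 2, 0, 0, 2, 0, 0, 0, 2, 2, 3, 4, 0],
   [0, 3, 4, 4, 3, 3, 2, 0, 0]],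
  [[0, 0, 2, 3, 4, 0, 2, 2, 3, 4, 0, 0, 0, 0, 4, 3, 2, 2, 2, 1, 0, 0, 0, 2, 3, 3, 2, 1],
   [0, 0, 2, 3, 4, 0, 2, 2, 3, 4, 0, 0, 0, 0, 4, 3, 2, 0, 0, 0, 0, 0, 4, 0, 0, 0, 0, 2],
   [0, 0, 2, 3, 4, 0, 2, 2, 3, 4, 0, 0, 0, 0, 4, 3, 2, 3, 4, 3, 2, 0, 4, 0, 4, 0, 2],
   [0, 0, 2, 3, 4, 0, 2, 2, 3, 4, 0, 0, 0, 0, 4, 3, 2, 3, 4, 3, 2, 2, 0, 0, 2, 0, 2, 3]],
  [[0, 0, 3, 3, 3, 3, 4, 0, 0, 0, 2, 3, 2, 2, 3, 2, 0, 0, 3, 4, 3, 2, 0, 4, 0, 4, 0, 2],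
   [0, 0, 3, 3, 3, 3, 4, 0, 0, 0, 2, 3, 2, 2, 3, 2, 0, 0, 0, 0, 0, 0, 0, 4, 0, 0, 0, 0, 2],
   [0, 0, 3, 3, 3, 3, 4, 0, 0, 0, 2, 3, 2, 2, 3, 2, 0, 0, 2, 2, 1, 0, 0, 0, 2, 3, 3, 2, 1],
   [0, 0, 3, 3, 3, 3, 4, 0, 0, 0, 2, 3, 2, 2, 3, 2, 0, 0, 3, 4, 3, 2, 2, 0, 0, 2, 0, 2, 3]],
  [[1, 3, 3, 3, 3, 4, 0, 0, 2, 0, 4, 4, 0, 4, 3, 2, 3, 3, 4, 4, 3, 3, 3, 4, 3, 2, 0, 0],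
   [1, 3, 3, 3, 3, 4, 0, 0, 2, 0, 4, 4, 0, 4, 3, 2, 3],
   [1, 3, 3, 3, 3, 4, 0, 0, 2, 0, 4, 4, 0, 4, 3, 2, 3, 2, 0, 0, 0, 2, 2, 3, 4, 0],
   [1, 3, 3, 3, 3, 4, 0, 0, 2, 0, 4, 4, 0, 4, 3, 2, 3, 3, 2, 0, 4, 4, 3, 3, 3, 4]],
  [[1, 0, 4, 4, 3, 2, 0, 0, 0, 2, 0, 2, 0, 2, 2, 3, 1, 3, 2, 3, 2, 3, 4, 4, 3, 1],
   [1, 0, 4, 4, 3, 2, 0, 0, 0, 2, 0, 2, 0, 2, 2, 3, 3, 4, 0, 0, 0, 4, 3, 3, 3, 2, 0],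
   [1, 0, 4, 4, 3, 2, 0, 0, 0, 2, 0, 2, 0, 2, 2, 3, 0, 2, 2, 3, 4, 3, 3, 3, 2, 3, 2, 0],
   [1, 0, 4, 4, 3, 2, 0, 0, 0, 2, 0, 2, 0, 2, 2, 3, 0, 4, 3, 4, 3, 3, 4, 4, 0, 2, 0]],
  [[1, 3, 4, 3, 3, 4, 4, 0, 4, 3, 2, 0, 4, 4, 3, 3, 3, 4],
   [1, 3, 4, 3, 3, 4, 4, 0, 4, 3, 4, 4, 3, 3, 3, 4, 3, 2, 0, 0],
   [1, 3, 4, 3, 3, 4, 4, 0, 4],
   [1, 3, 4, 3, 3, 4, 4, 0, 4, 2, 0, 0, 0, 2, 2, 3, 4, 0]],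
  [[1, 3, 3, 2, 2, 0, 0, 4, 2, 0, 4, 4, 0, 4, 3, 2, 3, 4, 3, 2, 3, 2, 3, 4, 0, 2, 0],
   [1, 3, 3, 2, 2, 0, 0, 4, 2, 0, 4, 4, 0, 4, 3, 2, 3, 4, 4, 0, 0, 2, 0, 4, 0, 0],
   [1, 3, 3, 2, 2, 0, 0, 4, 2, 0, 4, 4, 0, 4, 3, 2, 3, 4, 4, 1, 3, 3, 4, 4, 3, 4, 4, 0, 2, 1],
   [1, 3, 3, 2, 2, 0, 0, 4, 2, 0, 4, 4, 0, 4, 3, 2, 3, 3, 3, 2, 3, 4, 3, 3, 2, 2]],
  [[1, 4, 4, 3, 2, 2, 0, 4, 4, 3, 2, 0, 4, 2, 0, 0, 0, 2, 2, 3, 4, 0],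
   [1, 4, 4, 3, 2, 2, 0, 4, 4, 3, 2, 0, 4, 3, 4, 4, 3, 3, 3, 4, 3, 2, 0, 0],
   [1, 4, 4, 3, 2, 2, 0, 4, 4, 3, 2, 0, 4],
   [1, 4, 4, 3, 2, 2, 0, 4, 4, 3, 2, 0, 4, 3, 2, 0, 4, 4, 3, 3, 3, 4]],
  [[1, 4, 4, 3, 2, 4, 0, 0, 2, 2, 0, 4, 0, 2],
   [1, 4, 4, 3, 2, 4, 0, 0, 2, 2, 0, 4, 0, 2, 3, 4, 4, 3, 3, 3, 4, 3, 2, 0, 0],
   [1, 4, 4, 3, 2, 4, 0, 0, 2, 2, 0, 4, 0, 2, 2, 0, 0, 0, 2, 2, 3, 4, 0],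
   [1, 4, 4, 3, 2, 4, 0, 0, 2, 2, 0, 4, 0, 2, 3, 2, 0, 4, 4, 3, 3, 3, 4]],
  [[0, 1, 3, 4, 4, 3, 3, 2, 0, 0, 2, 3, 3, 4, 3, 3, 2, 0, 4, 4, 3],
   [0, 1, 3, 4, 4, 3, 3, 2, 0, 0, 2, 2, 0, 4, 4, 0, 0, 4, 4, 0, 2, 3],
   [0, 1, 3, 4, 4, 3, 3, 2, 0, 0, 3, 4, 0, 0, 0, 2, 3, 3, 3, 2, 0],
   [0, 1, 3, 4, 4, 3, 3, 2, 0, 0, 0, 2, 0, 2, 0, 2]],
  [[0, 1, 3, 3, 3, 3, 4, 0, 0, 2, 0, 4, 4, 3, 2, 0, 2, 2, 3, 4, 3, 2, 2, 0, 0, 2, 0, 2, 3],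
   [0, 1, 3, 3, 3, 3, 4, 0, 0, 2, 0, 4, 4, 3, 2, 0, 2, 2, 2, 2, 1, 0, 0, 0, 2, 3, 3, 2, 1],
   [0, 1, 3, 3, 3, 3, 4, 0, 0, 2, 0, 4, 4, 3, 2, 0, 2, 2, 0, 0, 0, 0, 0, 4, 0, 0, 0, 0, 2],
   [0, 1, 3, 3, 3, 3, 4, 0, 0, 2, 0, 4, 4, 3, 2, 0, 2, 2, 3, 4, 3, 2, 0, 4, 0, 4, 0, 2]],
  [[0, 1, 0, 3, 3, 3, 3, 4, 0, 0, 0, 2, 3, 2, 2, 3, 2, 0, 0, 0, 2, 0, 2, 0, 2],
   [0, 1, 0, 3, 3, 3, 3, 4, 0, 0, 0, 2, 3, 2, 2, 3, 2, 0, 0, 3, 4, 0, 0, 0, 2, 3, 3, 3, 2, 0],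
   [0, 1, 0, 3, 3, 3, 3, 4, 0, 0, 0, 2, 3, 2, 2, 3, 2, 0, 0, 2, 3, 3, 4, 3, 3, 2, 0, 4, 4, 3],
   [0, 1, 0, 3, 3, 3, 3, 4, 0, 0, 0, 2, 3, 2, 2, 3, 2, 0, 0, 2, 2, 0, 4, 4, 0, 0, 4, 4, 0, 2, 3]],
  [[0, 1, 0, 2, 3, 4, 0, 2, 2, 3, 4, 0, 0, 0, 0, 4, 3, 2, 4, 4, 0, 0, 2, 0, 4, 0, 0],
   [0, 1, 0, 2, 3, 4, 0, 2, 2, 3, 4, 0, 0, 0, 0, 4, 3, 2, 4, 3, 2, 3, 2, 3, 4, 0, 2, 0],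
   [0, 1, 0, 2, 3, 4, 0, 2, 2, 3, 4, 0, 0, 0, 0, 4, 3, 2, 4, 4, 1, 3, 3, 4, 4, 3, 4, 4, 0, 2, 1],
   [0, 1, 0, 2, 3, 4, 0, 2, 2, 3, 4, 0, 0, 0, 0, 4, 3, 2, 3, 3, 2, 3, 4, 3, 3, 2, 2]],
  [[0, 1, 3, 0, 2, 2, 3, 4, 3, 3, 3, 2, 3, 2, 0],
   [0, 1, 3, 3, 4, 0, 0, 0, 4, 3, 3, 3, 2, 0],
   [0, 1, 3, 0, 4, 3, 4, 3, 3, 4, 4, 0, 2, 0],
   [0, 1, 3, 1, 3, 2, 3, 2, 3, 4, 4, 3, 1]],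
  [[0, 1, 3, 4, 4, 0, 2, 3, 2, 2, 3, 2, 0, 0, 2, 0, 0, 0, 2, 2, 3, 4, 0],
   [0, 1, 3, 4, 4, 0, 2, 3, 2, 2, 3, 2, 0, 0],
   [0, 1, 3, 4, 4, 0, 2, 3, 2, 2, 3, 2, 0, 0, 3, 2, 0, 4, 4, 3, 3, 3, 4],
   [0, 1, 3, 4, 4, 0, 2, 3, 2, 2, 3, 2, 0, 0, 3, 4, 4, 3, 3, 3, 4, 3, 2, 0, 0]],
  [[0, 0, 1, 3, 2, 2, 0, 0, 4, 2, 0, 4, 4, 0, 4, 3, 2, 3, 3, 4, 4, 3, 3, 3, 4, 3, 2, 0, 0],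
   [0, 0, 1, 3, 2, 2, 0, 0, 4, 2, 0, 4, 4, 0, 4, 3, 2, 3],
   [0, 0, 1, 3, 2, 2, 0, 0, 4, 2, 0, 4, 4, 0, 4, 3, 2, 3, 2, 0, 0, 0, 2, 2, 3, 4, 0],
   [0, 0, 1, 3, 2, 2, 0, 0, 4, 2, 0, 4, 4, 0, 4, 3, 2, 3, 3, 2, 0, 4, 4, 3, 3, 3, 4]],
  [[0, 0, 1, 4, 3, 3, 4, 4, 0, 4, 2, 2, 0, 4, 4, 0, 0, 4, 4, 0, 2, 3],
   [0, 0, 1, 4, 3, 3, 4, 4, 0, 4, 0, 2, 0, 2, 0, 2],
   [0, 0, 1, 4, 3, 3, 4, 4, 0, 4, 3, 4, 0, 0, 0, 2, 3, 3, 3, 2, 0],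
   [0, 0, 1, 4, 3, 3, 4, 4, 0, 4, 2, 3, 3, 4, 3, 3, 2, 0, 4, 4, 3]],
  [[0, 0, 1, 3, 3, 2, 3, 3, 4, 0, 2, 2, 3, 4, 0, 0, 2, 2, 0, 4, 0, 2, 0, 2, 2, 3, 4, 3, 3, 3, 2, 3, 2, 0],
   [0, 0, 1, 3, 3, 2, 3, 3, 4, 0, 2, 2, 3, 4, 0, 0, 2, 2, 0, 4, 0, 2, 0, 4, 3, 4, 3, 3, 4, 4, 0, 2, 0],
   [0, 0, 1, 3, 3, 2, 3, 3, 4, 0, 2, 2, 3, 4, 0, 0, 2, 2, 0, 4, 0, 2, 1, 3, 2, 3, 2, 3, 4, 4, 3, 1],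
   [0, 0, 1, 3, 3, 2, 3, 3, 4, 0, 2, 2, 3, 4, 0, 0, 2, 2, 0, 4, 0, 2, 3, 4, 0, 0, 0, 4, 3, 3, 3, 2, 0]],
  [[0, 0, 1, 3, 3, 2, 3, 2, 2, 4, 0, 2, 3, 3, 3, 3, 2, 2, 0, 0, 0, 2, 2, 3, 4, 0],
   [0, 0, 1, 3, 3, 2, 3, 2, 2, 4, 0, 2, 3, 3, 3, 3, 2],
   [0, 0, 1, 3, 3, 2, 3, 2, 2, 4, 0, 2, 3, 3, 3, 3, 2, 3, 2, 0, 4, 4, 3, 3, 3, 4],
   [0, 0, 1, 3, 3, 2, 3, 2, 2, 4, 0, 2, 3, 3, 3, 3, 2, 3, 4, 4, 3, 3, 3, 4, 3, 2, 0, 0]],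
  [[0, 0, 1, 0, 3, 3, 3, 3, 4, 0, 0, 2, 0, 4, 4, 0, 4, 3, 2, 3, 0, 4, 3, 4, 3, 3, 4, 4, 0, 2, 0],
   [0, 0, 1, 0, 3, 3, 3, 3, 4, 0, 0, 2, 0, 4, 4, 0, 4, 3, 2, 3, 1, 3, 2, 3, 2, 3, 4, 4, 3, 1],
   [0, 0, 1, 0, 3, 3, 3, 3, 4, 0, 0, 2, 0, 4, 4, 0, 4, 3, 2, 3, 3, 4, 0, 0, 0, 4, 3, 3, 3, 2, 0],
   [0, 0, 1, 0, 3, 3, 3, 3, 4, 0, 0, 2, 0, 4, 4, 0, 4, 3, 2, 3, 0, 2, 2, 3, 4, 3, 3, 3, 2, 3, 2, 0]],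
  [[0, 0, 1, 0, 0, 4, 4, 3, 2, 0, 0, 0, 2, 0, 2, 0, 2, 2, 3, 2, 2, 1, 0, 0, 0, 2, 3, 3, 2, 1],
   [0, 0, 1, 0, 0, 4, 4, 3, 2, 0, 0, 0, 2, 0, 2, 0, 2, 2, 3, 3, 4, 3, 2, 2, 0, 0, 2, 0, 2, 3],
   [0, 0, 1, 0, 0, 4, 4, 3, 2, 0, 0, 0, 2, 0, 2, 0, 2, 2, 3, 0, 0, 0, 0, 0, 4, 0, 0, 0, 0, 2],
   [0, 0, 1, 0, 0, 4, 4, 3, 2, 0, 0, 0, 2, 0, 2, 0, 2, 2, 3, 3, 4, 3, 2, 0, 4, 0, 4, 0, 2]]]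

def sxKT : List (List (List ℕ)) := [
  [[0, 1, 2, 3, 4, 5, 6, 7, 8, 9, 10, 11, 12, 13, 14, 15, 16, 17, 18, 19, 20, 21, 22, 23],
   [0, 1, 2, 5, 4, 14, 12, 18, 10, 6, 19, 15, 9, 16, 3, 21, 22, 17, 20, 8, 7, 11, 13, 23],
   [0, 1, 2, 14, 20, 5, 19, 6, 22, 11, 8, 13, 4, 9, 17, 18, 15, 3, 16, 7, 12, 21, 10, 23],
   [0, 1, 2, 17, 12, 5, 7, 19, 10, 13, 22, 9, 20, 11, 3, 16, 18, 14, 15, 6, 4, 21, 8, 23]],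
  [[0, 2, 1, 3, 7, 17, 22, 4, 18, 9, 10, 11, 12, 19, 14, 20, 21, 5, 8, 13, 15, 16, 6, 23],
   [0, 2, 1, 5, 6, 14, 16, 13, 18, 20, 15, 11, 12, 21, 17, 9, 19, 3, 8, 4, 10, 22, 7, 23],
   [0, 2, 1, 14, 18, 17, 19, 7, 4, 10, 15, 13, 22, 12, 5, 20, 8, 3, 16, 6, 9, 21, 11, 23],
   [0, 2, 1, 17, 15, 3, 12, 11, 13, 19, 21, 22, 4, 10, 5, 7, 9, 14, 16, 8, 6, 18, 20, 23]],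
  [[1, 0, 2, 3, 13, 17, 11, 18, 19, 9, 20, 6, 21, 4, 14, 15, 16, 5, 7, 8, 10, 12, 22, 23],
   [1, 0, 2, 5, 11, 14, 4, 16, 15, 19, 7, 9, 20, 8, 17, 6, 12, 3, 10, 13, 21, 22, 18, 23],
   [1, 0, 2, 14, 18, 17, 9, 15, 19, 16, 22, 21, 7, 8, 5, 13, 11, 3, 6, 10, 4, 20, 12, 23],
   [1, 0, 2, 17, 8, 3, 22, 13, 10, 19, 7, 20, 9, 11, 5, 6, 18, 14, 15, 16, 21, 4, 12, 23]],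
  [[1, 2, 0, 3, 11, 14, 15, 9, 4, 19, 6, 16, 22, 18, 17, 7, 12, 5, 13, 10, 21, 20, 8, 23],
   [1, 2, 0, 5, 15, 3, 21, 6, 4, 8, 12, 22, 13, 20, 17, 18, 9, 14, 16, 19, 11, 7, 10, 23],
   [1, 2, 0, 14, 13, 3, 6, 19, 12, 20, 10, 8, 11, 22, 5, 9, 16, 17, 18, 21, 15, 7, 4, 23],
   [1, 2, 0, 17, 11, 3, 19, 21, 10, 22, 4, 20, 15, 8, 14, 16, 18, 5, 9, 6, 13, 7, 12, 23]],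
  [[2, 0, 1, 3, 16, 14, 18, 8, 10, 21, 19, 20, 15, 22, 17, 7, 4, 5, 9, 12, 6, 11, 13, 23],
   [2, 0, 1, 5, 8, 14, 15, 10, 16, 6, 21, 13, 22, 18, 3, 7, 11, 17, 4, 20, 19, 9, 12, 23],
   [2, 0, 1, 14, 19, 5, 22, 13, 20, 18, 11, 15, 10, 21, 17, 8, 6, 3, 9, 4, 12, 16, 7, 23],
   [2, 0, 1, 17, 12, 3, 9, 20, 16, 7, 19, 13, 22, 11, 14, 6, 18, 5, 4, 10, 21, 15, 8, 23]],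
  [[2, 1, 0, 3, 12, 5, 22, 4, 20, 6, 7, 9, 10, 8, 17, 21, 18, 14, 15, 13, 19, 16, 11, 23],
   [2, 1, 0, 5, 21, 3, 9, 10, 16, 18, 8, 4, 22, 6, 14, 11, 7, 17, 13, 20, 12, 15, 19, 23],
   [2, 1, 0, 14, 16, 3, 6, 21, 10, 8, 12, 20, 9, 22, 17, 11, 13, 5, 15, 19, 18, 7, 4, 23],
   [2, 1, 0, 17, 19, 14, 15, 20, 16, 11, 12, 4, 22, 7, 3, 18, 6, 5, 13, 10, 8, 9, 21, 23]],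
  [[23, 1, 2, 3, 22, 14, 11, 8, 19, 10, 20, 21, 7, 4, 5, 9, 13, 17, 6, 12, 15, 18, 16, 0],
   [23, 1, 2, 5, 22, 3, 10, 15, 12, 7, 19, 18, 11, 16, 14, 21, 4, 17, 8, 20, 6, 9, 13, 0],
   [23, 1, 2, 14, 6, 3, 20, 10, 13, 18, 12, 16, 22, 7, 17, 8, 21, 5, 4, 15, 11, 9, 19, 0],
   [23, 1, 2, 17, 11, 3, 15, 20, 19, 16, 13, 7, 6, 18, 5, 4, 8, 14, 21, 10, 22, 9, 12, 0]],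
  [[23, 2, 1, 3, 8, 5, 15, 20, 13, 6, 7, 4, 22, 11, 14, 19, 12, 17, 16, 9, 21, 10, 18, 0],
   [23, 2, 1, 5, 20, 3, 11, 12, 6, 22, 4, 19, 21, 10, 17, 16, 9, 14, 7, 8, 13, 18, 15, 0],
   [23, 2, 1, 14, 11, 17, 10, 9, 16, 6, 7, 22, 4, 8, 3, 19, 18, 5, 13, 20, 21, 15, 12, 0],
   [23, 2, 1, 17, 12, 3, 22, 16, 6, 9, 15, 21, 7, 8, 14, 20, 11, 5, 19, 13, 10, 4, 18, 0]],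
  [[1, 23, 2, 3, 16, 5, 20, 10, 19, 8, 11, 7, 21, 4, 14, 12, 13, 17, 6, 9, 18, 15, 22, 0],
   [1, 23, 2, 5, 18, 17, 16, 13, 19, 9, 10, 6, 7, 12, 14, 15, 11, 3, 21, 22, 20, 4, 8, 0],
   [1, 23, 2, 14, 18, 5, 9, 20, 22, 7, 19, 4, 16, 8, 17, 6, 12, 3, 13, 10, 21, 15, 11, 0],
   [1, 23, 2, 17, 21, 5, 10, 9, 11, 4, 22, 8, 18, 7, 3, 13, 6, 14, 12, 20, 16, 15, 19, 0]],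
  [[1, 2, 23, 3, 16, 14, 6, 21, 9, 18, 11, 15, 10, 22, 5, 12, 13, 17, 20, 19, 8, 7, 4, 0],
   [1, 2, 23, 5, 19, 14, 8, 11, 10, 16, 22, 9, 15, 21, 17, 13, 7, 3, 20, 18, 4, 12, 6, 0],
   [1, 2, 23, 14, 15, 17, 19, 21, 11, 16, 13, 18, 8, 10, 5, 4, 9, 3, 12, 7, 22, 6, 20, 0],
   [1, 2, 23, 17, 7, 3, 18, 12, 10, 22, 16, 9, 15, 6, 5, 4, 19, 14, 20, 8, 13, 11, 21, 0]],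
  [[2, 23, 1, 3, 8, 5, 10, 20, 19, 16, 22, 21, 7, 18, 17, 13, 12, 14, 6, 9, 4, 15, 11, 0],
   [2, 23, 1, 5, 7, 3, 4, 13, 11, 20, 10, 12, 18, 6, 14, 15, 19, 17, 8, 22, 9, 16, 21, 0],
   [2, 23, 1, 14, 7, 5, 20, 9, 22, 18, 11, 16, 4, 21, 3, 12, 6, 17, 13, 10, 8, 15, 19, 0],
   [2, 23, 1, 17, 4, 5, 9, 10, 11, 21, 19, 18, 8, 16, 14, 6, 13, 3, 12, 20, 7, 15, 22, 0]],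
  [[2, 1, 23, 3, 8, 5, 13, 22, 21, 9, 20, 19, 7, 18, 14, 10, 11, 17, 6, 16, 15, 4, 12, 0],
   [2, 1, 23, 5, 8, 14, 7, 6, 20, 13, 16, 10, 9, 11, 3, 4, 12, 17, 15, 21, 22, 19, 18, 0],
   [2, 1, 23, 14, 15, 5, 16, 13, 12, 19, 21, 18, 8, 9, 17, 6, 10, 3, 11, 22, 7, 4, 20, 0],
   [2, 1, 23, 17, 7, 5, 22, 16, 20, 18, 12, 9, 15, 19, 3, 11, 6, 14, 10, 13, 8, 4, 21, 0]],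
  [[23, 0, 2, 3, 22, 14, 6, 19, 8, 20, 10, 12, 18, 13, 17, 9, 4, 5, 11, 21, 15, 7, 16, 1],
   [23, 0, 2, 5, 15, 3, 6, 21, 22, 11, 18, 4, 16, 20, 17, 12, 9, 14, 13, 7, 8, 19, 10, 1],
   [23, 0, 2, 14, 13, 3, 19, 6, 8, 15, 9, 12, 18, 22, 5, 10, 16, 17, 11, 7, 20, 21, 4, 1],
   [23, 0, 2, 17, 11, 5, 15, 9, 13, 6, 19, 22, 16, 18, 3, 21, 12, 14, 4, 10, 7, 20, 8, 1]],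
  [[23, 2, 0, 3, 9, 5, 11, 8, 16, 7, 21, 13, 4, 10, 17, 6, 20, 14, 22, 12, 19, 18, 15, 1],
   [23, 2, 0, 5, 16, 17, 20, 15, 12, 19, 21, 8, 18, 4, 3, 7, 22, 14, 11, 9, 6, 10, 13, 1],
   [23, 2, 0, 14, 15, 17, 18, 12, 16, 6, 19, 13, 4, 20, 5, 7, 10, 3, 22, 8, 21, 11, 9, 1],
   [23, 2, 0, 17, 21, 14, 4, 13, 8, 20, 10, 18, 12, 19, 3, 15, 6, 5, 11, 22, 9, 16, 7, 1]],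
  [[0, 23, 2, 3, 4, 17, 15, 9, 12, 7, 21, 11, 8, 22, 14, 6, 16, 5, 18, 20, 19, 10, 13, 1],
   [0, 23, 2, 5, 12, 14, 21, 7, 13, 15, 9, 16, 22, 11, 17, 20, 8, 3, 4, 19, 10, 6, 18, 1],
   [0, 23, 2, 14, 11, 5, 7, 21, 13, 10, 20, 16, 22, 12, 3, 9, 18, 17, 4, 6, 15, 19, 8, 1],
   [0, 23, 2, 17, 15, 14, 7, 6, 11, 4, 22, 18, 8, 10, 3, 16, 9, 5, 12, 19, 13, 21, 20, 1]],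
  [[0, 2, 23, 3, 12, 14, 13, 16, 21, 15, 20, 7, 6, 18, 17, 9, 8, 5, 19, 4, 10, 22, 11, 1],
   [0, 2, 23, 5, 15, 14, 11, 18, 7, 4, 16, 6, 21, 20, 3, 22, 9, 17, 19, 12, 13, 8, 10, 1],
   [0, 2, 23, 14, 6, 17, 12, 18, 16, 15, 9, 4, 13, 21, 3, 10, 7, 5, 22, 8, 20, 11, 19, 1],
   [0, 2, 23, 17, 8, 5, 4, 22, 21, 20, 15, 7, 6, 11, 3, 10, 12, 14, 19, 13, 9, 16, 18, 1]],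
  [[2, 23, 0, 3, 21, 14, 12, 8, 13, 20, 9, 16, 4, 19, 17, 15, 7, 5, 22, 11, 10, 18, 6, 1],
   [2, 23, 0, 5, 11, 17, 21, 6, 20, 16, 4, 15, 10, 12, 14, 13, 8, 3, 9, 19, 22, 7, 18, 1],
   [2, 23, 0, 14, 6, 17, 16, 13, 20, 8, 18, 10, 9, 19, 3, 11, 21, 5, 15, 22, 12, 4, 7, 1],
   [2, 23, 0, 17, 19, 5, 18, 11, 22, 20, 9, 4, 16, 21, 3, 15, 6, 14, 13, 8, 10, 12, 7, 1]],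
  [[2, 0, 23, 3, 18, 17, 9, 10, 6, 4, 22, 21, 19, 11, 14, 16, 12, 5, 7, 20, 13, 15, 8, 1],
   [2, 0, 23, 5, 19, 17, 10, 20, 22, 11, 8, 4, 13, 21, 3, 12, 7, 14, 16, 9, 18, 15, 6, 1],
   [2, 0, 23, 14, 13, 17, 20, 9, 8, 21, 6, 11, 18, 4, 5, 7, 16, 3, 12, 10, 19, 15, 22, 1],
   [2, 0, 23, 17, 19, 3, 13, 16, 8, 10, 9, 12, 11, 7, 5, 15, 6, 14, 18, 22, 20, 4, 21, 1]],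
  [[23, 0, 1, 3, 4, 14, 7, 19, 15, 18, 11, 9, 20, 13, 5, 12, 22, 17, 10, 21, 8, 6, 16, 2],
   [23, 0, 1, 5, 4, 3, 18, 8, 21, 20, 15, 6, 7, 16, 14, 9, 13, 17, 19, 11, 10, 12, 22, 2],
   [23, 0, 1, 14, 10, 3, 11, 18, 22, 6, 21, 16, 4, 20, 17, 19, 9, 5, 13, 8, 7, 12, 15, 2],
   [23, 0, 1, 17, 7, 3, 8, 11, 15, 16, 22, 20, 10, 6, 5, 13, 19, 14, 9, 18, 4, 12, 21, 2]],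
  [[23, 1, 0, 3, 21, 17, 13, 22, 9, 8, 12, 10, 15, 19, 5, 18, 7, 14, 20, 16, 11, 4, 6, 2],
   [23, 1, 0, 5, 8, 3, 21, 7, 20, 13, 4, 9, 15, 12, 17, 22, 18, 14, 10, 6, 16, 19, 11, 2],
   [23, 1, 0, 14, 20, 17, 4, 13, 11, 21, 7, 18, 12, 9, 3, 6, 15, 5, 8, 16, 19, 22, 10, 2],
   [23, 1, 0, 17, 9, 14, 13, 4, 11, 19, 6, 18, 12, 20, 5, 7, 10, 3, 8, 22, 21, 16, 15, 2]],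
  [[0, 23, 1, 3, 20, 5, 7, 19, 13, 18, 11, 16, 4, 15, 14, 8, 10, 17, 22, 6, 12, 21, 9, 2],
   [0, 23, 1, 5, 9, 14, 16, 13, 18, 19, 21, 12, 11, 15, 3, 6, 20, 17, 8, 22, 7, 4, 10, 2],
   [0, 23, 1, 14, 15, 17, 21, 6, 22, 18, 11, 4, 16, 20, 3, 8, 9, 5, 13, 19, 12, 7, 10, 2],
   [0, 23, 1, 17, 6, 14, 20, 9, 18, 16, 4, 8, 12, 7, 5, 13, 19, 3, 11, 15, 22, 10, 21, 2]],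
  [[0, 1, 23, 3, 8, 17, 22, 13, 9, 21, 6, 15, 10, 11, 14, 7, 18, 5, 20, 16, 19, 4, 12, 2],
   [0, 1, 23, 5, 10, 17, 13, 16, 6, 11, 12, 21, 19, 15, 3, 18, 20, 14, 7, 22, 8, 4, 9, 2],
   [0, 1, 23, 14, 19, 17, 16, 22, 12, 15, 9, 11, 8, 21, 5, 20, 7, 3, 18, 13, 10, 4, 6, 2],
   [0, 1, 23, 17, 10, 3, 19, 7, 12, 13, 22, 18, 11, 20, 5, 4, 9, 14, 8, 6, 16, 21, 15, 2]],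
  [[1, 23, 0, 3, 15, 5, 13, 22, 19, 8, 12, 6, 21, 9, 17, 11, 20, 14, 7, 4, 18, 16, 10, 2],
   [1, 23, 0, 5, 9, 14, 12, 11, 4, 19, 21, 16, 13, 20, 17, 7, 15, 3, 22, 8, 6, 18, 10, 2],
   [1, 23, 0, 14, 11, 5, 20, 15, 19, 13, 16, 7, 6, 18, 3, 22, 8, 17, 21, 9, 4, 10, 12, 2],
   [1, 23, 0, 17, 20, 3, 18, 8, 22, 19, 21, 13, 16, 9, 5, 7, 10, 14, 4, 11, 6, 12, 15, 2]],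
  [[1, 0, 23, 3, 6, 17, 20, 10, 18, 4, 13, 11, 8, 21, 5, 16, 7, 14, 12, 9, 22, 15, 19, 2],
   [1, 0, 23, 5, 9, 3, 12, 11, 6, 16, 13, 19, 21, 15, 17, 22, 20, 14, 7, 18, 4, 8, 10, 2],
   [1, 0, 23, 14, 10, 17, 8, 18, 6, 22, 4, 19, 21, 20, 3, 16, 15, 5, 7, 11, 13, 12, 9, 2],
   [1, 0, 23, 17, 13, 14, 21, 19, 11, 20, 15, 8, 18, 4, 5, 10, 22, 3, 12, 7, 9, 6, 16, 2]]]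

def sxKKeys : List (ℕ × ℕ × ℕ × ℕ) := [(0, 0, 4, 5), (0, 0, 13, 14), (0, 0, 16, 17), (0, 0, 22, 14), (0, 1, 4, 14), (0, 1, 13, 17), (0, 1, 16, 5), (0, 1, 22, 17), (0, 2, 8, 5), (0, 2, 11, 5), (0, 2, 12, 14), (0, 2, 18, 17), (0, 3, 9, 14), (0, 3, 10, 14), (0, 3, 15, 17), (0, 3, 20, 5), (3, 0, 8, 17), (3, 0, 11, 17), (3, 0, 12, 5), (3, 0, 18, 14), (3, 1, 8, 5), (3, 1, 11, 5), (3, 1, 12, 14), (3, 1, 18, 17), (3, 2, 4, 5), (3, 2, 13, 14), (3, 2, 16, 17), (3, 2, 22, 14), (3, 3, 9, 14), (3, 3, 10, 14), (3, 3, 15, 17), (3, 3, 20, 5), (4, 0, 4, 14), (4, 0, 13, 17), (4, 0, 16, 5), (4, 0, 22, 17), (4, 1, 8, 17), (4, 1, 11, 17), (4, 1, 12, 5), (4, 1, 18, 14), (4, 2, 6, 5), (4, 2, 7, 17), (4, 2, 19, 17), (4, 2, 21, 5), (4,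 3, 8, 17), (4, 3, 11, 17), (4, 3, 12, 5), (4, 3, 18, 14), (7, 0, 8, 17), (7, 0, 11, 17), (7, 0, 12, 5), (7, 0, 18, 14), (7, 1, 9, 17), (7, 1, 10, 17), (7, 1, 15, 5), (7, 1, 20, 14), (7, 2, 8, 17), (7, 2, 11, 17), (7, 2, 12, 5), (7, 2, 18, 14), (7, 3, 6, 14), (7, 3, 7, 5), (7, 3, 19, 5), (7, 3, 21, 14), (8, 0, 4, 17), (8, 0, 13, 5), (8, 0, 16, 14), (8, 0, 22, 5), (8, 1, 6, 14), (8, 1, 7, 5), (8, 1, 19, 5), (8, 1, 21, 14), (8, 2, 8, 17), (8, 2, 11, 17), (8, 2, 12, 5), (8, 2, 18, 14), (8, 3, 9, 5), (8, 3, 10, 5), (8, 3, 15, 14), (8, 3, 20, 17), (11, 0, 6, 14), (11, 0, 7, 5), (11, 0, 19, 5), (11, 0, 21, 14), (11, 1, 9, 14), (11, 1, 10, 14), (11, 1, 15, 17), (11, 1, 20, 5), (11, 2, 6, 17), (11, 2, 7, 14), (11, 2, 19,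 14), (11, 2, 21, 17), (11, 3, 6, 5), (11, 3, 7, 17), (11, 3, 19, 17), (11, 3, 21, 5), (12, 0, 4, 5), (12, 0, 13, 14), (12, 0, 16, 17), (12, 0, 22, 14), (12, 1, 8, 5), (12, 1, 11, 5), (12, 1, 12, 14), (12, 1, 18, 17), (12, 2, 4, 5), (12, 2, 13, 14), (12, 2, 16, 17), (12, 2, 22, 14), (12, 3, 8, 17), (12, 3, 11, 17), (12, 3, 12, 5), (12, 3, 18, 14), (15, 0, 6, 14), (15, 0, 7, 5), (15, 0, 19, 5), (15, 0, 21, 14), (15, 1, 9, 17), (15, 1, 10, 17), (15, 1, 15, 5), (15, 1, 20, 14), (15, 2, 8, 14), (15, 2, 11, 14), (15, 2, 12, 17), (15, 2, 18, 5), (15, 3, 6, 14), (15, 3, 7, 5), (15, 3, 19, 5), (15, 3, 21, 14), (16, 0, 8, 14), (16, 0, 11, 14), (16, 0, 12, 17), (16, 0, 18, 5), (16, 1, 9, 14), (16, 1, 10, 14), (16, 1, 15, 17),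 (16, 1, 20, 5), (16, 2, 6, 5), (16, 2, 7, 17), (16, 2, 19, 17), (16, 2, 21, 5), (16, 3, 8, 14), (16, 3, 11, 14), (16, 3, 12, 17), (16, 3, 18, 5), (19, 0, 6, 5), (19, 0, 7, 17), (19, 0, 19, 17), (19, 0, 21, 5), (19, 1, 9, 14), (19, 1, 10, 14), (19, 1, 15, 17), (19, 1, 20, 5), (19, 2, 6, 17), (19, 2, 7, 14), (19, 2, 19, 14), (19, 2, 21, 17), (19, 3, 6, 17), (19, 3, 7, 14), (19, 3, 19, 14), (19, 3, 21, 17), (20, 0, 8, 5), (20, 0, 11, 5), (20, 0, 12, 14), (20, 0, 18, 17), (20, 1, 6, 17), (20, 1, 7, 14), (20, 1, 19, 14), (20, 1, 21, 17), (20, 2, 8, 5), (20, 2, 11, 5), (20, 2, 12, 14), (20, 2, 18, 17), (20, 3, 9, 5), (20, 3, 10, 5), (20, 3, 15, 14), (20, 3, 20, 17), (23, 0, 9, 5), (23, 0, 10, 5), (23, 0, 15, 14), (23,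 0, 20, 17), (23, 1, 9, 17), (23, 1, 10, 17), (23, 1, 15, 5), (23, 1, 20, 14), (23, 2, 9, 17), (23, 2, 10, 17), (23, 2, 15, 5), (23, 2, 20, 14), (23, 3, 4, 5), (23, 3, 13, 14), (23, 3, 16, 17), (23, 3, 22, 14)]

def sxNKeys : List (ℕ × ℕ × ℕ × ℕ) := [(0, 0, 4, 5), (0, 0, 13, 14), (0, 0, 16, 17), (0, 0, 22, 14), (0, 1, 4, 14), (0, 1, 13, 17), (0, 1, 16, 5), (0, 1, 22, 17), (0, 2, 8, 5), (0, 2, 11, 5), (0, 2, 12, 14), (0, 2, 18, 17), (0, 3, 9, 14), (0, 3, 10, 14), (0, 3, 15, 17), (0, 3, 20, 5), (7, 0, 8, 17), (7, 0, 11, 17), (7, 0, 12, 5), (7, 0, 18, 14), (7, 1, 9, 17), (7, 1, 10, 17), (7, 1, 15, 5), (7, 1, 20, 14), (7, 2, 8, 17), (7, 2, 11, 17), (7, 2, 12, 5), (7, 2, 18, 14), (7, 3, 6, 14), (7, 3, 7, 5), (7, 3, 19,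 5), (7, 3, 21, 14), (16, 0, 8, 14), (16, 0, 11, 14), (16, 0, 12, 17), (16, 0, 18, 5), (16, 1, 9, 14), (16, 1, 10, 14), (16, 1, 15, 17), (16, 1, 20, 5), (16, 2, 6, 5), (16, 2, 7, 17), (16, 2, 19, 17), (16, 2, 21, 5), (16, 3, 8, 14), (16, 3, 11, 14), (16, 3, 12, 17), (16, 3, 18, 5), (23, 0, 9, 5), (23, 0, 10, 5), (23, 0, 15, 14), (23, 0, 20, 17), (23, 1, 9, 17), (23, 1, 10, 17), (23, 1, 15, 5), (23, 1, 20, 14), (23, 2, 9, 17), (23, 2, 10, 17), (23, 2, 15, 5), (23, 2, 20, 14), (23, 3, 4, 5), (23, 3, 13, 14), (23, 3, 16, 17), (23, 3, 22, 14)]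

def sxTetL : List (List ℕ) := [[0, 1, 2, 23], [3, 5, 14, 17], [8, 11, 12, 18], [9, 10, 15, 20], [6, 7, 19, 21], [4, 13, 16, 22]]

def sxNTabs : List (List ℕ) := [
  [0, 1, 2, 3, 4, 5, 6, 7, 8, 9, 10, 11, 12, 13, 14, 15, 16, 17, 18, 19, 20, 21, 22, 23],
  [0, 1, 2, 3, 13, 5, 19, 21, 11, 15, 20, 8, 18, 4, 14, 9, 22, 17, 12, 6, 10, 7, 16, 23],
  [0, 1, 2, 3, 16, 5, 21, 19, 12, 20, 15, 18, 8, 22, 14, 10, 4, 17, 11, 7, 9, 6, 13, 23],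
  [0, 1, 2, 3, 22, 5, 7, 6, 18, 10, 9, 12, 11, 16, 14, 20, 13, 17, 8, 21, 15, 19, 4, 23],
  [0, 1, 2, 5, 4, 3, 21, 19, 11, 10, 9, 8, 18, 13, 17, 20, 16, 14, 12, 7, 15, 6, 22, 23],
  [0, 1, 2, 5, 16, 3, 6, 7, 18, 15, 20, 12, 11, 22, 17, 9, 4, 14, 8, 19, 10, 21, 13, 23],
  [0, 1, 2, 5, 22, 3, 19, 21, 12, 9, 10, 18, 8, 16, 17, 15, 13, 14, 11, 6, 20, 7, 4, 23],
  [0, 1, 2, 5, 13, 3, 7, 6, 8, 20, 15, 11, 12, 4, 17, 10, 22, 14, 18, 21, 9, 19, 16, 23],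
  [0, 1, 2, 14, 22, 17, 6, 7, 11, 20, 15, 8, 18, 16, 3, 10, 13, 5, 12, 19, 9, 21, 4, 23],
  [0, 1, 2, 14, 13, 17, 21, 19, 18, 9, 10, 12, 11, 4, 3, 15, 22, 5, 8, 7, 20, 6, 16, 23],
  [0, 1, 2, 14, 4, 17, 7, 6, 12, 15, 20, 18, 8, 13, 3, 9, 16, 5, 11, 21, 10, 19, 22, 23],
  [0, 1, 2, 14, 16, 17, 19, 21, 8, 10, 9, 11, 12, 22, 3, 20, 4, 5, 18, 6, 15, 7, 13, 23],
  [0, 1, 2, 17, 13, 14, 6, 7, 12, 10, 9, 18, 8, 4, 5, 20, 22, 3, 11, 19, 15, 21, 16, 23],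
  [0, 1, 2, 17, 22, 14, 21, 19, 8, 15, 20, 11, 12, 16, 5, 9, 13, 3, 18, 7, 10, 6, 4, 23],
  [0, 1, 2, 17, 16, 14, 7, 6, 11, 9, 10, 8, 18, 22, 5, 15, 4, 3, 12, 21, 20, 19, 13, 23],
  [0, 1, 2, 17, 4, 14, 19, 21, 18, 20, 15, 12, 11, 13, 5, 10, 16, 3, 8, 6, 9, 7, 22, 23],
  [23, 2, 1, 3, 13, 5, 21, 19, 8, 10, 9, 11, 12, 4, 14, 20, 22, 17, 18, 7, 15, 6, 16, 0],
  [23, 2, 1, 3, 4, 5, 7, 6, 11, 20, 15, 8, 18, 13, 14, 10, 16, 17, 12, 21, 9, 19, 22, 0],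
  [23, 2, 1, 3, 22, 5, 6, 7, 12, 15, 20, 18, 8, 16, 14, 9, 13, 17, 11, 19, 10, 21, 4, 0],
  [23, 2, 1, 3, 16, 5, 19, 21, 18, 9, 10, 12, 11, 22, 14, 15, 4, 17, 8, 6, 20, 7, 13, 0],
  [23, 2, 1, 5, 22, 3, 21, 19, 18, 20, 15, 12, 11, 16, 17, 10, 13, 14, 8, 7, 9, 6, 4, 0],
  [23, 2, 1, 5, 4, 3, 19, 21, 8, 15, 20, 11, 12, 13, 17, 9, 16, 14, 18, 6, 10, 7, 22, 0],
  [23, 2, 1, 5, 16, 3, 7, 6, 12, 10, 9, 18, 8, 22, 17, 20, 4, 14, 11, 21, 15, 19, 13, 0],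
  [23, 2, 1, 5, 13, 3, 6, 7, 11, 9, 10, 8, 18, 4, 17, 15, 22, 14, 12, 19, 20, 21, 16, 0],
  [23, 2, 1, 14, 16, 17, 21, 19, 11, 15, 20, 8, 18, 22, 3, 9, 4, 5, 12, 7, 10, 6, 13, 0],
  [23, 2, 1, 14, 22, 17, 7, 6, 8, 9, 10, 11, 12, 16, 3, 15, 13, 5, 18, 21, 20, 19, 4, 0],
  [23, 2, 1, 14, 4, 17, 6, 7, 18, 10, 9, 12, 11, 13, 3, 20, 16, 5, 8, 19, 15, 21, 22, 0],
  [23, 2, 1, 14, 13, 17, 19, 21, 12, 20, 15, 18, 8, 4, 3, 10, 22, 5, 11, 6, 9, 7, 16, 0],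
  [23, 2, 1, 17, 22, 14, 19, 21, 11, 10, 9, 8, 18, 16, 5, 20, 13, 3, 12, 6, 15, 7, 4, 0],
  [23, 2, 1, 17, 16, 14, 6, 7, 8, 20, 15, 11, 12, 22, 5, 10, 4, 3, 18, 19, 9, 21, 13, 0],
  [23, 2, 1, 17, 13, 14, 7, 6, 18, 15, 20, 12, 11, 4, 5, 9, 22, 3, 8, 21, 10, 19, 16, 0],
  [23, 2, 1, 17, 4, 14, 21, 19, 12, 9, 10, 18, 8, 13, 5, 15, 16, 3, 11, 7, 20, 6, 22, 0],
  [2, 23, 0, 3, 13, 5, 6, 7, 18, 20, 15, 12, 11, 4, 14, 10, 22, 17, 8, 19, 9, 21, 16, 1],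
  [2, 23, 0, 3, 16, 5, 7, 6, 8, 15, 20, 11, 12, 22, 14, 9, 4, 17, 18, 21, 10, 19, 13, 1],
  [2, 23, 0, 3, 4, 5, 19, 21, 12, 10, 9, 18, 8, 13, 14, 20, 16, 17, 11, 6, 15, 7, 22, 1],
  [2, 23, 0, 3, 22, 5, 21, 19, 11, 9, 10, 8, 18, 16, 14, 15, 13, 17, 12, 7, 20, 6, 4, 1],
  [2, 23, 0, 5, 16, 3, 19, 21, 11, 20, 15, 8, 18, 22, 17, 10, 4, 14, 12, 6, 9, 7, 13, 1],
  [2, 23, 0, 5, 4, 3, 7, 6, 18, 9, 10, 12, 11, 13, 17, 15, 16, 14, 8, 21, 20, 19, 22, 1],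
  [2, 23, 0, 5, 13, 3, 21, 19, 12, 15, 20, 18, 8, 4, 17, 9, 22, 14, 11, 7, 10, 6, 16, 1],
  [2, 23, 0, 5, 22, 3, 6, 7, 8, 10, 9, 11, 12, 16, 17, 20, 13, 14, 18, 19, 15, 21, 4, 1],
  [2, 23, 0, 14, 16, 17, 6, 7, 12, 9, 10, 18, 8, 22, 3, 15, 4, 5, 11, 19, 20, 21, 13, 1],
  [2, 23, 0, 14, 13, 17, 7, 6, 11, 10, 9, 8, 18, 4, 3, 20, 22, 5, 12, 21, 15, 19, 16, 1],
  [2, 23, 0, 14, 22, 17, 19, 21, 18, 15, 20, 12, 11, 16, 3, 9, 13, 5, 8, 6, 10, 7, 4, 1],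
  [2, 23, 0, 14, 4, 17, 21, 19, 8, 20, 15, 11, 12, 13, 3, 10, 16, 5, 18, 7, 9, 6, 22, 1],
  [2, 23, 0, 17, 22, 14, 7, 6, 12, 20, 15, 18, 8, 16, 5, 10, 13, 3, 11, 21, 9, 19, 4, 1],
  [2, 23, 0, 17, 4, 14, 6, 7, 11, 15, 20, 8, 18, 13, 5, 9, 16, 3, 12, 19, 10, 21, 22, 1],
  [2, 23, 0, 17, 16, 14, 21, 19, 18, 10, 9, 12, 11, 22, 5, 20, 4, 3, 8, 7, 15, 6, 13, 1],
  [2, 23, 0, 17, 13, 14, 19, 21, 8, 9, 10, 11, 12, 4, 5, 15, 22, 3, 18, 6, 20, 7, 16, 1],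
  [1, 0, 23, 3, 4, 5, 21, 19, 18, 15, 20, 12, 11, 13, 14, 9, 16, 17, 8, 7, 10, 6, 22, 2],
  [1, 0, 23, 3, 13, 5, 7, 6, 12, 9, 10, 18, 8, 4, 14, 15, 22, 17, 11, 21, 20, 19, 16, 2],
  [1, 0, 23, 3, 16, 5, 6, 7, 11, 10, 9, 8, 18, 22, 14, 20, 4, 17, 12, 19, 15, 21, 13, 2],
  [1, 0, 23, 3, 22, 5, 19, 21, 8, 20, 15, 11, 12, 16, 14, 10, 13, 17, 18, 6, 9, 7, 4, 2],
  [1, 0, 23, 5, 16, 3, 21, 19, 8, 9, 10, 11, 12, 22, 17, 15, 4, 14, 18, 7, 20, 6, 13, 2],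
  [1, 0, 23, 5, 13, 3, 19, 21, 18, 10, 9, 12, 11, 4, 17, 20, 22, 14, 8, 6, 15, 7, 16, 2],
  [1, 0, 23, 5, 22, 3, 7, 6, 11, 15, 20, 8, 18, 16, 17, 9, 13, 14, 12, 21, 10, 19, 4, 2],
  [1, 0, 23, 5, 4, 3, 6, 7, 12, 20, 15, 18, 8, 13, 17, 10, 16, 14, 11, 19, 9, 21, 22, 2],
  [1, 0, 23, 14, 22, 17, 21, 19, 12, 10, 9, 18, 8, 16, 3, 20, 13, 5, 11, 7, 15, 6, 4, 2],
  [1, 0, 23, 14, 4, 17, 19, 21, 11, 9, 10, 8, 18, 13, 3, 15, 16, 5, 12, 6, 20, 7, 22, 2],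
  [1, 0, 23, 14, 16, 17, 7, 6, 18, 20, 15, 12, 11, 22, 3, 10, 4, 5, 8, 21, 9, 19, 13, 2],
  [1, 0, 23, 14, 13, 17, 6, 7, 8, 15, 20, 11, 12, 4, 3, 9, 22, 5, 18, 19, 10, 21, 16, 2],
  [1, 0, 23, 17, 13, 14, 21, 19, 11, 20, 15, 8, 18, 4, 5, 10, 22, 3, 12, 7, 9, 6, 16, 2],
  [1, 0, 23, 17, 4, 14, 7, 6, 8, 10, 9, 11, 12, 13, 5, 20, 16, 3, 18, 21, 15, 19, 22, 2],
  [1, 0, 23, 17, 22, 14, 6, 7, 18, 9, 10, 12, 11, 16, 5, 15, 13, 3, 8, 19, 20, 21, 4, 2],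
  [1, 0, 23, 17, 16, 14, 19, 21, 12, 15, 20, 18, 8, 22, 5, 9, 4, 3, 11, 6, 10, 7, 13, 2]]

/-- the standard sextet. -/
noncomputable def sx0 : Finset (Finset GolayPt) := (sxTets.map fs).toFinset

theorem mem_sx0 (T : Finset GolayPt) : T ∈ sx0 ↔ ∃ a ∈ sxTets, fs a = T := by
  unfold sx0
  rw [List.mem_toFinset, List.mem_map]

theorem sxTets_facts : (∀ a ∈ sxTets, a < 2 ^ 24 ∧ pc a = 4) ∧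
    ∀ a ∈ sxTets, ∀ b ∈ sxTets, a ≠ b →
      (a ||| b) < 2 ^ 24 ∧ enc (a ||| b) = a ||| b ∧ pc (a ||| b) = 8 := by decide +kernel

theorem sx0_mem : sx0 ∈ sextets := by
  refine ⟨?_, ?_, ?_⟩
  · unfold sx0
    rw [List.toFinset_card_of_nodup]
    · simp [sxTets]
    · apply List.Nodup.map_on
      · intro a ha b hb h
        exact fs_injOn (sxTets_facts.1 a ha).1 (sxTets_facts.1 b hb).1 h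
      · decide
  · intro T hT
    obtain ⟨a, ha, rfl⟩ := (mem_sx0 T).mp hT
    rw [card_fs]
    exact (sxTets_facts.1 a ha).2
  · intro T hT U hU hne
    obtain ⟨a, ha, rfl⟩ := (mem_sx0 T).mp hT
    obtain ⟨b, hb, rfl⟩ := (mem_sx0 U).mp hU
    have hab : a ≠ b := fun h => hne (by rw [h])
    obtain ⟨h1, h2, h3⟩ := sxTets_facts.2 a ha b hb hab
    rw [← fs_union]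
    exact fs_mem_octads h1 h2 h3

/-! ### swaps of two tetrads -/

theorem sxSwap_check : ∀ i j : Fin 6, i ≠ j → ∀ l : Fin 6,
    pmT (tabW ((sxSwapW.getD i []).getD j [])) (sxTets.getD l 0) =
      sxTets.getD (if l = i then j else if l = j then i else l) 0 := by decide +kernel

theorem smul_fs_inv' (w : List ℕ) (m : ℕ) : (wordPerm w)⁻¹ • fs m = fs (pmT (tabW w) m) :=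
  smul_fs_inv w (tabW w) (fun i => (tabW_getD w i.2).symm) m

theorem sx_swap (i j : Fin 6) (hij : i ≠ j) : ∃ g ∈ M24, ∀ l : Fin 6,
    g • fs (sxTets.getD l 0) = fs (sxTets.getD (if l = i then j else if l = j then i else l) 0) := by
  refine ⟨(wordPerm ((sxSwapW.getD i []).getD j []))⁻¹, M24.inv_mem (wordPerm_mem_M24 _), ?_⟩
  intro l
  rw [smul_fs_inv', sxSwap_check i j hij l]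

/-! ### the elements fixing every tetrad -/

/-- the candidate with the given key. -/
def sxKCand (k : ℕ × ℕ × ℕ × ℕ) : List ℕ :=
  (sxKW.getD k.1 []).getD k.2.1 [] ++ wordAt 5 k.2.2.1 ++ wordAt 6 k.2.2.2

/-- the table of the candidate with the given key. -/
def sxKCandT (k : ℕ × ℕ × ℕ × ℕ) : List ℕ :=
  candT ((sxKT.getD k.1 []).getD k.2.1 []) k.2.2.1 k.2.2.2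

theorem sxKT_spec : ∀ p : Fin 24, ∀ q : Fin 4,
    tabW ((sxKW.getD p []).getD q []) = (sxKT.getD p []).getD q [] := by decide +kernel

theorem sxKT_base : ∀ p : Fin 24, ∀ q : Fin 4,
    (∀ i : Fin 4, ((sxKT.getD p []).getD q []).getD (base.getD i 0) 0 =
      (sxPerm4.getD p []).getD i 0) ∧
    ((sxKT.getD p []).getD q []).getD 3 0 = sxQ4.getD q 0 := by decide +kernel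

theorem sxTetL_spec : ∀ l : Fin 6, ∀ n : Fin 24,
    ((sxTets.getD l 0).testBit n = true ↔ n.val ∈ sxTetL.getD l []) := by decide +kernel

theorem sxTetL_lt : ∀ T ∈ sxTetL, ∀ p ∈ T, p < 24 := by decide

/-- table check that every tetrad of the standard sextet is fixed. -/
def sxFixL (t : List ℕ) : Bool :=
  sxTetL.all (fun T => T.all (fun p => T.contains (t.getD p 0)))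

theorem sxK_check : ∀ p : Fin 24, ∀ q : Fin 4, ∀ c5 c6 : Fin 24, okTarget 5 c5 = true →
    okTarget 6 c6 = true → sxFixL (sxKCandT (p.val, q.val, c5.val, c6.val)) = true →
    (p.val, q.val, c5.val, c6.val) ∈ sxKKeys := by decide +kernel

theorem sxKKeys_ok : ∀ k ∈ sxKKeys, k.1 < 24 ∧ k.2.1 < 4 ∧ k.2.2.1 < 24 ∧ k.2.2.2 < 24 ∧
    sxFixL (sxKCandT k) = true := by decide +kernel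

theorem sxKKeys_nodup : (sxKKeys.map sxKCandT).Nodup := by decide +kernel

/-- table check that the square is the identity. -/
def sxSqT (t : List ℕ) : Bool := compT t t == List.range 24

theorem sxNKeys_iff : ∀ k ∈ sxKKeys, (sxSqT (sxKCandT k) = true ↔ k ∈ sxNKeys) := by decide +kernel

theorem sxNKeys_sub : ∀ k ∈ sxNKeys, k ∈ sxKKeys := by decide +kernel

theorem sxNTabs_spec : sxNKeys.map sxKCandT = sxNTabs := by decide +kernel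

theorem sxNTabs_comm : ∀ a ∈ sxNTabs, ∀ b ∈ sxNTabs, compT a b = compT b a := by decide +kernel

theorem sxPerm4_mem : ∀ a0 ∈ [23, 0, 1, 2], ∀ a1 ∈ [23, 0, 1, 2], ∀ a2 ∈ [23, 0, 1, 2],
    ∀ a3 ∈ [23, 0, 1, 2], a0 ≠ a1 → a0 ≠ a2 → a0 ≠ a3 → a1 ≠ a2 → a1 ≠ a3 → a2 ≠ a3 →
    [a0, a1, a2, a3] ∈ sxPerm4 := by decide +kernel

theorem sxT0_mem : ∀ n : Fin 24, (8388615 : ℕ).testBit n = true → n.val ∈ [23, 0, 1, 2] := by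
  decide +kernel

theorem sxT1_mem : ∀ n : Fin 24, (147496 : ℕ).testBit n = true → n.val ∈ sxQ4 := by
  decide +kernel

end Cfsg.Agent.Lib.Helper92
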