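import Cfsg.Agent.Lib.Helper92.M24Sextet
import Cfsg.Agent.Lib.Helper92.M24Seven

set_option autoImplicit false

namespace Cfsg.Agent.Lib.Helper92

open Cfsg Cfsg.Agent.Lib.Helper10 Cfsg.Agent.Lib.Helper95
open scoped Pointwise
open Classical

theorem forall_mem_iff_fin {α : Type*} (n : ℕ) (L : List α) (hL : L.length = n) (d : α)
    (P : α → Prop) : (∀ x ∈ L, P x) ↔ ∀ l : Fin n, P (L.getD l d) := by
  constructor
  · intro h l
    apply h
    rw [List.getD_eq_getElem _ _ (by rw [hL]; exact l.2)]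
    exact List.getElem_mem _
  · intro h x hx
    obtain ⟨i, hi, rfl⟩ := List.getElem_of_mem hx
    have := h ⟨i, by rw [← hL]; exact hi⟩
    rwa [List.getD_eq_getElem _ _ hi] at this

/-- a word fixes a set given by a mask iff its table maps the list of points into itself. -/
theorem smul_fs_eq_iff (w : List ℕ) (m : ℕ) (T : List ℕ)
    (hT : ∀ n : Fin 24, m.testBit n = true ↔ n.val ∈ T) (hlt : ∀ p ∈ T, p < 24) :
    wordPerm w • fs m = fs m ↔ ∀ p ∈ T, (tabW w).getD p 0 ∈ T := by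
  have hmem : ∀ x : GolayPt, x ∈ fs m ↔ idx x ∈ T := by
    intro x
    rw [mem_fs]
    exact hT ⟨idx x, idx_lt x⟩
  constructor
  · intro h p hp
    have hp24 := hlt p hp
    have h1 : pt p ∈ fs m := by
      rw [hmem, idx_pt hp24]
      exact hp
    have h2 : wordPerm w (pt p) ∈ fs m := by
      rw [← h]
      exact Finset.smul_mem_smul_finset h1
    rw [hmem, idx_wordPerm_pt w hp24, ← tabW_getD w hp24] at h2
    exact h2
  · intro h
    apply Finset.eq_of_subset_of_card_le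
    · intro y hy
      obtain ⟨x, hx, rfl⟩ := Finset.mem_smul_finset.mp hy
      rw [hmem] at hx ⊢
      have h1 := h (idx x) hx
      rw [tabW_getD w (idx_lt x), ← evalW_spec] at h1
      exact h1
    · rw [Finset.card_smul_finset]

theorem forall_sx0 (P : Finset GolayPt → Prop) :
    (∀ t ∈ sx0, P t) ↔ ∀ l : Fin 6, P (fs (sxTets.getD l 0)) := by
  rw [← forall_mem_iff_fin 6 sxTets rfl 0 (fun a => P (fs a))]
  constructor
  · intro h a ha
    exact h _ ((mem_sx0 _).mpr ⟨a, ha, rfl⟩)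
  · intro h t ht
    obtain ⟨a, ha, rfl⟩ := (mem_sx0 t).mp ht
    exact h a ha

theorem sxFixL_iff (w : List ℕ) :
    sxFixL (tabW w) = true ↔ ∀ t ∈ sx0, wordPerm w • t = t := by
  rw [forall_sx0]
  have h1 : sxFixL (tabW w) = true ↔
      ∀ l : Fin 6, ∀ p ∈ sxTetL.getD l [], (tabW w).getD p 0 ∈ sxTetL.getD l [] := by
    rw [← forall_mem_iff_fin 6 sxTetL rfl [] (fun T => ∀ p ∈ T, (tabW w).getD p 0 ∈ T)]
    unfold sxFixL
    simp only [List.all_eq_true, List.contains_iff_mem]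
  rw [h1]
  apply forall_congr'
  intro l
  rw [smul_fs_eq_iff w _ _ (sxTetL_spec l)]
  intro p hp
  apply sxTetL_lt _ _ p hp
  rw [List.getD_eq_getElem _ _ (by exact l.2)]
  exact List.getElem_mem _

theorem tabW_sxKCand (p : Fin 24) (q : Fin 4) (c5 c6 : Fin 24) :
    tabW (sxKCand (p.val, q.val, c5.val, c6.val)) = sxKCandT (p.val, q.val, c5.val, c6.val) := by
  unfold sxKCand sxKCandT
  rw [tabW_cand, sxKT_spec p q]

theorem tabW_sxKCand_of_mem {k : ℕ × ℕ × ℕ × ℕ} (hk : k ∈ sxKKeys) :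
    tabW (sxKCand k) = sxKCandT k := by
  obtain ⟨h1, h2, h3, h4, -⟩ := sxKKeys_ok k hk
  exact tabW_sxKCand ⟨k.1, h1⟩ ⟨k.2.1, h2⟩ ⟨k.2.2.1, h3⟩ ⟨k.2.2.2, h4⟩

theorem sxBase_mem : ∀ i : Fin 4, (8388615 : ℕ).testBit (base.getD i 0) = true := by decide

/-- an element of the group fixing every tetrad of the standard sextet is one of the 192 listed
elements. -/
theorem sxK_mem (x : Equiv.Perm GolayPt) (hx : x ∈ M24) (hfix : ∀ t ∈ sx0, x • t = t) :
    ∃ k ∈ sxKKeys, x = wordPerm (sxKCand k) := by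
  have hT0 : x • fs 8388615 = fs 8388615 :=
    hfix _ ((mem_sx0 _).mpr ⟨8388615, by decide, rfl⟩)
  have hT1 : x • fs 147496 = fs 147496 :=
    hfix _ ((mem_sx0 _).mpr ⟨147496, by decide, rfl⟩)
  have hin : ∀ i : Fin 4, idx (x (bpt i)) ∈ [23, 0, 1, 2] := by
    intro i
    have h1 : bpt i ∈ fs 8388615 := by
      rw [mem_fs]
      show (8388615 : ℕ).testBit (idx (pt (base.getD i 0))) = true
      rw [idx_pt (base_lt ⟨i, by omega⟩)]
      exact sxBase_mem i
    have h2 : x (bpt i) ∈ fs 8388615 := by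
      rw [← hT0]
      exact Finset.smul_mem_smul_finset h1
    rw [mem_fs] at h2
    exact sxT0_mem ⟨idx (x (bpt i)), idx_lt _⟩ h2
  have hne : ∀ i j : Fin 4, i ≠ j → idx (x (bpt i)) ≠ idx (x (bpt j)) := by
    intro i j hij h
    have h1 := x.injective (idx_injective h)
    exact hij (Fin.ext (bpt_injective (by omega) (by omega) h1))
  have hperm := sxPerm4_mem _ (hin 0) _ (hin 1) _ (hin 2) _ (hin 3)
    (hne 0 1 (by decide)) (hne 0 2 (by decide)) (hne 0 3 (by decide)) (hne 1 2 (by decide))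
    (hne 1 3 (by decide)) (hne 2 3 (by decide))
  obtain ⟨p, hp, hpe⟩ := List.getElem_of_mem hperm
  have hp24 : p < 24 := hp
  have hq4 : idx (x (bpt 4)) ∈ sxQ4 := by
    have h1 : bpt 4 ∈ fs 147496 := by
      rw [mem_fs]
      decide
    have h2 : x (bpt 4) ∈ fs 147496 := by
      rw [← hT1]
      exact Finset.smul_mem_smul_finset h1
    rw [mem_fs] at h2
    exact sxT1_mem ⟨idx (x (bpt 4)), idx_lt _⟩ h2
  obtain ⟨q, hq, hqe⟩ := List.getElem_of_mem hq4
  have hq4' : q < 4 := hq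
  obtain ⟨hb1, hb2⟩ := sxKT_base ⟨p, hp24⟩ ⟨q, hq4'⟩
  have hspec := sxKT_spec ⟨p, hp24⟩ ⟨q, hq4'⟩
  simp only at hb1 hb2 hspec
  have hpe' : sxPerm4.getD p [] = [idx (x (bpt 0)), idx (x (bpt 1)), idx (x (bpt 2)),
      idx (x (bpt 3))] := by
    rw [List.getD_eq_getElem _ _ hp]
    exact hpe
  have hqe' : sxQ4.getD q 0 = idx (x (bpt 4)) := by
    rw [List.getD_eq_getElem _ _ hq]
    exact hqe
  have hbase : ∀ i < 5, x (bpt i) = wordPerm ((sxKW.getD p []).getD q []) (bpt i) := by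
    intro i hi
    have key : ∀ (j : ℕ) (hj : j < 24) (v : ℕ), ((sxKT.getD p []).getD q []).getD j 0 = v →
        wordPerm ((sxKW.getD p []).getD q []) (pt j) = pt v := by
      intro j hj v hv
      apply wordPerm_pt hj
      rw [← tabW_getD _ hj, hspec]
      exact hv
    interval_cases i
    · rw [show bpt 0 = pt 23 from rfl, key 23 (by norm_num) _ (hb1 0), hpe']
      exact (pt_idx _).symm
    · rw [show bpt 1 = pt 0 from rfl, key 0 (by norm_num) _ (hb1 1), hpe']
      exact (pt_idx _).symm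
    · rw [show bpt 2 = pt 1 from rfl, key 1 (by norm_num) _ (hb1 2), hpe']
      exact (pt_idx _).symm
    · rw [show bpt 3 = pt 2 from rfl, key 2 (by norm_num) _ (hb1 3), hpe']
      exact (pt_idx _).symm
    · rw [show bpt 4 = pt 3 from rfl, key 3 (by norm_num) _ hb2, hqe']
      exact (pt_idx _).symm
  obtain ⟨c5, c6, h5, h6, hxeq⟩ := eq_candidate _ x hx hbase
  have hxeq' : x = wordPerm (sxKCand (p, q, c5.val, c6.val)) := hxeq
  refine ⟨(p, q, c5.val, c6.val), ?_, hxeq'⟩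
  apply sxK_check ⟨p, hp24⟩ ⟨q, hq4'⟩ c5 c6 h5 h6
  rw [← tabW_sxKCand ⟨p, hp24⟩ ⟨q, hq4'⟩ c5 c6, sxFixL_iff]
  show ∀ t ∈ sx0, wordPerm (sxKCand (p, q, c5.val, c6.val)) • t = t
  rw [← hxeq']
  exact hfix


/-- the elements of the group fixing every tetrad of the standard sextet. -/
noncomputable def sxK : Finset (Equiv.Perm GolayPt) :=
  (sxKKeys.map (fun k => wordPerm (sxKCand k))).toFinset

theorem sxKKeys_map_nodup : (sxKKeys.map (fun k => wordPerm (sxKCand k))).Nodup := by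
  apply nodup_map_wordPerm
  have h1 : sxKKeys.map (fun k => tabW (sxKCand k)) = sxKKeys.map sxKCandT := by
    apply List.map_congr_left
    intro k hk
    exact tabW_sxKCand_of_mem hk
  rw [h1]
  exact sxKKeys_nodup

theorem sxKKeys_length : sxKKeys.length = 192 := by decide +kernel

theorem card_sxK : sxK.card = 192 := by
  unfold sxK
  rw [List.toFinset_card_of_nodup sxKKeys_map_nodup, List.length_map, sxKKeys_length]

theorem mem_sxK (x : Equiv.Perm GolayPt) :
    x ∈ sxK ↔ x ∈ M24 ∧ ∀ t ∈ sx0, x • t = t := by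
  unfold sxK
  rw [List.mem_toFinset, List.mem_map]
  constructor
  · rintro ⟨k, hk, rfl⟩
    refine ⟨wordPerm_mem_M24 _, ?_⟩
    rw [← sxFixL_iff, tabW_sxKCand_of_mem hk]
    exact (sxKKeys_ok k hk).2.2.2.2
  · rintro ⟨hx, hfix⟩
    obtain ⟨k, hk, hxk⟩ := sxK_mem x hx hfix
    exact ⟨k, hk, hxk.symm⟩

/-- the elements of `sxK` squaring to the identity. -/
noncomputable def sxN : Finset (Equiv.Perm GolayPt) :=
  (sxNKeys.map (fun k => wordPerm (sxKCand k))).toFinset

theorem sxNKeys_sublist : sxNKeys.Sublist sxKKeys := by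
  have h : sxNKeys = sxKKeys.filter (fun k => sxNKeys.contains k) := by decide +kernel
  rw [h]
  exact List.filter_sublist

theorem card_sxN : sxN.card = 64 := by
  unfold sxN
  rw [List.toFinset_card_of_nodup, List.length_map]
  · decide +kernel
  · exact List.Nodup.sublist (List.Sublist.map _ sxNKeys_sublist) sxKKeys_map_nodup

theorem sxSqT_iff (w : List ℕ) : sxSqT (tabW w) = true ↔ wordPerm w * wordPerm w = 1 := by
  unfold sxSqT
  rw [beq_iff_eq, ← tabW_append, ← wordPerm_append]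
  have h1 : tabW [] = List.range 24 := by decide
  rw [← h1]
  constructor
  · intro h
    have := wordPerm_eq_of_tabW h
    rw [this]
    rfl
  · intro h
    apply tabW_eq_of_wordPerm
    rw [h]
    rfl

theorem mem_sxN (x : Equiv.Perm GolayPt) : x ∈ sxN ↔ x ∈ sxK ∧ x * x = 1 := by
  unfold sxN sxK
  simp only [List.mem_toFinset, List.mem_map]
  constructor
  · rintro ⟨k, hk, rfl⟩
    have hkK := sxNKeys_sub k hk
    refine ⟨⟨k, hkK, rfl⟩, ?_⟩
    rw [← sxSqT_iff, tabW_sxKCand_of_mem hkK]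
    exact (sxNKeys_iff k hkK).mpr hk
  · rintro ⟨⟨k, hk, rfl⟩, hsq⟩
    refine ⟨k, ?_, rfl⟩
    apply (sxNKeys_iff k hk).mp
    rw [← tabW_sxKCand_of_mem hk, sxSqT_iff]
    exact hsq

theorem sxN_comm (x y : Equiv.Perm GolayPt) (hx : x ∈ sxN) (hy : y ∈ sxN) : x * y = y * x := by
  unfold sxN at hx hy
  rw [List.mem_toFinset, List.mem_map] at hx hy
  obtain ⟨a, ha, rfl⟩ := hx
  obtain ⟨b, hb, rfl⟩ := hy
  rw [← wordPerm_append, ← wordPerm_append]
  apply wordPerm_eq_of_tabW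
  rw [tabW_append, tabW_append, tabW_sxKCand_of_mem (sxNKeys_sub a ha),
    tabW_sxKCand_of_mem (sxNKeys_sub b hb)]
  apply sxNTabs_comm
  · rw [← sxNTabs_spec]
    exact List.mem_map.mpr ⟨a, ha, rfl⟩
  · rw [← sxNTabs_spec]
    exact List.mem_map.mpr ⟨b, hb, rfl⟩

/-! ### transitivity on sextets -/

theorem exists_smul_tetrad (t t' : Finset GolayPt) (h : t.card = 4) (h' : t'.card = 4) :
    ∃ g ∈ M24, g • t = t' := by
  let e := (t.equivFinOfCardEq h).symm
  let e' := (t'.equivFinOfCardEq h').symm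
  have hinj : ∀ i j : Fin 4, i ≠ j → (e i : GolayPt) ≠ e j := fun i j hij h =>
    hij (e.injective (Subtype.ext h))
  have hinj' : ∀ i j : Fin 4, i ≠ j → (e' i : GolayPt) ≠ e' j := fun i j hij h =>
    hij (e'.injective (Subtype.ext h))
  obtain ⟨p, hp⟩ := exists_notMem (s := t) (by rw [h]; norm_num)
  obtain ⟨p', hp'⟩ := exists_notMem (s := t') (by rw [h']; norm_num)
  have hne_p : ∀ i, (e i : GolayPt) ≠ p := fun i hh => hp (hh ▸ (e i).2)
  have hne_p' : ∀ i, (e' i : GolayPt) ≠ p' := fun i hh => hp' (hh ▸ (e' i).2)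
  obtain ⟨g, hg, h0, h1, h2, h3, -⟩ := map5 (e 0) (e 1) (e 2) (e 3) p (e' 0) (e' 1) (e' 2) (e' 3) p'
    (by simp [hinj 0 1 (by decide), hinj 0 2 (by decide), hinj 0 3 (by decide),
      hinj 1 2 (by decide), hinj 1 3 (by decide), hinj 2 3 (by decide), hne_p])
    (by simp [hinj' 0 1 (by decide), hinj' 0 2 (by decide), hinj' 0 3 (by decide),
      hinj' 1 2 (by decide), hinj' 1 3 (by decide), hinj' 2 3 (by decide), hne_p'])
  refine ⟨g, hg, ?_⟩
  apply Finset.eq_of_subset_of_card_le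
  · intro y hy
    obtain ⟨x, hx, rfl⟩ := Finset.mem_smul_finset.mp hy
    obtain ⟨i, hi⟩ : ∃ i, (e i : GolayPt) = x := ⟨e.symm ⟨x, hx⟩, by simp⟩
    subst hi
    show g (e i : GolayPt) ∈ t'
    fin_cases i
    · change g ((e 0 : ↥t) : GolayPt) ∈ t'
      rw [h0]
      exact (e' 0).2
    · change g ((e 1 : ↥t) : GolayPt) ∈ t'
      rw [h1]
      exact (e' 1).2
    · change g ((e 2 : ↥t) : GolayPt) ∈ t'
      rw [h2]
      exact (e' 2).2
    · change g ((e 3 : ↥t) : GolayPt) ∈ t'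
      rw [h3]
      exact (e' 3).2
  · rw [Finset.card_smul_finset, h, h']

theorem exists_smul_sx0 (S : Finset (Finset GolayPt)) (hS : S ∈ sextets) :
    ∃ k ∈ M24, k • sx0 = S := by
  have hne : S.Nonempty := by
    rw [← Finset.card_pos, hS.1]
    norm_num
  obtain ⟨t, ht⟩ := hne
  have ht0 : fs 8388615 ∈ sx0 := (mem_sx0 _).mpr ⟨8388615, by decide, rfl⟩
  obtain ⟨k, hk, hkt⟩ := exists_smul_tetrad (fs 8388615) t (sx0_mem.2.1 _ ht0) (hS.2.1 t ht)
  exact ⟨k, hk, smul_sextet_eq hk sx0_mem hS ht0 (hkt ▸ ht)⟩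

end Cfsg.Agent.Lib.Helper92
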