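import Cfsg.Agent.Lib.Helper92.TCert5

/-!
# Loops over ranges of nodes (helper92)
-/

set_option autoImplicit false

namespace Cfsg.Agent.Lib.Helper92.TCert

section Loops
variable (row rot : ℕ → ℕ) (F nrot nsub : ℕ)

/-- all checks of one node -/
noncomputable def chkNode (u : ℕ) : Bool :=
  band (chkQ row rot F nrot u)
  (band (chkSlot row rot F nrot nsub u 0) (band (chkSlot row rot F nrot nsub u 1)
  (band (chkSlot row rot F nrot nsub u 2) (band (chkSlot row rot F nrot nsub u 3)
  (band (chkSlot row rot F nrot nsub u 4) (band (chkSlot row rot F nrot nsub u 5)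
  (band (chkSlot row rot F nrot nsub u 6) (chkSlot row rot F nrot nsub u 7))))))))

/-- `f` on `lo, lo+1, …, lo+cnt-1` -/
noncomputable def loopB (f : ℕ → Bool) (cnt lo : ℕ) : Bool :=
  @Nat.rec (fun _ => ℕ → Bool) (fun _ => true)
    (fun _ ih u => band (f u) (forceB (Nat.add u 1) ih)) cnt lo

theorem loopB_spec (f : ℕ → Bool) (cnt lo : ℕ) (h : loopB f cnt lo = true) :
    ∀ u, lo ≤ u → u < lo + cnt → f u = true := by
  induction cnt generalizing lo with
  | zero => intro u h1 h2; omega
  | succ cnt ih =>
    have e : loopB f (cnt + 1) lo = band (f lo) (forceB (Nat.add lo 1) (loopB f cnt)) := rfl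
    rw [e, band_eq, forceB_eq, Bool.and_eq_true] at h
    intro u h1 h2
    by_cases hu : u = lo
    · subst hu; exact h.1
    · exact ih (lo + 1) h.2 u (by omega) (by omega)

theorem chkNode_spec (u : ℕ) (h : chkNode row rot F nrot nsub u = true) :
    chkQ row rot F nrot u = true ∧ ∀ x < 8, chkSlot row rot F nrot nsub u x = true := by
  unfold chkNode at h
  simp only [band_eq, Bool.and_eq_true] at h
  obtain ⟨hq, h0, h1, h2, h3, h4, h5, h6, h7⟩ := h
  refine ⟨hq, ?_⟩
  intro x hx
  rcases x with _|_|_|_|_|_|_|_|x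
  · exact h0
  · exact h1
  · exact h2
  · exact h3
  · exact h4
  · exact h5
  · exact h6
  · exact h7
  · omega

/-- the final check of one coset: the images under the generators `0, …, 6` are cosets -/
noncomputable def chkFin (n TOP c : ℕ) : Bool :=
  band (Nat.blt (stepK row F TOP c 0) n) (band (Nat.blt (stepK row F TOP c 1) n)
  (band (Nat.blt (stepK row F TOP c 2) n) (band (Nat.blt (stepK row F TOP c 3) n)
  (band (Nat.blt (stepK row F TOP c 4) n) (band (Nat.blt (stepK row F TOP c 5) n)
  (Nat.blt (stepK row F TOP c 6) n))))))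

theorem chkFin_spec (n TOP c : ℕ) (h : chkFin row F n TOP c = true) :
    ∀ x < 7, Nat.blt (stepK row F TOP c x) n = true := by
  unfold chkFin at h
  simp only [band_eq, Bool.and_eq_true] at h
  obtain ⟨h0, h1, h2, h3, h4, h5, h6⟩ := h
  intro x hx
  rcases x with _|_|_|_|_|_|_|x
  · exact h0
  · exact h1
  · exact h2
  · exact h3
  · exact h4
  · exact h5
  · exact h6
  · omega

end Loops

end Cfsg.Agent.Lib.Helper92.TCert
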