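import Mathlib

/-!
# Order and simplicity of a finite group from a primitive action (helper92)

A stabilizer chain gives the order and faithfulness; simplicity follows from the arithmetic of the
suborbit lengths and one element of prime power order whose normal closure is everything.
-/

set_option autoImplicit false

namespace Cfsg.Agent.Lib.Helper92.SimpleAux

section Pow
variable {G : Type*} [Group G]

/-- an element of `p`-power order lies in every normal subgroup whose order is divisible by the full
power of `p` -/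
theorem mem_normal_of_pow [Finite G] (p : ℕ) [Fact p.Prime] (N : Subgroup G) [N.Normal] (a : ℕ)
    (hG : ¬ p ^ (a + 1) ∣ Nat.card G) (hN : p ^ a ∣ Nat.card N) (g : G)
    (hg : g ^ (p ^ a) = 1) : g ∈ N := by
  have hp : p.Prime := Fact.out
  have hcard : Nat.card G = Nat.card (G ⧸ N) * Nat.card N :=
    Subgroup.card_eq_card_quotient_mul_card_subgroup N
  have hnd : ¬ p ∣ Nat.card (G ⧸ N) := by
    intro hd
    have h2 : p ^ (a + 1) ∣ Nat.card G := by
      rw [hcard, pow_succ, mul_comm (p ^ a)]
      exact Nat.mul_dvd_mul hd hN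
    exact hG h2
  have hcop : Nat.Coprime (p ^ a) (Nat.card (G ⧸ N)) :=
    Nat.Coprime.pow_left a ((Nat.Prime.coprime_iff_not_dvd hp).mpr hnd)
  have hq1 : ((g : G ⧸ N)) ^ (p ^ a) = 1 := by
    rw [← QuotientGroup.mk_pow, hg]; rfl
  have hq2 : ((g : G ⧸ N)) ^ (Nat.card (G ⧸ N)) = 1 := pow_card_eq_one'
  have hd1 : orderOf (g : G ⧸ N) ∣ 1 := by
    have h1 := orderOf_dvd_of_pow_eq_one hq1
    have h2 := orderOf_dvd_of_pow_eq_one hq2
    have h3 := Nat.dvd_gcd h1 h2
    rwa [Nat.Coprime.gcd_eq_one hcop] at h3
  have h1 : (g : G ⧸ N) = 1 := orderOf_eq_one_iff.mp (Nat.dvd_one.mp hd1)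
  exact (QuotientGroup.eq_one_iff g).mp h1

end Pow

section Chain
variable {G : Type*} [Group G] {X : Type*} [MulAction G X]

/-- orbit-stabilizer lower bound -/
theorem card_mul_card_stabilizer_le [Finite G] (a : X) (A : Finset X)
    (hA : ∀ x ∈ A, ∃ g : G, g • a = x) :
    A.card * Nat.card (MulAction.stabilizer G a) ≤ Nat.card G := by
  have h1 := (MulAction.stabilizer G a).index_mul_card
  rw [MulAction.index_stabilizer] at h1
  rw [← h1]
  apply Nat.mul_le_mul_right
  have hfin : (MulAction.orbit G a).Finite := Set.finite_range _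
  have hsub : (A : Set X) ⊆ MulAction.orbit G a := by
    intro x hx
    obtain ⟨g, hg⟩ := hA x hx
    exact ⟨g, hg⟩
  have := Set.ncard_le_ncard hsub hfin
  rwa [Set.ncard_coe_finset] at this

/-- a three-level stabilizer chain that meets an upper bound for the order: the order is the product of
the three lengths and only the identity fixes the three base points -/
theorem chain_eq_and_faithful [Finite G] (a b c : X) (A B C : Finset X)
    (hA : ∀ x ∈ A, ∃ g : G, g • a = x)
    (hB : ∀ x ∈ B, ∃ g : G, g • a = a ∧ g • b = x)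
    (hC : ∀ x ∈ C, ∃ g : G, g • a = a ∧ g • b = b ∧ g • c = x)
    (hle : Nat.card G ≤ A.card * B.card * C.card) :
    Nat.card G = A.card * B.card * C.card ∧
      ∀ g : G, g • a = a → g • b = b → g • c = c → g = 1 := by
  have h1 := card_mul_card_stabilizer_le (G := G) a A hA
  have h2 : B.card * Nat.card (MulAction.stabilizer (MulAction.stabilizer G a) b) ≤
      Nat.card (MulAction.stabilizer G a) := by
    apply card_mul_card_stabilizer_le (G := MulAction.stabilizer G a) b B
    intro x hx
    obtain ⟨g, hga, hgb⟩ := hB x hx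
    exact ⟨⟨g, hga⟩, hgb⟩
  have h3 : C.card * Nat.card (MulAction.stabilizer (MulAction.stabilizer (MulAction.stabilizer G a) b) c) ≤
      Nat.card (MulAction.stabilizer (MulAction.stabilizer G a) b) := by
    apply card_mul_card_stabilizer_le (G := MulAction.stabilizer (MulAction.stabilizer G a) b) c C
    intro x hx
    obtain ⟨g, hga, hgb, hgc⟩ := hC x hx
    exact ⟨⟨⟨g, hga⟩, hgb⟩, hgc⟩
  set s3 := Nat.card (MulAction.stabilizer (MulAction.stabilizer (MulAction.stabilizer G a) b) c) with hs3
  have h4 : 1 ≤ s3 := Nat.card_pos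
  have hGpos : 0 < Nat.card G := Nat.card_pos
  have hchain : A.card * B.card * C.card * s3 ≤ Nat.card G := by
    calc A.card * B.card * C.card * s3 = A.card * (B.card * (C.card * s3)) := by ring
      _ ≤ A.card * (B.card * Nat.card (MulAction.stabilizer (MulAction.stabilizer G a) b)) :=
          Nat.mul_le_mul_left _ (Nat.mul_le_mul_left _ h3)
      _ ≤ A.card * Nat.card (MulAction.stabilizer G a) := Nat.mul_le_mul_left _ h2
      _ ≤ Nat.card G := h1
  have hpos : 0 < A.card * B.card * C.card := by omega
  have hs31 : s3 ≤ 1 := by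
    by_contra hcon
    have : 2 ≤ s3 := by omega
    have : A.card * B.card * C.card * 2 ≤ A.card * B.card * C.card * s3 := Nat.mul_le_mul_left _ this
    omega
  have hs3' : s3 = 1 := by omega
  refine ⟨?_, ?_⟩
  · rw [hs3', mul_one] at hchain; omega
  · intro g ha hb hc
    have hsub : Subsingleton (MulAction.stabilizer (MulAction.stabilizer (MulAction.stabilizer G a) b) c) :=
      (Finite.card_le_one_iff_subsingleton).mp hs31
    have e : (⟨⟨⟨g, ha⟩, hb⟩, hc⟩ :
        MulAction.stabilizer (MulAction.stabilizer (MulAction.stabilizer G a) b) c) = 1 :=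
      Subsingleton.elim _ _
    have e2 := congrArg (fun t : MulAction.stabilizer (MulAction.stabilizer (MulAction.stabilizer G a) b) c =>
      (((t : MulAction.stabilizer (MulAction.stabilizer G a) b) : MulAction.stabilizer G a) : G)) e
    simpa using e2

end Chain

section Simple
variable {G : Type*} [Group G] {X : Type*} [MulAction G X]

/-- simplicity of a finite group acting faithfully and transitively, from the lengths of the orbits of
a point stabilizer (no proper union of them containing the base point has a length dividing the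
degree) and an element of prime power order, the full power dividing the degree, whose normal
closure is the whole group -/
theorem simple_of_suborbits [Finite G] [Fintype X] [DecidableEq X]
    (x0 : X) (H : Subgroup G) (hH : ∀ h ∈ H, h • x0 = x0)
    (htrans : ∀ x : X, ∃ g : G, g • x0 = x)
    (hfaith : ∀ g : G, (∀ x : X, g • x = x) → g = 1)
    {r : ℕ} (S : Fin r → Finset X) (j0 : Fin r) (hS0 : S j0 = {x0})
    (hcover : ∀ x, ∃ j, x ∈ S j)
    (hdisj : ∀ i j, i ≠ j → Disjoint (S i) (S j))
    (horb : ∀ j, ∀ x ∈ S j, ∀ y ∈ S j, ∃ h ∈ H, h • x = y)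
    (harith : ∀ J : Finset (Fin r), j0 ∈ J → (∑ j ∈ J, (S j).card) ∣ Fintype.card X →
      J = {j0} ∨ J = Finset.univ)
    (p a : ℕ) [Fact p.Prime] (hpa : ¬ p ^ (a + 1) ∣ Nat.card G)
    (hpn : p ^ a ∣ Fintype.card X)
    (g0 : G) (hg0 : g0 ^ (p ^ a) = 1) (hnc : Subgroup.normalClosure {g0} = ⊤)
    (hnt : 1 < Fintype.card X) : IsSimpleGroup G := by
  classical
  haveI : MulAction.IsPretransitive G X := ⟨fun x y => by
    obtain ⟨g1, h1⟩ := htrans x
    obtain ⟨g2, h2⟩ := htrans y
    exact ⟨g2 * g1⁻¹, by rw [mul_smul, ← h1, inv_smul_smul, h2]⟩⟩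
  haveI : Nontrivial G := by
    by_contra hnon
    rw [not_nontrivial_iff_subsingleton] at hnon
    have hall : ∀ x : X, x = x0 := by
      intro x
      obtain ⟨g, hg⟩ := htrans x
      rw [← hg, Subsingleton.elim g 1, one_smul]
    have : Fintype.card X ≤ 1 := Fintype.card_le_one_iff.mpr (fun x y => by rw [hall x, hall y])
    omega
  refine ⟨fun N hN => ?_⟩
  by_contra hcon
  push_neg at hcon
  obtain ⟨hNbot, hNtop⟩ := hcon
  have hblock : MulAction.IsBlock G (MulAction.orbit N x0) := MulAction.IsBlock.orbit_of_normal x0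
  have hdvd : (MulAction.orbit N x0).ncard ∣ Nat.card X :=
    hblock.ncard_dvd_card ⟨x0, MulAction.mem_orbit_self x0⟩
  rw [Nat.card_eq_fintype_card] at hdvd
  let B : Finset X := Finset.univ.filter (fun x => x ∈ MulAction.orbit N x0)
  have hBmem : ∀ x, x ∈ B ↔ x ∈ MulAction.orbit N x0 := by
    intro x; simp [B]
  have hBcard : B.card = (MulAction.orbit N x0).ncard := by
    rw [← Set.ncard_coe_finset]
    congr 1
    ext x
    simp [B]
  have hx0B : x0 ∈ B := (hBmem x0).mpr (MulAction.mem_orbit_self x0)
  -- the orbit is invariant under H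
  have hHinv : ∀ h ∈ H, ∀ x ∈ B, h • x ∈ B := by
    intro h hh x hx
    rw [hBmem] at hx ⊢
    obtain ⟨⟨ν, hν⟩, rfl⟩ := hx
    refine ⟨⟨h * ν * h⁻¹, hN.conj_mem ν hν h⟩, ?_⟩
    show (h * ν * h⁻¹) • x0 = h • (ν • x0)
    rw [mul_smul, mul_smul]
    congr 2
    rw [inv_smul_eq_iff, hH h hh]
  let J : Finset (Fin r) := Finset.univ.filter (fun j => ∃ x ∈ S j, x ∈ B)
  have hBJ : B = J.biUnion S := by
    ext x
    constructor
    · intro hx
      obtain ⟨j, hj⟩ := hcover x
      rw [Finset.mem_biUnion]
      exact ⟨j, by simp only [J, Finset.mem_filter, Finset.mem_univ, true_and]; exact ⟨x, hj, hx⟩, hj⟩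
    · intro hx
      rw [Finset.mem_biUnion] at hx
      obtain ⟨j, hjJ, hxj⟩ := hx
      simp only [J, Finset.mem_filter, Finset.mem_univ, true_and] at hjJ
      obtain ⟨y, hyj, hyB⟩ := hjJ
      obtain ⟨h, hh, hxy⟩ := horb j y hyj x hxj
      rw [← hxy]
      exact hHinv h hh y hyB
  have hcardB : B.card = ∑ j ∈ J, (S j).card := by
    rw [hBJ]
    exact Finset.card_biUnion (fun i _ j _ hij => hdisj i j hij)
  have hj0J : j0 ∈ J := by
    simp only [J, Finset.mem_filter, Finset.mem_univ, true_and]
    exact ⟨x0, by rw [hS0]; simp, hx0B⟩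
  have hd' : (∑ j ∈ J, (S j).card) ∣ Fintype.card X := by rw [← hcardB, hBcard]; exact hdvd
  rcases harith J hj0J hd' with hJ | hJ
  · -- trivial orbit: N fixes every point, hence N = ⊥
    have hB1 : B = {x0} := by
      rw [hBJ, hJ, Finset.singleton_biUnion, hS0]
    apply hNbot
    rw [Subgroup.eq_bot_iff_forall]
    intro ν hν
    apply hfaith
    have hfix : ∀ μ ∈ N, μ • x0 = x0 := by
      intro μ hμ
      have : μ • x0 ∈ B := (hBmem _).mpr ⟨⟨μ, hμ⟩, rfl⟩
      rw [hB1, Finset.mem_singleton] at this
      exact this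
    intro x
    obtain ⟨g, rfl⟩ := htrans x
    have hc : g⁻¹ * ν * g ∈ N := by
      have := hN.conj_mem ν hν g⁻¹
      simpa using this
    have := hfix _ hc
    rw [mul_smul, mul_smul, inv_smul_eq_iff] at this
    exact this
  · -- full orbit: the degree divides |N|
    have hBn : (MulAction.orbit N x0).ncard = Fintype.card X := by
      rw [← hBcard, hcardB, hJ]
      have hU : (Finset.univ : Finset X) = (Finset.univ : Finset (Fin r)).biUnion S := by
        ext x
        simp only [Finset.mem_univ, Finset.mem_biUnion, true_and, true_iff]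
        exact hcover x
      rw [← Finset.card_univ, hU]
      exact (Finset.card_biUnion (fun i _ j _ hij => hdisj i j hij)).symm
    have h1 := (MulAction.stabilizer N x0).index_mul_card
    rw [MulAction.index_stabilizer, hBn] at h1
    have hnN : Fintype.card X ∣ Nat.card N := Dvd.intro _ h1
    have hg0N : g0 ∈ N := mem_normal_of_pow p N a hpa (hpn.trans hnN) g0 hg0
    apply hNtop
    rw [eq_top_iff, ← hnc]
    exact Subgroup.normalClosure_le_normal (by simpa using hg0N)

end Simple

end Cfsg.Agent.Lib.Helper92.SimpleAux
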