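import Cfsg.Agent.Lib.Helper92.SimpleAux

/-!
# A variant of the simplicity criterion from suborbit lengths (helper92)

The admissible unions of suborbits need not be trivial: it suffices that their lengths are divisible
by the full power of the prime.
-/

set_option autoImplicit false

namespace Cfsg.Agent.Lib.Helper92.SimpleAux

section Simple3

variable {G : Type*} [Group G] {X : Type*} [MulAction G X]

/-- simplicity of a finite group acting faithfully and transitively, from the lengths of the orbits of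
a point stabilizer (no proper union of them containing the base point has a length dividing the
degree) and an element of prime power order, the full power dividing the degree, whose normal
closure is the whole group -/
theorem simple_of_suborbits' [Finite G] [Fintype X] [DecidableEq X]
    (x0 : X) (H : Subgroup G) (hH : ∀ h ∈ H, h • x0 = x0)
    (htrans : ∀ x : X, ∃ g : G, g • x0 = x)
    (hfaith : ∀ g : G, (∀ x : X, g • x = x) → g = 1)
    (p a : ℕ) [Fact p.Prime]
    {r : ℕ} (S : Fin r → Finset X) (j0 : Fin r) (hS0 : S j0 = {x0})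
    (hcover : ∀ x, ∃ j, x ∈ S j)
    (hdisj : ∀ i j, i ≠ j → Disjoint (S i) (S j))
    (horb : ∀ j, ∀ x ∈ S j, ∀ y ∈ S j, ∃ h ∈ H, h • x = y)
    (harith : ∀ J : Finset (Fin r), j0 ∈ J → (∑ j ∈ J, (S j).card) ∣ Fintype.card X →
      J = {j0} ∨ p ^ a ∣ ∑ j ∈ J, (S j).card)
    (hpa : ¬ p ^ (a + 1) ∣ Nat.card G)
    (g0 : G) (hg0 : g0 ^ (p ^ a) = 1) (hnc : Subgroup.normalClosure {g0} = ⊤)
    (hnt : 1 < Fintype.card X) : IsSimpleGroup G := by
  classical
  haveI : MulAction.IsPretransitive G X := ⟨fun x y => by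
    obtain ⟨g1, h1⟩ := htrans x
    obtain ⟨g2, h2⟩ := htrans y
    exact ⟨g2 * g1⁻¹, by rw [mul_smul, ← h1, inv_smul_smul, h2]⟩⟩
  haveI : Nontrivial G := by
    by_contra hnon
    rw [not_nontrivial_iff_subsingleton] at hnon
    have hall : ∀ x : X, x = x0 := by
      intro x
      obtain ⟨g, hg⟩ := htrans x
      rw [← hg, Subsingleton.elim g 1, one_smul]
    have : Fintype.card X ≤ 1 := Fintype.card_le_one_iff.mpr (fun x y => by rw [hall x, hall y])
    omega
  refine ⟨fun N hN => ?_⟩
  by_contra hcon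
  push_neg at hcon
  obtain ⟨hNbot, hNtop⟩ := hcon
  have hblock : MulAction.IsBlock G (MulAction.orbit N x0) := MulAction.IsBlock.orbit_of_normal x0
  have hdvd : (MulAction.orbit N x0).ncard ∣ Nat.card X :=
    hblock.ncard_dvd_card ⟨x0, MulAction.mem_orbit_self x0⟩
  rw [Nat.card_eq_fintype_card] at hdvd
  let B : Finset X := Finset.univ.filter (fun x => x ∈ MulAction.orbit N x0)
  have hBmem : ∀ x, x ∈ B ↔ x ∈ MulAction.orbit N x0 := by
    intro x; simp [B]
  have hBcard : B.card = (MulAction.orbit N x0).ncard := by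
    rw [← Set.ncard_coe_finset]
    congr 1
    ext x
    simp [B]
  have hx0B : x0 ∈ B := (hBmem x0).mpr (MulAction.mem_orbit_self x0)
  -- the orbit is invariant under H
  have hHinv : ∀ h ∈ H, ∀ x ∈ B, h • x ∈ B := by
    intro h hh x hx
    rw [hBmem] at hx ⊢
    obtain ⟨⟨ν, hν⟩, rfl⟩ := hx
    refine ⟨⟨h * ν * h⁻¹, hN.conj_mem ν hν h⟩, ?_⟩
    show (h * ν * h⁻¹) • x0 = h • (ν • x0)
    rw [mul_smul, mul_smul]
    congr 2
    rw [inv_smul_eq_iff, hH h hh]
  let J : Finset (Fin r) := Finset.univ.filter (fun j => ∃ x ∈ S j, x ∈ B)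
  have hBJ : B = J.biUnion S := by
    ext x
    constructor
    · intro hx
      obtain ⟨j, hj⟩ := hcover x
      rw [Finset.mem_biUnion]
      exact ⟨j, by simp only [J, Finset.mem_filter, Finset.mem_univ, true_and]; exact ⟨x, hj, hx⟩, hj⟩
    · intro hx
      rw [Finset.mem_biUnion] at hx
      obtain ⟨j, hjJ, hxj⟩ := hx
      simp only [J, Finset.mem_filter, Finset.mem_univ, true_and] at hjJ
      obtain ⟨y, hyj, hyB⟩ := hjJ
      obtain ⟨h, hh, hxy⟩ := horb j y hyj x hxj
      rw [← hxy]
      exact hHinv h hh y hyB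
  have hcardB : B.card = ∑ j ∈ J, (S j).card := by
    rw [hBJ]
    exact Finset.card_biUnion (fun i _ j _ hij => hdisj i j hij)
  have hj0J : j0 ∈ J := by
    simp only [J, Finset.mem_filter, Finset.mem_univ, true_and]
    exact ⟨x0, by rw [hS0]; simp, hx0B⟩
  have hd' : (∑ j ∈ J, (S j).card) ∣ Fintype.card X := by rw [← hcardB, hBcard]; exact hdvd
  rcases harith J hj0J hd' with hJ | hJ
  · -- trivial orbit: N fixes every point, hence N = ⊥
    have hB1 : B = {x0} := by
      rw [hBJ, hJ, Finset.singleton_biUnion, hS0]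
    apply hNbot
    rw [Subgroup.eq_bot_iff_forall]
    intro ν hν
    apply hfaith
    have hfix : ∀ μ ∈ N, μ • x0 = x0 := by
      intro μ hμ
      have : μ • x0 ∈ B := (hBmem _).mpr ⟨⟨μ, hμ⟩, rfl⟩
      rw [hB1, Finset.mem_singleton] at this
      exact this
    intro x
    obtain ⟨g, rfl⟩ := htrans x
    have hc : g⁻¹ * ν * g ∈ N := by
      have := hN.conj_mem ν hν g⁻¹
      simpa using this
    have := hfix _ hc
    rw [mul_smul, mul_smul, inv_smul_eq_iff] at this
    exact this
  · -- the length of the orbit divides |N|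
    have hBn : (MulAction.orbit N x0).ncard = ∑ j ∈ J, (S j).card := by
      rw [← hBcard, hcardB]
    have h1 := (MulAction.stabilizer N x0).index_mul_card
    rw [MulAction.index_stabilizer, hBn] at h1
    have hnN : (∑ j ∈ J, (S j).card) ∣ Nat.card N := Dvd.intro _ h1
    have hg0N : g0 ∈ N := mem_normal_of_pow p N a hpa (hJ.trans hnN) g0 hg0
    apply hNtop
    rw [eq_top_iff, ← hnc]
    exact Subgroup.normalClosure_le_normal (by simpa using hg0N)

end Simple3

end Cfsg.Agent.Lib.Helper92.SimpleAux
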