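import Mathlib
import Cfsg.Agent.Lib.Helper48.RSpDefs2

set_option autoImplicit false
set_option linter.unusedVariables false
set_option linter.unusedSectionVars false

/-!
# Leaf K-RSp-P4 (`sym_all_two`) of the pack K-RSp (S2281, architect helper48)

`n = 2`, characteristic `2`, `|F| ≥ 4`: an additive group `X` of `2 × 2` matrices containing `l E_00`, closed under
`S ↦ U S Uᵀ`, `S ↦ L S Lᵀ` (last row zero) and the quadratic Levi step `S₂ ↦ τ S₂ τᵀ`, contains every symmetric matrix.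
Coordinates `p4sm a b c = [[a,b],[b,c]]`.
-/

namespace Cfsg.Agent.Lib.Helper92.RSp

open Matrix Cfsg.Agent.Lib.Helper48.RSp Cfsg.Agent.Lib.Helper18

variable {F : Type*} [Field F]

/-- symmetric `2 × 2` matrix in coordinates -/
def p4sm (a b c : F) : SM 0 F := !![a, b; b, c]

theorem p4sm_add (a b c a' b' c' : F) :
    p4sm a b c + p4sm a' b' c' = p4sm (a + a') (b + b') (c + c') := by
  ext i j
  fin_cases i <;> fin_cases j <;> simp [p4sm]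

theorem p4sm_sub (a b c a' b' c' : F) :
    p4sm a b c - p4sm a' b' c' = p4sm (a - a') (b - b') (c - c') := by
  ext i j
  fin_cases i <;> fin_cases j <;> simp [p4sm]

theorem p4sm_zero : p4sm (0 : F) 0 0 = 0 := by
  ext i j
  fin_cases i <;> fin_cases j <;> simp [p4sm]

theorem p4sm_transpose (a b c : F) : (p4sm a b c)ᵀ = p4sm a b c := by
  ext i j
  fin_cases i <;> fin_cases j <;> simp [p4sm]

theorem p4sm_eq (S : SM 0 F) (hS : Sᵀ = S) : S = p4sm (S 0 0) (S 0 1) (S 1 1) := by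
  have h10 : S 1 0 = S 0 1 := congrFun (congrFun hS 0) 1
  ext i j
  fin_cases i <;> fin_cases j <;> simp [p4sm, h10]

theorem p4sm_E00 (l : F) : l • E00 0 F = p4sm l 0 0 := by
  ext i j
  fin_cases i <;> fin_cases j <;> simp [p4sm, E00, Matrix.single]

theorem p4_U (h2 : (2 : F) = 0) (a b c : F) :
    Uup 0 F * p4sm a b c * (Uup 0 F)ᵀ = p4sm (a + c) (b + c) c := by
  ext i j
  fin_cases i <;> fin_cases j <;>
    simp [Uup, Nup, p4sm, Matrix.mul_apply, Fin.sum_univ_two, Matrix.one_apply]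
  linear_combination b * h2

theorem p4_L (t a : F) :
    Lbi 0 (fun j => if j = 0 then t else 1) * p4sm a 0 0 *
      (Lbi 0 (fun j => if j = 0 then t else 1))ᵀ = p4sm a (a * t) (a * t ^ 2) := by
  ext i j
  fin_cases i <;> fin_cases j <;>
    simp [Lbi, p4sm, Matrix.mul_apply, Fin.sum_univ_two]
  all_goals ring

theorem p4_tau (h2 : (2 : F) = 0) (t σ β a b' : F) :
    tauMat t σ β * p4sm a b' 0 * (tauMat t σ β)ᵀ =
      p4sm (a + (σ * β) ^ 2 * t ^ 2 * a) ((1 + σ * β * t) * (σ * β) * t ^ 2 * a + b')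
        ((σ * β) ^ 2 * t ^ 4 * a) := by
  ext i j
  fin_cases i <;> fin_cases j <;>
    simp [tauMat, p4sm, Matrix.mul_apply, Fin.sum_univ_two]
  · linear_combination (σ * β * t * a - σ * β * (1 + σ * β * t) * b') * h2
  · linear_combination (-(σ * β) ^ 2 * t ^ 2 * b') * h2
  · linear_combination (-(σ * β) ^ 2 * t ^ 2 * b') * h2
  · linear_combination (σ * β * t ^ 2 * (1 - σ * β * t) * b') * h2

theorem sym_all_two {F : Type*} [Field F] (X : AddSubgroup (SM 0 F)) (t σ l : F)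
    (ht : t ≠ 0) (hσ : σ ≠ 0) (hl0 : l ≠ 0)
    (hU : ∀ S ∈ X, Uup 0 F * S * (Uup 0 F)ᵀ ∈ X)
    (hL : ∀ S ∈ X, Sᵀ = S → (∀ j, S (Fin.last 1) j = 0) →
      Lbi 0 (fun j => if j = 0 then t else 1) * S * (Lbi 0 (fun j => if j = 0 then t else 1))ᵀ ∈ X)
    (hτ : ∀ S ∈ X, Sᵀ = S → S 1 1 = 0 → ∀ S₂ ∈ X,
      tauMat t σ (S 0 1) * S₂ * (tauMat t σ (S 0 1))ᵀ ∈ X)
    (h2 : (2 : F) = 0) (hl : l • E00 0 F ∈ X)
    (hgen : ∀ x : F, x ≠ 0 → ∃ k : ℕ, x = (σ * t ^ 4 * l) ^ (2 * k + 1))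
    (h4 : ∃ ρ₁ ρ₂ : F, ρ₁ ≠ 0 ∧ ρ₂ ≠ 0 ∧ ρ₁ ≠ ρ₂) :
    ∀ S : SM 0 F, Sᵀ = S → S ∈ X := by
  -- (a) the L-step
  have hE : ∀ a : F, p4sm a 0 0 ∈ X → p4sm a (a * t) (a * t ^ 2) ∈ X := by
    intro a ha
    have h := hL (p4sm a 0 0) ha (p4sm_transpose _ _ _) (by
      intro j
      fin_cases j <;> simp [p4sm, Fin.last])
    rwa [p4_L] at h
  -- (b) the U-step
  have hU' : ∀ a b c : F, p4sm a b c ∈ X → p4sm (a + c) (b + c) c ∈ X := by
    intro a b c h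
    have := hU _ h
    rwa [p4_U h2] at this
  -- (c) (U - 1)
  have hUm : ∀ a b c : F, p4sm a b c ∈ X → p4sm c c 0 ∈ X := by
    intro a b c h
    have h1 := X.sub_mem (hU' a b c h) h
    rw [p4sm_sub] at h1
    simpa using h1
  -- P c : (c,c,0) ∈ X
  have hP0 : p4sm (l * t ^ 2) (l * t ^ 2) 0 ∈ X := by
    have h1 : p4sm l 0 0 ∈ X := by rw [← p4sm_E00]; exact hl
    exact hUm _ _ _ (hE l h1)
  -- the quadratic step
  have hH : ∀ α β : F, p4sm α α 0 ∈ X → p4sm β β 0 ∈ X →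
      p4sm ((σ * β) ^ 2 * t ^ 2 * α) ((1 + σ * β * t) * (σ * β) * t ^ 2 * α)
        ((σ * β) ^ 2 * t ^ 4 * α) ∈ X := by
    intro α β hα hβ
    have h1 := hτ (p4sm β β 0) hβ (p4sm_transpose _ _ _) (by simp [p4sm]) (p4sm α α 0) hα
    have hβ01 : (p4sm β β 0) 0 1 = β := by simp [p4sm]
    rw [hβ01, p4_tau h2] at h1
    have h3 := X.sub_mem h1 hα
    rw [p4sm_sub] at h3
    have e1 : α + (σ * β) ^ 2 * t ^ 2 * α - α = (σ * β) ^ 2 * t ^ 2 * α := by ring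
    have e2 : (1 + σ * β * t) * (σ * β) * t ^ 2 * α + α - α
        = (1 + σ * β * t) * (σ * β) * t ^ 2 * α := by ring
    have e3 : (σ * β) ^ 2 * t ^ 4 * α - 0 = (σ * β) ^ 2 * t ^ 4 * α := by ring
    rwa [e1, e2, e3] at h3
  have hmul : ∀ α β : F, p4sm α α 0 ∈ X → p4sm β β 0 ∈ X →
      p4sm (σ ^ 2 * t ^ 4 * α * β ^ 2) (σ ^ 2 * t ^ 4 * α * β ^ 2) 0 ∈ X := by
    intro α β hα hβ
    have h := hUm _ _ _ (hH α β hα hβ)
    have e : (σ * β) ^ 2 * t ^ 4 * α = σ ^ 2 * t ^ 4 * α * β ^ 2 := by ring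
    rwa [e] at h
  have hst : σ * t ^ 2 ≠ 0 := mul_ne_zero hσ (pow_ne_zero 2 ht)
  -- odd powers of c₀
  have hodd : ∀ k : ℕ, p4sm ((σ * t ^ 2)⁻¹ * (σ * t ^ 4 * l) ^ (2 * k + 1))
      ((σ * t ^ 2)⁻¹ * (σ * t ^ 4 * l) ^ (2 * k + 1)) 0 ∈ X := by
    intro k
    induction k with
    | zero =>
      have e : (σ * t ^ 2)⁻¹ * (σ * t ^ 4 * l) ^ (2 * 0 + 1) = l * t ^ 2 := by
        rw [show 2 * 0 + 1 = 1 from rfl, pow_one]
        field_simp
      rw [e]; exact hP0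
    | succ k ih =>
      have h := hmul _ _ ih hP0
      have e : σ ^ 2 * t ^ 4 * ((σ * t ^ 2)⁻¹ * (σ * t ^ 4 * l) ^ (2 * k + 1)) * (l * t ^ 2) ^ 2
          = (σ * t ^ 2)⁻¹ * (σ * t ^ 4 * l) ^ (2 * (k + 1) + 1) := by
        field_simp
        ring
      rwa [e] at h
  have hC : ∀ c : F, p4sm c c 0 ∈ X := by
    intro c
    by_cases hc : c = 0
    · subst hc; rw [p4sm_zero]; exact X.zero_mem
    · obtain ⟨k, hk⟩ := hgen (σ * t ^ 2 * c) (mul_ne_zero hst hc)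
      have e : c = (σ * t ^ 2)⁻¹ * (σ * t ^ 4 * l) ^ (2 * k + 1) := by
        rw [← hk]; field_simp
      rw [e]; exact hodd k
  -- now h(α, ρ) ∈ X for all α, ρ
  have hh : ∀ κ ρ : F, ρ ≠ 0 → p4sm κ (κ * t * (1 + ρ) / ρ) (κ * t ^ 2) ∈ X := by
    intro κ ρ hρ
    have h := hH (κ / ρ ^ 2) (ρ / (σ * t)) (hC _) (hC _)
    have e1 : (σ * (ρ / (σ * t))) ^ 2 * t ^ 2 * (κ / ρ ^ 2) = κ := by
      field_simp
    have e2 : (1 + σ * (ρ / (σ * t)) * t) * (σ * (ρ / (σ * t))) * t ^ 2 * (κ / ρ ^ 2)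
        = κ * t * (1 + ρ) / ρ := by
      field_simp
    have e3 : (σ * (ρ / (σ * t))) ^ 2 * t ^ 4 * (κ / ρ ^ 2) = κ * t ^ 2 := by
      field_simp
    rwa [e1, e2, e3] at h
  obtain ⟨ρ₁, ρ₂, h1, h2', h12⟩ := h4
  have hB : ∀ x : F, p4sm 0 x 0 ∈ X := by
    intro x
    obtain ⟨d, hd_def⟩ : ∃ d : F, d = (1 + ρ₁) / ρ₁ - (1 + ρ₂) / ρ₂ := ⟨_, rfl⟩
    have hd : d ≠ 0 := by
      intro h
      apply h12
      rw [hd_def] at h
      field_simp at h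
      linear_combination (-1 : F) * h
    obtain ⟨κ, hκ⟩ : ∃ κ : F, κ = x / (t * d) := ⟨_, rfl⟩
    have h := X.sub_mem (hh κ ρ₁ h1) (hh κ ρ₂ h2')
    rw [p4sm_sub] at h
    have e1 : κ - κ = 0 := sub_self _
    have e2 : κ * t * (1 + ρ₁) / ρ₁ - κ * t * (1 + ρ₂) / ρ₂ = x := by
      have e : κ * t * (1 + ρ₁) / ρ₁ - κ * t * (1 + ρ₂) / ρ₂ = κ * t * d := by
        rw [hd_def]; ring
      rw [e, hκ]
      field_simp
    have e3 : κ * t ^ 2 - κ * t ^ 2 = 0 := sub_self _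
    rwa [e1, e2, e3] at h
  have hA : ∀ c : F, p4sm c 0 0 ∈ X := by
    intro c
    have h := X.sub_mem (hC c) (hB c)
    rw [p4sm_sub] at h
    simpa using h
  have hD : ∀ c : F, p4sm 0 0 c ∈ X := by
    intro c
    have h := X.sub_mem (X.sub_mem (hE (c / t ^ 2) (hA _)) (hA (c / t ^ 2))) (hB (c / t ^ 2 * t))
    rw [p4sm_sub, p4sm_sub] at h
    have e1 : c / t ^ 2 - c / t ^ 2 - 0 = 0 := by ring
    have e2 : c / t ^ 2 * t - 0 - c / t ^ 2 * t = 0 := by ring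
    have e3 : c / t ^ 2 * t ^ 2 - 0 - 0 = c := by
      rw [sub_zero, sub_zero]; field_simp
    rwa [e1, e2, e3] at h
  intro S hS
  rw [p4sm_eq S hS]
  have h := X.add_mem (X.add_mem (hA (S 0 0)) (hB (S 0 1))) (hD (S 1 1))
  rw [p4sm_add, p4sm_add] at h
  simpa using h

end Cfsg.Agent.Lib.Helper92.RSp
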