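import Mathlib

/-!
# K-RU leaf K (keystone 228011, pack S2280): a generator of the unit group of a finite field
-/

set_option autoImplicit false

namespace Cfsg.Agent.Lib.Helper92.RU

/-- LEAF K: a generator `l` of `Fˣ`; every nonzero `x` is `l ^ (k + 1)`. -/
theorem exists_gen (F : Type*) [Field F] [Fintype F] :
    ∃ l : F, l ≠ 0 ∧ ∀ x : F, x ≠ 0 → ∃ k : ℕ, x = l ^ (k + 1) := by
  obtain ⟨g, hg⟩ := IsCyclic.exists_generator (α := Fˣ)
  refine ⟨(g : F), g.ne_zero, fun x hx => ?_⟩
  have hmem : Units.mk0 x hx ∈ Subgroup.zpowers g := hg _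
  rw [← mem_powers_iff_mem_zpowers] at hmem
  obtain ⟨n, hn⟩ := hmem
  have hn' : (g : F) ^ n = x := by
    have := congrArg (fun u : Fˣ => (u : F)) hn
    simpa using this
  rcases Nat.eq_zero_or_pos n with h0 | hpos
  · subst h0
    have hord : 0 < orderOf g := orderOf_pos g
    obtain ⟨k, hk⟩ := Nat.exists_eq_succ_of_ne_zero hord.ne'
    refine ⟨k, ?_⟩
    have h1 : (g : F) ^ (k + 1) = 1 := by
      have : g ^ orderOf g = 1 := pow_orderOf_eq_one g
      rw [hk] at this
      have := congrArg (fun u : Fˣ => (u : F)) this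
      simpa using this
    rw [h1, ← hn', pow_zero]
  · obtain ⟨k, hk⟩ := Nat.exists_eq_succ_of_ne_zero hpos.ne'
    exact ⟨k, by rw [← hn', hk]⟩

end Cfsg.Agent.Lib.Helper92.RU
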