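import Mathlib

/-!
# Static coset-enumeration certificates with lazily merged nodes (helper92)

Nodes carry coset representatives defined along a tree.  Each node has up to eight *slots*
`(u, x) ↦ v` ("the letter `x` maps the coset of `u` to the coset of `v`") and possibly a *merge*
`u ↦ v` ("`u` and `v` represent the same coset"); every such fact has a time stamp and a
justification that only uses facts with smaller time stamps.  Walks follow slots and then all merges
that are older than the fact being justified.  Everything is packed in one natural number per node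
(`row u`), so that the kernel can evaluate the checks.
-/

set_option autoImplicit false

namespace Cfsg.Agent.Lib.Helper92.TCert

/-! ### kernel-friendly control -/

/-- failure value of walks -/
def BAD : ℕ := 262143

/-- evaluate `a` first -/
noncomputable def forceN (a : ℕ) (f : ℕ → ℕ) : ℕ :=
  @Nat.rec (fun _ => ℕ) (f 0) (fun m _ => f (Nat.succ m)) a
theorem forceN_eq (a : ℕ) (f : ℕ → ℕ) : forceN a f = f a := by cases a <;> rfl

/-- evaluate `a` first -/
noncomputable def forceB (a : ℕ) (f : ℕ → Bool) : Bool :=
  @Nat.rec (fun _ => Bool) (f 0) (fun m _ => f (Nat.succ m)) a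
theorem forceB_eq (a : ℕ) (f : ℕ → Bool) : forceB a f = f a := by cases a <;> rfl

/-- conjunction by the recursor -/
noncomputable def band (a b : Bool) : Bool := @Bool.rec (fun _ => Bool) false b a
theorem band_eq (a b : Bool) : band a b = (a && b) := by cases a <;> rfl

/-- disjunction by the recursor -/
noncomputable def bor (a b : Bool) : Bool := @Bool.rec (fun _ => Bool) b true a
theorem bor_eq (a b : Bool) : bor a b = (a || b) := by cases a <;> rfl

/-- conditional by the recursor -/
noncomputable def bifN (c : Bool) (t e : ℕ) : ℕ := @Bool.rec (fun _ => ℕ) e t c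
theorem bifN_eq (c : Bool) (t e : ℕ) : bifN c t e = if c = true then t else e := by cases c <;> rfl

/-- conditional by the recursor -/
noncomputable def bifB (c : Bool) (t e : Bool) : Bool := @Bool.rec (fun _ => Bool) e t c
theorem bifB_eq (c : Bool) (t e : Bool) : bifB c t e = if c = true then t else e := by cases c <;> rfl

theorem blt_iff (a b : ℕ) : Nat.blt a b = true ↔ a < b := by
  rw [Nat.blt_eq]

/-- the range test used for time stamps -/
theorem band_blt (a k : ℕ) : band (Nat.blt 0 a) (Nat.blt a k) = decide (0 < a ∧ a < k) := by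
  rw [band_eq]
  by_cases h1 : 0 < a <;> by_cases h2 : a < k
  · rw [(blt_iff 0 a).mpr h1, (blt_iff a k).mpr h2]; simp [h1, h2]
  · have : Nat.blt a k = false := by
      cases hb : Nat.blt a k
      · rfl
      · exact absurd ((blt_iff a k).mp hb) h2
    rw [this]; simp [h2]
  · have : Nat.blt 0 a = false := by
      cases hb : Nat.blt 0 a
      · rfl
      · exact absurd ((blt_iff 0 a).mp hb) h1
    rw [this]; simp [h1]
  · have : Nat.blt 0 a = false := by
      cases hb : Nat.blt 0 a
      · rfl
      · exact absurd ((blt_iff 0 a).mp hb) h1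
    rw [this]; simp [h1]

/-! ### fields of a row -/

def fDp (r : ℕ) : ℕ := Nat.land r 255
def fPar (r : ℕ) : ℕ := Nat.land (Nat.shiftRight r 8) 262143
def fPl (r : ℕ) : ℕ := Nat.land (Nat.shiftRight r 26) 7
def fQt (r : ℕ) : ℕ := Nat.land (Nat.shiftRight r 29) 262143
def fQl (r : ℕ) : ℕ := Nat.land (Nat.shiftRight r 47) 1048575
def fQk (r : ℕ) : ℕ := Nat.land (Nat.shiftRight r 67) 1
def fQa (r : ℕ) : ℕ := Nat.land (Nat.shiftRight r 68) 262143
def fQb (r : ℕ) : ℕ := Nat.land (Nat.shiftRight r 86) 7
def fSt (r x : ℕ) : ℕ := Nat.land (Nat.shiftRight r (Nat.add 96 (Nat.mul 60 x))) 262143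
def fSl (r x : ℕ) : ℕ := Nat.land (Nat.shiftRight r (Nat.add 114 (Nat.mul 60 x))) 1048575
def fSk (r x : ℕ) : ℕ := Nat.land (Nat.shiftRight r (Nat.add 134 (Nat.mul 60 x))) 7
def fSp (r x : ℕ) : ℕ := Nat.land (Nat.shiftRight r (Nat.add 137 (Nat.mul 60 x))) 262143

/-- fields of a rotation code: the first letter, the number of remaining letters, the packed rest -/
def rX (c : ℕ) : ℕ := Nat.land c 7
def rLen (c : ℕ) : ℕ := Nat.land (Nat.shiftRight c 3) 31
def rW (c : ℕ) : ℕ := Nat.shiftRight c 8

/-- the inverse column: `a, …, f` are their own inverses, `6 ↔ 7` -/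
noncomputable def ic (x : ℕ) : ℕ := bifN (Nat.blt x 6) x (Nat.sub 13 x)

theorem fSl_zero (x : ℕ) : fSl 0 x = 0 := by
  unfold fSl; show (0 >>> _) &&& _ = 0; simp
theorem fQl_zero : fQl 0 = 0 := by
  unfold fQl; show (0 >>> _) &&& _ = 0; simp

section Walk

variable (row : ℕ → ℕ) (F : ℕ)

/-- follow the merges older than `k` -/
noncomputable def canon (k : ℕ) (fuel : ℕ) (v : ℕ) : ℕ :=
  @Nat.rec (fun _ => ℕ → ℕ) (fun v => v)
    (fun _ ih v => @Bool.rec (fun _ => ℕ) v (forceN (fQt (row v)) ih)
      (band (Nat.blt 0 (fQl (row v))) (Nat.blt (fQl (row v)) k))) fuel v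

theorem canon_zero (k v : ℕ) : canon row k 0 v = v := rfl
theorem canon_succ (k f v : ℕ) : canon row k (f + 1) v =
    if 0 < fQl (row v) ∧ fQl (row v) < k then canon row k f (fQt (row v)) else v := by
  show @Bool.rec (fun _ => ℕ) v (forceN (fQt (row v)) (canon row k f))
      (band (Nat.blt 0 (fQl (row v))) (Nat.blt (fQl (row v)) k)) = _
  rw [forceN_eq, band_blt]
  by_cases h : 0 < fQl (row v) ∧ fQl (row v) < k
  · rw [decide_eq_true h, if_pos h]
  · rw [decide_eq_false h, if_neg h]

/-- one step of a walk at time `k`: the slot must be older than `k` -/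
noncomputable def stepK (k c x : ℕ) : ℕ :=
  @Bool.rec (fun _ => ℕ) BAD (forceN (fSt (row c) x) (canon row k F))
    (band (Nat.blt 0 (fSl (row c) x)) (Nat.blt (fSl (row c) x) k))

theorem stepK_eq (k c x : ℕ) : stepK row F k c x =
    if 0 < fSl (row c) x ∧ fSl (row c) x < k then canon row k F (fSt (row c) x) else BAD := by
  unfold stepK
  rw [forceN_eq, band_blt]
  by_cases h : 0 < fSl (row c) x ∧ fSl (row c) x < k
  · rw [decide_eq_true h, if_pos h]
  · rw [decide_eq_false h, if_neg h]

/-- walk along `len` letters packed (3 bits each, first letter lowest) in `w` -/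
noncomputable def walkN (k : ℕ) (len : ℕ) : ℕ → ℕ → ℕ :=
  @Nat.rec (fun _ => ℕ → ℕ → ℕ) (fun _ c => c)
    (fun _ ih w c => forceN (stepK row F k c (Nat.land w 7)) (ih (Nat.shiftRight w 3))) len

theorem walkN_zero (k w c : ℕ) : walkN row F k 0 w c = c := rfl
theorem walkN_succ (k len w c : ℕ) : walkN row F k (len + 1) w c =
    walkN row F k len (w >>> 3) (stepK row F k c (w &&& 7)) := by
  show forceN (stepK row F k c (Nat.land w 7)) (walkN row F k len (Nat.shiftRight w 3)) = _
  rw [forceN_eq]; rfl

/-- the letters packed in `w` -/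
def unpack : ℕ → ℕ → List ℕ
  | 0, _ => []
  | len + 1, w => (w &&& 7) :: unpack len (w >>> 3)

/-- walk along a list of letters -/
noncomputable def walkL (k : ℕ) : List ℕ → ℕ → ℕ
  | [], c => c
  | x :: w, c => walkL k w (stepK row F k c x)

theorem walkN_eq_walkL (k len w c : ℕ) :
    walkN row F k len w c = walkL row F k (unpack len w) c := by
  induction len generalizing w c with
  | zero => rfl
  | succ len ih => rw [walkN_succ, unpack, walkL, ih]

end Walk

end Cfsg.Agent.Lib.Helper92.TCert
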