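import Cfsg.Agent.Lib.Helper92.TCert

/-!
# Soundness of the static coset-enumeration certificates (helper92)
-/

set_option autoImplicit false

namespace Cfsg.Agent.Lib.Helper92.TCert

section Sound

variable {G : Type*} [Group G] (H : Subgroup G) (lv : ℕ → G) (row : ℕ → ℕ) (F : ℕ)

/-- coset representative of a node: along the definition tree, as long as the depth decreases -/
noncomputable def rep : ℕ → G := fun u =>
  WellFounded.fix (measure (fun u => fDp (row u))).wf
    (fun u ih => if h : fDp (row (fPar (row u))) < fDp (row u)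
      then lv (fPl (row u)) * ih (fPar (row u)) h else 1) u

theorem rep_eq (u : ℕ) : rep lv row u =
    if fDp (row (fPar (row u))) < fDp (row u) then lv (fPl (row u)) * rep lv row (fPar (row u))
    else 1 := by
  unfold rep
  rw [WellFounded.fix_eq]
  split_ifs <;> rfl

/-- `g` maps the coset of `u` to the coset of `v` -/
def Rel (g : G) (u v : ℕ) : Prop := (rep lv row v)⁻¹ * g * rep lv row u ∈ H

variable {H lv row}

theorem Rel.refl (u : ℕ) : Rel H lv row 1 u u := by
  unfold Rel; simp

theorem Rel.trans {g g' : G} {u v w : ℕ} (h1 : Rel H lv row g u v) (h2 : Rel H lv row g' v w) :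
    Rel H lv row (g' * g) u w := by
  unfold Rel at *
  have := H.mul_mem h2 h1
  have e : (rep lv row w)⁻¹ * g' * rep lv row v * ((rep lv row v)⁻¹ * g * rep lv row u) =
      (rep lv row w)⁻¹ * (g' * g) * rep lv row u := by group
  rwa [e] at this

theorem Rel.inv {g : G} {u v : ℕ} (h : Rel H lv row g u v) : Rel H lv row g⁻¹ v u := by
  unfold Rel at *
  have := H.inv_mem h
  have e : ((rep lv row v)⁻¹ * g * rep lv row u)⁻¹ = (rep lv row u)⁻¹ * g⁻¹ * rep lv row v := by group
  rwa [e] at this

theorem Rel.congr {g g' : G} {u v : ℕ} (h : Rel H lv row g u v) (e : g = g') : Rel H lv row g' u v :=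
  e ▸ h

variable (H lv row)

/-- value of a word in acting order: the first letter acts first -/
def evr : List ℕ → G
  | [] => 1
  | x :: w => evr w * lv x

theorem evr_append (a b : List ℕ) : evr lv (a ++ b) = evr lv b * evr lv a := by
  induction a with
  | nil => simp [evr]
  | cons x a ih => simp [evr, ih, mul_assoc]

/-- all facts older than `k` are valid -/
def Older (k : ℕ) : Prop :=
  (∀ u x, x < 8 → 0 < fSl (row u) x → fSl (row u) x < k → Rel H lv row (lv x) u (fSt (row u) x)) ∧
  (∀ u, 0 < fQl (row u) → fQl (row u) < k → Rel H lv row 1 u (fQt (row u)))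

variable {H lv row}

theorem canon_sound {k : ℕ} (hO : Older H lv row k) (f v : ℕ) :
    Rel H lv row 1 v (canon row k f v) := by
  induction f generalizing v with
  | zero => exact Rel.refl v
  | succ f ih =>
    rw [canon_succ]
    split_ifs with h
    · exact ((hO.2 v h.1 h.2).trans (ih _)).congr (by simp)
    · exact Rel.refl v

theorem stepK_sound {k : ℕ} (hO : Older H lv row k) (c x : ℕ) (hx : x < 8)
    (h : stepK row F k c x ≠ BAD) : Rel H lv row (lv x) c (stepK row F k c x) := by
  rw [stepK_eq] at h ⊢
  split_ifs at h ⊢ with hc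
  · exact ((hO.1 c x hx hc.1 hc.2).trans (canon_sound hO F _)).congr (by simp)
  · exact absurd rfl h

theorem stepK_BAD (hB : row BAD = 0) (k x : ℕ) : stepK row F k BAD x = BAD := by
  rw [stepK_eq, hB, fSl_zero]; simp

theorem walkL_BAD (hB : row BAD = 0) (k : ℕ) (w : List ℕ) : walkL row F k w BAD = BAD := by
  induction w with
  | nil => rfl
  | cons x w ih => rw [walkL, stepK_BAD F hB, ih]

theorem walkL_sound {k : ℕ} (hO : Older H lv row k) (hB : row BAD = 0) (w : List ℕ)
    (hw : ∀ x ∈ w, x < 8) (c : ℕ) (h : walkL row F k w c ≠ BAD) :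
    Rel H lv row (evr lv w) c (walkL row F k w c) := by
  induction w generalizing c with
  | nil => exact Rel.refl c
  | cons x w ih =>
    rw [walkL] at h ⊢
    by_cases hs : stepK row F k c x = BAD
    · rw [hs, walkL_BAD F hB] at h; exact absurd rfl h
    · have h1 := stepK_sound F hO c x (hw x List.mem_cons_self) hs
      have h2 := ih (fun y hy => hw y (List.mem_cons_of_mem _ hy)) _ h
      exact (h1.trans h2).congr rfl

theorem unpack_lt (len w : ℕ) : ∀ x ∈ unpack len w, x < 8 := by
  induction len generalizing w with
  | zero => intro x hx; simp [unpack] at hx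
  | succ len ih =>
    intro x hx
    rw [unpack, List.mem_cons] at hx
    rcases hx with rfl | hx
    · exact Nat.lt_of_le_of_lt Nat.and_le_right (by norm_num)
    · exact ih _ x hx

end Sound

end Cfsg.Agent.Lib.Helper92.TCert
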