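import Cfsg.Agent.Lib.Helper92.TCert2

/-!
# The checks on the facts of a certificate, and their soundness (helper92)
-/

set_option autoImplicit false

namespace Cfsg.Agent.Lib.Helper92.TCert

/-- negation by the recursor -/
noncomputable def bnot (b : Bool) : Bool := @Bool.rec (fun _ => Bool) true false b
theorem bnot_eq (b : Bool) : bnot b = !b := by cases b <;> rfl

section Check

variable (row rot : ℕ → ℕ) (F nrot nsub : ℕ)

/-- definition of `v` as the child of `u` by the letter `x` -/
noncomputable def chkD (u x v : ℕ) : Bool :=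
  band (Nat.beq (fPar (row v)) u) (band (Nat.beq (fPl (row v)) x) (Nat.blt (fDp (row u)) (fDp (row v))))

/-- inverse of a primary slot of `v` -/
noncomputable def chkI (u x v k : ℕ) : Bool :=
  forceB (ic x) fun y =>
  band (Nat.blt 0 (fSl (row v) y)) (band (Nat.beq (fSt (row v) y) u)
    (band (bnot (Nat.beq (fSk (row v) y) 2)) (Nat.ble (fSl (row v) y) k)))

/-- a subgroup generator at the base node -/
noncomputable def chkS (u x v : ℕ) : Bool :=
  band (Nat.beq u 0) (band (Nat.beq v 0) (Nat.blt x nsub))

/-- closing a relator cycle -/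
noncomputable def chkC (u x v k : ℕ) : Bool :=
  forceB (fSp (row u) x) fun rid =>
  band (Nat.blt rid nrot) (forceB (rot rid) fun code =>
    band (Nat.beq (rX code) x) (Nat.beq (walkN row F k (rLen code) (rW code) v) u))

/-- transfer of a slot of a merged node -/
noncomputable def chkT (u x v k : ℕ) : Bool :=
  forceB (fSp (row u) x) fun g =>
  band (Nat.beq (canon row k F g) u) (band (Nat.beq (stepK row F k g x) v) (Nat.blt v BAD))

/-- the check of the slot `(u, x)` -/
noncomputable def chkSlot (u x : ℕ) : Bool :=
  bifB (Nat.beq (fSl (row u) x) 0) true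
  (forceB (fSt (row u) x) fun v =>
   forceB (fSl (row u) x) fun k =>
   forceB (fSk (row u) x) fun kd =>
    bifB (Nat.beq kd 1) (chkD row u x v)
    (bifB (Nat.beq kd 2) (chkI row u x v k)
    (bifB (Nat.beq kd 3) (chkS nsub u x v)
    (bifB (Nat.beq kd 4) (chkC row rot F nrot u x v k)
    (bifB (Nat.beq kd 5) (chkT row F u x v k) false)))))

/-- merge found by a relator cycle that closes at two different nodes -/
noncomputable def chkQC (u v k : ℕ) : Bool :=
  forceB (fQa (row u)) fun rid =>
  band (Nat.blt rid nrot) (forceB (rot rid) fun code =>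
    bifB (Nat.beq (fQb (row u)) 0)
      (Nat.beq (walkN row F k (rLen code) (rW code) (stepK row F k u (rX code))) v)
      (Nat.beq (walkN row F k (rLen code) (rW code) (stepK row F k v (rX code))) u))

/-- merge found while transferring the slots of a merged node -/
noncomputable def chkQT (u v k : ℕ) : Bool :=
  forceB (fQa (row u)) fun g =>
  forceB (fQb (row u)) fun x =>
  forceB (canon row k F g) fun mu =>
  forceB (stepK row F k g x) fun d =>
  forceB (stepK row F k mu x) fun e =>
    bor (band (Nat.beq d u) (Nat.beq e v)) (band (Nat.beq d v) (Nat.beq e u))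

/-- the check of the merge of `u` -/
noncomputable def chkQ (u : ℕ) : Bool :=
  bifB (Nat.beq (fQl (row u)) 0) true
  (forceB (fQt (row u)) fun v =>
   forceB (fQl (row u)) fun k =>
    band (Nat.blt v BAD)
    (bifB (Nat.beq (fQk (row u)) 0) (chkQC row rot F nrot u v k) (chkQT row F u v k)))

end Check

section Sound2

variable {G : Type*} [Group G] {H : Subgroup G} {lv : ℕ → G} {row rot : ℕ → ℕ} {F nrot nsub N : ℕ}

/-- the standing hypotheses -/
structure Hyp (H : Subgroup G) (lv : ℕ → G) (row rot : ℕ → ℕ) (F nrot nsub N : ℕ) : Prop where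
  hN : N ≤ BAD
  hrow : ∀ u, N ≤ u → row u = 0
  hdp0 : fDp (row 0) = 0
  hrot : ∀ rid < nrot, evr lv (rX (rot rid) :: unpack (rLen (rot rid)) (rW (rot rid))) = 1
  hsub : ∀ x < nsub, lv x ∈ H
  hic : ∀ x < 8, lv (ic x) = (lv x)⁻¹
  hS : ∀ u < N, ∀ x < 8, chkSlot row rot F nrot nsub u x = true
  hQ : ∀ u < N, chkQ row rot F nrot u = true

theorem Hyp.hB (hy : Hyp H lv row rot F nrot nsub N) : row BAD = 0 := hy.hrow BAD hy.hN

theorem Hyp.rep0 (hy : Hyp H lv row rot F nrot nsub N) : rep lv row 0 = 1 := by
  rw [rep_eq, hy.hdp0]; simp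

theorem ic_lt (x : ℕ) (hx : x < 8) : ic x < 8 := by
  unfold ic; rw [bifN_eq]; split_ifs with h
  · exact hx
  · show 13 - x < 8
    have : ¬ x < 6 := by simpa [Nat.blt] using h
    omega

theorem beq_iff (a b : ℕ) : Nat.beq a b = true ↔ a = b :=
  ⟨Nat.eq_of_beq_eq_true, fun h => by subst h; exact Nat.beq_refl _⟩

theorem ble_iff (a b : ℕ) : Nat.ble a b = true ↔ a ≤ b := by
  rw [Nat.ble_eq]

/-- soundness of the primary kinds of slots -/
theorem primary_sound (hy : Hyp H lv row rot F nrot nsub N) {k : ℕ} (hO : Older H lv row k)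
    (u x : ℕ) (hu : u < N) (hx : x < 8) (hk : fSl (row u) x = k) (hk0 : 0 < k)
    (hkd : fSk (row u) x ≠ 2) : Rel H lv row (lv x) u (fSt (row u) x) := by
  have hc := hy.hS u hu x hx
  unfold chkSlot at hc
  rw [bifB_eq] at hc
  have hne : ¬ Nat.beq (fSl (row u) x) 0 = true := by rw [beq_iff]; omega
  rw [if_neg hne] at hc
  simp only [forceB_eq, bifB_eq, beq_iff] at hc
  set v := fSt (row u) x with hv
  split_ifs at hc with h1 h3 h4 h5
  · -- definition
    unfold chkD at hc
    simp only [band_eq, Bool.and_eq_true, beq_iff, blt_iff] at hc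
    obtain ⟨hp, hl, hd⟩ := hc
    unfold Rel
    rw [rep_eq lv row v, hp, if_pos hd, hl]
    have : (lv x * rep lv row u)⁻¹ * lv x * rep lv row u = 1 := by group
    rw [this]; exact H.one_mem
  · -- subgroup generator
    unfold chkS at hc
    simp only [band_eq, Bool.and_eq_true, beq_iff, blt_iff] at hc
    obtain ⟨hu0, hv0, hxs⟩ := hc
    unfold Rel
    rw [hv0, hu0, hy.rep0]
    simpa using hy.hsub x hxs
  · -- relator cycle
    unfold chkC at hc
    simp only [forceB_eq, band_eq, Bool.and_eq_true, beq_iff, blt_iff] at hc
    obtain ⟨hr, hxx, hw⟩ := hc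
    rw [hk, walkN_eq_walkL] at hw
    have hne : walkL row F k (unpack (rLen (rot (fSp (row u) x))) (rW (rot (fSp (row u) x)))) v ≠ BAD := by
      rw [hw]; have := hy.hN; omega
    have h1 := walkL_sound F hO hy.hB _ (unpack_lt _ _) v hne
    rw [hw] at h1
    have h2 := hy.hrot _ hr
    rw [evr, hxx] at h2
    have h3 : evr lv (unpack (rLen (rot (fSp (row u) x))) (rW (rot (fSp (row u) x)))) = (lv x)⁻¹ :=
      eq_inv_of_mul_eq_one_left h2
    rw [h3] at h1
    exact h1.inv.congr (by simp)
  · -- transfer
    unfold chkT at hc
    simp only [forceB_eq, band_eq, Bool.and_eq_true, beq_iff, blt_iff] at hc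
    obtain ⟨hcn, hst, hvb⟩ := hc
    rw [hk] at hcn hst
    have h1 := canon_sound hO F (fSp (row u) x)
    rw [hcn] at h1
    have hne : stepK row F k (fSp (row u) x) x ≠ BAD := by rw [hst]; omega
    have h2 := stepK_sound F hO _ x hx hne
    rw [hst] at h2
    exact (h1.inv.trans h2).congr (by simp)

/-- soundness of the merges -/
theorem merge_sound (hy : Hyp H lv row rot F nrot nsub N) {k : ℕ} (hO : Older H lv row k)
    (u : ℕ) (hu : u < N) (hk : fQl (row u) = k) (hk0 : 0 < k) :
    Rel H lv row 1 u (fQt (row u)) := by
  have hc := hy.hQ u hu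
  unfold chkQ at hc
  rw [bifB_eq] at hc
  have hne : ¬ Nat.beq (fQl (row u)) 0 = true := by rw [beq_iff]; omega
  rw [if_neg hne] at hc
  simp only [forceB_eq, band_eq, Bool.and_eq_true, blt_iff] at hc
  obtain ⟨hvb, hc⟩ := hc
  set v := fQt (row u) with hv
  have huB : u ≠ BAD := by have := hy.hN; omega
  rw [bifB_eq] at hc
  split_ifs at hc with hq
  · unfold chkQC at hc
    simp only [forceB_eq, band_eq, Bool.and_eq_true, blt_iff] at hc
    obtain ⟨hr, hc⟩ := hc
    have h2 := hy.hrot _ hr
    rw [bifB_eq] at hc
    rw [hk] at hc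
    split_ifs at hc with hb
    · rw [beq_iff, walkN_eq_walkL] at hc
      have e : walkL row F k (rX (rot (fQa (row u))) :: unpack (rLen (rot (fQa (row u)))) (rW (rot (fQa (row u))))) u = v := hc
      have hne : walkL row F k (rX (rot (fQa (row u))) :: unpack (rLen (rot (fQa (row u)))) (rW (rot (fQa (row u))))) u ≠ BAD := by
        rw [e]; omega
      have h1 := walkL_sound F hO hy.hB _ (by
        intro y hy'
        rw [List.mem_cons] at hy'
        rcases hy' with rfl | hy'
        · exact Nat.lt_of_le_of_lt Nat.and_le_right (by norm_num)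
        · exact unpack_lt _ _ y hy') u hne
      rw [e, h2] at h1
      exact h1
    · rw [beq_iff, walkN_eq_walkL] at hc
      have e : walkL row F k (rX (rot (fQa (row u))) :: unpack (rLen (rot (fQa (row u)))) (rW (rot (fQa (row u))))) v = u := hc
      have hne : walkL row F k (rX (rot (fQa (row u))) :: unpack (rLen (rot (fQa (row u)))) (rW (rot (fQa (row u))))) v ≠ BAD := by
        rw [e]; exact huB
      have h1 := walkL_sound F hO hy.hB _ (by
        intro y hy'
        rw [List.mem_cons] at hy'
        rcases hy' with rfl | hy'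
        · exact Nat.lt_of_le_of_lt Nat.and_le_right (by norm_num)
        · exact unpack_lt _ _ y hy') v hne
      rw [e, h2] at h1
      exact h1.inv.congr (by simp)
  · unfold chkQT at hc
    simp only [forceB_eq, band_eq, bor_eq, Bool.and_eq_true, Bool.or_eq_true, beq_iff] at hc
    rw [hk] at hc
    have hx : fQb (row u) < 8 := Nat.lt_of_le_of_lt Nat.and_le_right (by norm_num)
    have h1 := canon_sound hO F (fQa (row u))
    have key : ∀ d e, stepK row F k (fQa (row u)) (fQb (row u)) = d →
        stepK row F k (canon row k F (fQa (row u))) (fQb (row u)) = e → d ≠ BAD → e ≠ BAD →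
        Rel H lv row 1 d e := by
      intro d e hd he hdB heB
      have h2 := stepK_sound F hO _ _ hx (by rw [hd]; exact hdB)
      have h3 := stepK_sound F hO _ _ hx (by rw [he]; exact heB)
      rw [hd] at h2
      rw [he] at h3
      exact ((h2.inv.trans h1).trans h3).congr (by simp)
    rcases hc with ⟨hd, he⟩ | ⟨hd, he⟩
    · exact key u v hd he huB (by omega)
    · exact (key v u hd he (by omega) huB).inv.congr (by simp)

/-- all facts of a checked certificate are valid -/
theorem older_all (hy : Hyp H lv row rot F nrot nsub N) : ∀ k, Older H lv row k := by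
  intro k
  induction k with
  | zero => exact ⟨fun _ _ _ _ h => absurd h (by omega), fun _ _ h => absurd h (by omega)⟩
  | succ k ih =>
    refine ⟨?_, ?_⟩
    · intro u x hx h0 hlt
      by_cases hk : fSl (row u) x < k
      · exact ih.1 u x hx h0 hk
      · have hk' : fSl (row u) x = k := by omega
        have hu : u < N := by
          by_contra hc
          rw [hy.hrow u (by omega), fSl_zero] at h0; omega
        by_cases hkd : fSk (row u) x = 2
        · -- inverse slot
          have hc := hy.hS u hu x hx
          unfold chkSlot at hc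
          rw [bifB_eq] at hc
          have hne : ¬ Nat.beq (fSl (row u) x) 0 = true := by rw [beq_iff]; omega
          rw [if_neg hne] at hc
          simp only [forceB_eq, bifB_eq, beq_iff] at hc
          rw [if_neg (by omega), if_pos hkd] at hc
          unfold chkI at hc
          simp only [forceB_eq, band_eq, bnot_eq, Bool.and_eq_true, beq_iff, blt_iff, ble_iff,
            Bool.not_eq_true'] at hc
          obtain ⟨hp0, hpt, hpk, hple⟩ := hc
          set v := fSt (row u) x with hv
          have hy8 := ic_lt x hx
          have hpk' : fSk (row v) (ic x) ≠ 2 := by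
            intro h; rw [← beq_iff] at h; rw [h] at hpk; exact Bool.noConfusion hpk
          have hrel : Rel H lv row (lv (ic x)) v u := by
            rw [← hpt]
            by_cases hlt2 : fSl (row v) (ic x) < k
            · exact ih.1 v (ic x) hy8 hp0 hlt2
            · have hvN : v < N := by
                by_contra hc
                rw [hy.hrow v (by omega), fSl_zero] at hp0; omega
              exact primary_sound hy ih v (ic x) hvN hy8 (by omega) (by omega) hpk'
          rw [hy.hic x hx] at hrel
          exact hrel.inv.congr (by simp)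
        · exact primary_sound hy ih u x hu hx hk' (by omega) hkd
    · intro u h0 hlt
      by_cases hk : fQl (row u) < k
      · exact ih.2 u h0 hk
      · have hu : u < N := by
          by_contra hc
          rw [hy.hrow u (by omega), fQl_zero] at h0; omega
        exact merge_sound hy ih u hu (by omega) (by omega)

end Sound2

end Cfsg.Agent.Lib.Helper92.TCert
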