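import Cfsg.Agent.Lib.Helper92.TCert3

/-!
# From a checked certificate to the bound on the index (helper92)
-/

set_option autoImplicit false

namespace Cfsg.Agent.Lib.Helper92.TCert

variable {G : Type*} [Group G] {H : Subgroup G} {lv : ℕ → G} {row rot : ℕ → ℕ} {F nrot nsub N : ℕ}

/-- the first `n` nodes are closed under the generators: the index is at most `n` -/
theorem card_quotient_le (hy : Hyp H lv row rot F nrot nsub N) (n ngen TOP : ℕ) (hn0 : 0 < n)
    (hnN : n ≤ N) (hng : ngen ≤ 8)
    (hgen : Subgroup.closure (lv '' {x | x < ngen}) = ⊤)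
    (hfin : ∀ c < n, ∀ x < ngen, Nat.blt (stepK row F TOP c x) n = true) :
    Finite (G ⧸ H) ∧ Nat.card (G ⧸ H) ≤ n := by
  classical
  have hO := older_all hy TOP
  have hcl : ∀ c < n, ∀ x < ngen, ∃ d < n, Rel H lv row (lv x) c d := by
    intro c hc x hx
    have hd : stepK row F TOP c x < n := (blt_iff _ _).mp (hfin c hc x hx)
    have hne : stepK row F TOP c x ≠ BAD := by have := hy.hN; omega
    exact ⟨_, hd, stepK_sound F hO c x (by omega) hne⟩
  let T : Set (G ⧸ H) := (fun c => ((rep lv row c : G) : G ⧸ H)) '' {c | c < n}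
  have hTfin : T.Finite := (Set.finite_lt_nat n).image _
  have hstep : ∀ x < ngen, ∀ q ∈ T, (lv x) • q ∈ T := by
    rintro x hx q ⟨c, hc, rfl⟩
    obtain ⟨d, hd, hr⟩ := hcl c hc x hx
    refine ⟨d, hd, ?_⟩
    show ((rep lv row d : G) : G ⧸ H) = lv x • ((rep lv row c : G) : G ⧸ H)
    rw [MulAction.Quotient.smul_coe, smul_eq_mul, QuotientGroup.eq]
    unfold Rel at hr
    rwa [mul_assoc] at hr
  have hone : ((1 : G) : G ⧸ H) ∈ T := ⟨0, hn0, by show ((rep lv row 0 : G) : G ⧸ H) = _; rw [hy.rep0]⟩
  have hall : ∀ g : G, ∀ q ∈ T, g • q ∈ T := by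
    intro g
    have hg : g ∈ Subgroup.closure (lv '' {x | x < ngen}) := by rw [hgen]; trivial
    induction hg using Subgroup.closure_induction with
    | mem y hy' =>
      obtain ⟨x, hx, rfl⟩ := hy'
      exact hstep x hx
    | one => intro q hq; simpa using hq
    | mul y z _ _ ihy ihz => intro q hq; rw [mul_smul]; exact ihy _ (ihz _ hq)
    | inv y _ ihy =>
      intro q hq
      have : Finite T := hTfin.to_subtype
      let φ : T → T := fun t => ⟨y • t.1, ihy t.1 t.2⟩
      have hinj : Function.Injective φ := fun t z h =>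
        Subtype.ext (MulAction.injective y (congrArg Subtype.val h))
      obtain ⟨t, ht⟩ := Finite.surjective_of_injective hinj ⟨q, hq⟩
      have : y • t.1 = q := congrArg Subtype.val ht
      rw [← this, inv_smul_smul]
      exact t.2
  have huniv : (Set.univ : Set (G ⧸ H)) ⊆ T := by
    intro q _
    induction q using QuotientGroup.induction_on with
    | H g =>
      have := hall g _ hone
      rwa [MulAction.Quotient.smul_coe, smul_eq_mul, mul_one] at this
  have hfinX : Finite (G ⧸ H) := by
    have : (Set.univ : Set (G ⧸ H)).Finite := hTfin.subset huniv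
    exact Set.finite_univ_iff.mp this
  refine ⟨hfinX, ?_⟩
  calc Nat.card (G ⧸ H) = (Set.univ : Set (G ⧸ H)).ncard := (Set.ncard_univ _).symm
    _ ≤ T.ncard := Set.ncard_le_ncard huniv hTfin
    _ ≤ ({c | c < n} : Set ℕ).ncard := Set.ncard_image_le (Set.finite_lt_nat n)
    _ = n := by
      have : ({c | c < n} : Set ℕ) = ↑(Finset.range n) := by ext; simp
      rw [this, Set.ncard_coe_finset, Finset.card_range]

end Cfsg.Agent.Lib.Helper92.TCert
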