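import Cfsg.Agent.Lib.Helper92.TCert4

/-!
# Storage of the rows: a 16-ary trie of packed leaves (helper92)
-/

set_option autoImplicit false

namespace Cfsg.Agent.Lib.Helper92.TCert

/-- 16-ary trie of natural numbers -/
inductive T16 where
  | leaf (v : ℕ) : T16
  | node (c0 c1 c2 c3 c4 c5 c6 c7 c8 c9 c10 c11 c12 c13 c14 c15 : T16) : T16

/-- lookup: the lowest four bits of the index select the child -/
noncomputable def T16.get (t : T16) : ℕ → ℕ :=
  @T16.rec (fun _ => ℕ → ℕ) (fun v _ => v)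
    (fun _ _ _ _ _ _ _ _ _ _ _ _ _ _ _ _ i0 i1 i2 i3 i4 i5 i6 i7 i8 i9 i10 i11 i12 i13 i14 i15 i =>
      bifN (Nat.beq (Nat.land i 8) 0)
        (bifN (Nat.beq (Nat.land i 4) 0)
          (bifN (Nat.beq (Nat.land i 2) 0)
            (bifN (Nat.beq (Nat.land i 1) 0) (i0 (Nat.shiftRight i 4)) (i1 (Nat.shiftRight i 4)))
            (bifN (Nat.beq (Nat.land i 1) 0) (i2 (Nat.shiftRight i 4)) (i3 (Nat.shiftRight i 4))))
          (bifN (Nat.beq (Nat.land i 2) 0)
            (bifN (Nat.beq (Nat.land i 1) 0) (i4 (Nat.shiftRight i 4)) (i5 (Nat.shiftRight i 4)))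
            (bifN (Nat.beq (Nat.land i 1) 0) (i6 (Nat.shiftRight i 4)) (i7 (Nat.shiftRight i 4)))))
        (bifN (Nat.beq (Nat.land i 4) 0)
          (bifN (Nat.beq (Nat.land i 2) 0)
            (bifN (Nat.beq (Nat.land i 1) 0) (i8 (Nat.shiftRight i 4)) (i9 (Nat.shiftRight i 4)))
            (bifN (Nat.beq (Nat.land i 1) 0) (i10 (Nat.shiftRight i 4)) (i11 (Nat.shiftRight i 4))))
          (bifN (Nat.beq (Nat.land i 2) 0)
            (bifN (Nat.beq (Nat.land i 1) 0) (i12 (Nat.shiftRight i 4)) (i13 (Nat.shiftRight i 4)))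
            (bifN (Nat.beq (Nat.land i 1) 0) (i14 (Nat.shiftRight i 4)) (i15 (Nat.shiftRight i 4))))))
    t

/-- mask of a row (576 bits) -/
def rowMask : ℕ := 247330401473104534060502521019647190035131349101211839914063056092897225106531867170316401061243044989597671426016139339351365034306751209967546155101893167916606772148699135

/-- the row of node `u`: 64 rows of 576 bits per leaf; `0` beyond `N` -/
noncomputable def rowOf (t : T16) (N u : ℕ) : ℕ :=
  bifN (Nat.blt u N)
    (Nat.land (Nat.shiftRight (t.get (Nat.shiftRight u 6)) (Nat.mul 576 (Nat.land u 63))) rowMask) 0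

theorem rowOf_ge (t : T16) (N u : ℕ) (h : N ≤ u) : rowOf t N u = 0 := by
  unfold rowOf
  rw [bifN_eq, if_neg]
  rw [blt_iff]; omega

end Cfsg.Agent.Lib.Helper92.TCert
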