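import Cfsg.Agent.Lib.Helper92.TCert6

/-!
# Certificates inside a subgroup generated by the letters; rotation tables (helper92)
-/

set_option autoImplicit false

namespace Cfsg.Agent.Lib.Helper92.TCert

/-- the final check of one coset for the generators `0, …, ngen - 1` -/
noncomputable def chkFinG (row : ℕ → ℕ) (F n TOP ngen c : ℕ) : Bool :=
  loopB (fun x => Nat.blt (stepK row F TOP c x) n) ngen 0

theorem chkFinG_spec (row : ℕ → ℕ) (F n TOP ngen c : ℕ) (h : chkFinG row F n TOP ngen c = true) :
    ∀ x < ngen, Nat.blt (stepK row F TOP c x) n = true :=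
  fun x hx => loopB_spec _ _ _ h x (Nat.zero_le _) (by omega)

section Rot
variable {G : Type*} [Group G]

theorem evr_rotate' (lv : ℕ → G) (w : List ℕ) (p : ℕ) (h : evr lv w = 1) :
    evr lv (w.rotate p) = 1 := by
  rw [List.rotate_eq_drop_append_take_mod, evr_append]
  have e : evr lv w = evr lv (List.drop (p % w.length) w) * evr lv (List.take (p % w.length) w) := by
    conv_lhs => rw [← List.take_append_drop (p % w.length) w]
    rw [evr_append]
  rw [e] at h
  exact mul_eq_one_comm.mp h

/-- all rotations of all relators -/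
def allRotsOf (rels : List (List ℕ)) : List (List ℕ) :=
  rels.flatMap fun w => (List.range w.length).map fun p => w.rotate p

/-- the word of a rotation code -/
noncomputable def rotWordOf (rot : ℕ → ℕ) (rid : ℕ) : List ℕ :=
  rX (rot rid) :: unpack (rLen (rot rid)) (rW (rot rid))

theorem rot_one_of (lv : ℕ → G) (rot : ℕ → ℕ) (rels : List (List ℕ)) (nR : ℕ)
    (hrels : ∀ w ∈ rels, evr lv w = 1)
    (hok : (List.range nR).map (rotWordOf rot) = allRotsOf rels) :
    ∀ rid < nR, evr lv (rX (rot rid) :: unpack (rLen (rot rid)) (rW (rot rid))) = 1 := by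
  intro rid h
  have hmem : rotWordOf rot rid ∈ allRotsOf rels := by
    rw [← hok]
    exact List.mem_map.mpr ⟨rid, List.mem_range.mpr h, rfl⟩
  unfold allRotsOf at hmem
  rw [List.mem_flatMap] at hmem
  obtain ⟨w, hw, hm⟩ := hmem
  rw [List.mem_map] at hm
  obtain ⟨p, _, hp⟩ := hm
  show evr lv (rotWordOf rot rid) = 1
  rw [← hp]
  exact evr_rotate' lv w p (hrels w hw)

end Rot

section Lift
variable {G : Type*} [Group G] {H : Subgroup G} {lv : ℕ → G} {row rot : ℕ → ℕ} {F nrot nsub N : ℕ}

open Classical in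
/-- the letters inside a subgroup that contains them -/
noncomputable def liftLv (L : Subgroup G) (lv : ℕ → G) (x : ℕ) : L :=
  if h : lv x ∈ L then ⟨lv x, h⟩ else 1

theorem coe_liftLv (L : Subgroup G) (lv : ℕ → G) (x : ℕ) (h : lv x ∈ L) :
    ((liftLv L lv x : L) : G) = lv x := by
  unfold liftLv; rw [dif_pos h]

theorem coe_evr_lift (L : Subgroup G) (hall : ∀ x < 8, lv x ∈ L) (w : List ℕ)
    (hw : ∀ x ∈ w, x < 8) : ((evr (liftLv L lv) w : L) : G) = evr lv w := by
  induction w with
  | nil => rfl
  | cons x w ih =>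
    rw [evr, evr, Subgroup.coe_mul, ih (fun y hy => hw y (List.mem_cons_of_mem _ hy)),
      coe_liftLv _ _ _ (hall x (hw x List.mem_cons_self))]

theorem Hyp.lift (hy : Hyp H lv row rot F nrot nsub N) (L : Subgroup G)
    (hall : ∀ x < 8, lv x ∈ L) :
    Hyp (H.subgroupOf L) (liftLv L lv) row rot F nrot nsub N where
  hN := hy.hN
  hrow := hy.hrow
  hdp0 := hy.hdp0
  hrot := by
    intro rid hr
    apply Subtype.ext
    rw [coe_evr_lift L hall _ (by
      intro y hy'
      rw [List.mem_cons] at hy'
      rcases hy' with rfl | hy'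
      · exact Nat.lt_of_le_of_lt Nat.and_le_right (by norm_num)
      · exact unpack_lt _ _ y hy')]
    exact hy.hrot rid hr
  hsub := by
    intro x hx
    rw [Subgroup.mem_subgroupOf]
    by_cases h : lv x ∈ L
    · rw [coe_liftLv _ _ _ h]; exact hy.hsub x hx
    · unfold liftLv; rw [dif_neg h]; exact H.one_mem
  hic := by
    intro x hx
    apply Subtype.ext
    rw [coe_liftLv _ _ _ (hall _ (ic_lt x hx)), Subgroup.coe_inv, coe_liftLv _ _ _ (hall x hx)]
    exact hy.hic x hx
  hS := hy.hS
  hQ := hy.hQ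

/-- the index bound inside the subgroup generated by the letters -/
theorem card_sub_le (hy : Hyp H lv row rot F nrot nsub N) (n ngen TOP : ℕ) (hn0 : 0 < n)
    (hnN : n ≤ N) (hng : ngen ≤ 8)
    (hall : ∀ x < 8, lv x ∈ Subgroup.closure (lv '' {x | x < ngen}))
    (hfin : ∀ c < n, ∀ x < ngen, Nat.blt (stepK row F TOP c x) n = true) :
    Finite (Subgroup.closure (lv '' {x | x < ngen}) ⧸
      H.subgroupOf (Subgroup.closure (lv '' {x | x < ngen}))) ∧
    Nat.card (Subgroup.closure (lv '' {x | x < ngen}) ⧸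
      H.subgroupOf (Subgroup.closure (lv '' {x | x < ngen}))) ≤ n := by
  set L := Subgroup.closure (lv '' {x | x < ngen}) with hL
  have hset : (liftLv L lv '' {x | x < ngen}) = ((↑) : L → G) ⁻¹' (lv '' {x | x < ngen}) := by
    ext y
    constructor
    · rintro ⟨x, hx, rfl⟩
      exact ⟨x, hx, (coe_liftLv L lv x (Subgroup.subset_closure ⟨x, hx, rfl⟩)).symm⟩
    · rintro ⟨x, hx, e⟩
      refine ⟨x, hx, Subtype.ext ?_⟩
      rw [coe_liftLv L lv x (Subgroup.subset_closure ⟨x, hx, rfl⟩), e]
  have hgen : Subgroup.closure (liftLv L lv '' {x | x < ngen}) = ⊤ := by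
    rw [hset]
    exact Subgroup.closure_closure_coe_preimage
  exact card_quotient_le (hy.lift L hall) n ngen TOP hn0 hnN hng hgen hfin

end Lift

end Cfsg.Agent.Lib.Helper92.TCert
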