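import Mathlib

/-!
# Bit-sliced permutation networks (helper92)

A permutation of `ℕ` (moving only points below a bound) is represented by a list of stages
`(s, M)`: stage `(s, M)` swaps positions `i` and `i + s` for every bit `i` of the mask `M`.
Applying a stage to a bit-vector `B : ℕ` costs a handful of big-number operations, so the kernel can
push a whole array of points (stored as bit planes) through a word of generators and thus check a
relator on all points at once.
-/

set_option autoImplicit false

namespace Cfsg.Agent.Lib.Helper92.VecPerm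

/-- the position map of a stage -/
def sigma (s M i : ℕ) : ℕ :=
  if M.testBit i then i + s else if s ≤ i ∧ M.testBit (i - s) then i - s else i

/-- auxiliary: the positions whose contents differ from the partner's -/
def stageT (s M B : ℕ) : ℕ := Nat.land (Nat.xor (Nat.shiftRight B s) B) M

/-- a stage applied to a bit-vector -/
def stageV (s M B : ℕ) : ℕ :=
  Nat.xor (Nat.xor B (stageT s M B)) (Nat.shiftLeft (stageT s M B) s)

/-- validity of a stage: no position is both the low and the high end of a swap -/
def StageOK (s M : ℕ) : Prop := M &&& (M <<< s) = 0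

theorem stageOK_excl {s M : ℕ} (h : StageOK s M) (i : ℕ) (h1 : M.testBit i = true)
    (h2 : s ≤ i) (h3 : M.testBit (i - s) = true) : False := by
  have : (M &&& (M <<< s)).testBit i = false := by rw [h]; simp
  rw [Nat.testBit_and, Nat.testBit_shiftLeft] at this
  simp [h1, h2, h3] at this

theorem stageV_testBit (s M B i : ℕ) (h : StageOK s M) :
    (stageV s M B).testBit i = B.testBit (sigma s M i) := by
  have e : stageV s M B = (B ^^^ (((B >>> s) ^^^ B) &&& M)) ^^^ ((((B >>> s) ^^^ B) &&& M) <<< s) := rfl
  rw [e]
  simp only [Nat.testBit_xor, Nat.testBit_and, Nat.testBit_shiftLeft, Nat.testBit_shiftRight]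
  unfold sigma
  by_cases h1 : M.testBit i = true
  · have h3 : ¬ (s ≤ i ∧ M.testBit (i - s) = true) := fun ⟨a, b⟩ => stageOK_excl h i h1 a b
    simp only [h1, if_true]
    by_cases h2 : s ≤ i
    · have h4 : M.testBit (i - s) = false := by
        cases hb : M.testBit (i - s)
        · rfl
        · exact absurd ⟨h2, hb⟩ h3
      simp [h2, h4, Nat.add_comm]
      cases B.testBit i <;> cases B.testBit (s + i) <;> rfl
    · simp [h2, Nat.add_comm]
      cases B.testBit i <;> cases B.testBit (s + i) <;> rfl
  · have h1' : M.testBit i = false := by simpa using h1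
    simp only [h1', Bool.and_false, Bool.xor_false]
    by_cases h2 : s ≤ i ∧ M.testBit (i - s) = true
    · obtain ⟨a, b⟩ := h2
      have e2 : s + (i - s) = i := by omega
      simp [a, b, e2]
    · rw [if_neg (by simp), if_neg h2]
      by_cases a : s ≤ i
      · have b : M.testBit (i - s) = false := by
          cases hb : M.testBit (i - s)
          · rfl
          · exact absurd ⟨a, hb⟩ h2
        simp [a, b]
      · simp [a]

theorem sigma_sigma {s M : ℕ} (h : StageOK s M) (i : ℕ) : sigma s M (sigma s M i) = i := by
  unfold sigma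
  by_cases h1 : M.testBit i = true
  · simp only [h1, if_true]
    have h2 : M.testBit (i + s) = false := by
      cases hb : M.testBit (i + s)
      · rfl
      · exact absurd (stageOK_excl h (i + s) hb (by omega) (by simpa using h1)) id
    simp [h2, h1]
  · have h1' : M.testBit i = false := by simpa using h1
    simp only [h1', Bool.false_eq_true, if_false]
    by_cases h2 : s ≤ i ∧ M.testBit (i - s) = true
    · obtain ⟨a, b⟩ := h2
      simp only [a, b, and_self, if_true]
      omega
    · simp only [h2, if_false, h1', Bool.false_eq_true]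

/-- a stage only moves points below `K` -/
def StageBd (K s M : ℕ) : Prop := M <<< s < 2 ^ K

theorem stageBd_testBit {K s M : ℕ} (h : StageBd K s M) (i : ℕ) (hi : M.testBit i = true) :
    i + s < K := by
  by_contra hc
  have h1 : (M <<< s).testBit (i + s) = true := by
    rw [Nat.testBit_shiftLeft]; simp [hi]
  have h2 : (M <<< s).testBit (i + s) = false :=
    Nat.testBit_lt_two_pow (lt_of_lt_of_le h (Nat.pow_le_pow_right (by norm_num) (by omega)))
  rw [h1] at h2; exact Bool.noConfusion h2

theorem sigma_lt {K s M : ℕ} (h : StageBd K s M) (i : ℕ) (hi : i < K) : sigma s M i < K := by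
  unfold sigma
  split_ifs with h1 h2
  · exact stageBd_testBit h i h1
  · omega
  · exact hi

theorem sigma_ge {K s M : ℕ} (h : StageBd K s M) (i : ℕ) (hi : K ≤ i) : sigma s M i = i := by
  unfold sigma
  split_ifs with h1 h2
  · have := stageBd_testBit h i h1; omega
  · have := stageBd_testBit h (i - s) h2.2; omega
  · rfl

/-! ### networks -/

/-- position map of a network -/
def netP : List (ℕ × ℕ) → ℕ → ℕ
  | [], i => i
  | st :: rest, i => sigma st.1 st.2 (netP rest i)

/-- inverse position map -/
def netPinv : List (ℕ × ℕ) → ℕ → ℕ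
  | [], i => i
  | st :: rest, i => netPinv rest (sigma st.1 st.2 i)

/-- a network applied to a bit-vector (kernel-friendly: plain recursor) -/
noncomputable def netV (net : List (ℕ × ℕ)) : ℕ → ℕ :=
  @List.rec (ℕ × ℕ) (fun _ => ℕ → ℕ) (fun B => B) (fun st _ ih B => ih (stageV st.1 st.2 B)) net

theorem netV_nil (B : ℕ) : netV [] B = B := rfl
theorem netV_cons (st : ℕ × ℕ) (rest : List (ℕ × ℕ)) (B : ℕ) :
    netV (st :: rest) B = netV rest (stageV st.1 st.2 B) := rfl

/-- all stages valid and bounded by `K` -/
def NetOK (K : ℕ) (net : List (ℕ × ℕ)) : Prop := ∀ st ∈ net, StageOK st.1 st.2 ∧ StageBd K st.1 st.2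

theorem netV_testBit {K : ℕ} (net : List (ℕ × ℕ)) (h : NetOK K net) (B i : ℕ) :
    (netV net B).testBit i = B.testBit (netP net i) := by
  induction net generalizing B with
  | nil => rfl
  | cons st rest ih =>
    rw [netV_cons, ih (fun s hs => h s (List.mem_cons_of_mem _ hs)), netP,
      stageV_testBit _ _ _ _ (h st List.mem_cons_self).1]

theorem netPinv_netP {K : ℕ} (net : List (ℕ × ℕ)) (h : NetOK K net) (i : ℕ) :
    netPinv net (netP net i) = i := by
  induction net with
  | nil => rfl
  | cons st rest ih =>
    rw [netP, netPinv, sigma_sigma (h st List.mem_cons_self).1,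
      ih (fun s hs => h s (List.mem_cons_of_mem _ hs))]

theorem netP_netPinv {K : ℕ} (net : List (ℕ × ℕ)) (h : NetOK K net) (i : ℕ) :
    netP net (netPinv net i) = i := by
  induction net generalizing i with
  | nil => rfl
  | cons st rest ih =>
    rw [netPinv, netP, ih (fun s hs => h s (List.mem_cons_of_mem _ hs)),
      sigma_sigma (h st List.mem_cons_self).1]

theorem netP_lt {K : ℕ} (net : List (ℕ × ℕ)) (h : NetOK K net) (i : ℕ) (hi : i < K) :
    netP net i < K := by
  induction net with
  | nil => exact hi
  | cons st rest ih =>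
    rw [netP]
    exact sigma_lt (h st List.mem_cons_self).2 _ (ih (fun s hs => h s (List.mem_cons_of_mem _ hs)))

theorem netP_ge {K : ℕ} (net : List (ℕ × ℕ)) (h : NetOK K net) (i : ℕ) (hi : K ≤ i) :
    netP net i = i := by
  induction net with
  | nil => rfl
  | cons st rest ih =>
    rw [netP, ih (fun s hs => h s (List.mem_cons_of_mem _ hs))]
    exact sigma_ge (h st List.mem_cons_self).2 _ hi

/-- the permutation of `ℕ` defined by a valid network -/
noncomputable def netPerm {K : ℕ} (net : List (ℕ × ℕ)) (h : NetOK K net) : Equiv.Perm ℕ where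
  toFun := netP net
  invFun := netPinv net
  left_inv := netPinv_netP net h
  right_inv := netP_netPinv net h

@[simp] theorem netPerm_apply {K : ℕ} (net : List (ℕ × ℕ)) (h : NetOK K net) (i : ℕ) :
    netPerm net h i = netP net i := rfl

/-- boolean check of `NetOK` -/
def netOKb (K : ℕ) (net : List (ℕ × ℕ)) : Bool :=
  net.all fun st => Nat.beq (Nat.land st.2 (Nat.shiftLeft st.2 st.1)) 0 &&
    Nat.blt (Nat.shiftLeft st.2 st.1) (Nat.pow 2 K)

theorem netOK_of_check {K : ℕ} {net : List (ℕ × ℕ)} (h : netOKb K net = true) : NetOK K net := by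
  intro st hst
  unfold netOKb at h
  rw [List.all_eq_true] at h
  have := h st hst
  simp only [Bool.and_eq_true] at this
  refine ⟨Nat.eq_of_beq_eq_true this.1, ?_⟩
  have h2 := this.2
  unfold StageBd
  simpa [Nat.blt] using h2

end Cfsg.Agent.Lib.Helper92.VecPerm
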