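import Cfsg.Agent.Lib.Helper92.VecPerm

/-!
# Identity planes, words of networks, orbits (helper92)
-/

set_option autoImplicit false

namespace Cfsg.Agent.Lib.Helper92.VecPerm

/-- `idp k b` : the bit-vector whose bit `i` (`i < 2^k`) is bit `b` of `i` -/
def idp : ℕ → ℕ → ℕ
  | 0, _ => 0
  | k+1, b => if b = k then Nat.shiftLeft (Nat.sub (Nat.pow 2 (Nat.pow 2 k)) 1) (Nat.pow 2 k)
              else Nat.lor (idp k b) (Nat.shiftLeft (idp k b) (Nat.pow 2 k))

theorem idp_lt (k b : ℕ) : idp k b < 2 ^ (2 ^ k) := by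
  induction k with
  | zero => simp [idp]
  | succ k ih =>
    have e2 : 2 ^ (2 ^ (k + 1)) = 2 ^ (2 ^ k) * 2 ^ (2 ^ k) := by
      rw [pow_succ, pow_mul, sq]
    unfold idp
    split_ifs with hb
    · show (2 ^ (2 ^ k) - 1) <<< (2 ^ k) < _
      rw [Nat.shiftLeft_eq, e2]
      have : 0 < 2 ^ (2 ^ k) := by positivity
      have h1 : 2 ^ (2 ^ k) - 1 < 2 ^ (2 ^ k) := by omega
      exact Nat.mul_lt_mul_of_pos_right h1 this
    · show idp k b ||| idp k b <<< (2 ^ k) < _
      have h2 : idp k b <<< (2 ^ k) < 2 ^ (2 ^ (k + 1)) := by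
        rw [Nat.shiftLeft_eq, e2]
        exact Nat.mul_lt_mul_of_pos_right ih (by positivity)
      have h1 : idp k b < 2 ^ (2 ^ (k + 1)) := by
        rw [e2]
        calc idp k b < 2 ^ (2 ^ k) := ih
          _ ≤ 2 ^ (2 ^ k) * 2 ^ (2 ^ k) := Nat.le_mul_of_pos_right _ (by positivity)
      exact Nat.or_lt_two_pow h1 h2

theorem testBit_top {k i : ℕ} (hi : i < 2 ^ (k + 1)) : i.testBit k = decide (2 ^ k ≤ i) := by
  by_cases h : 2 ^ k ≤ i
  · have e : i = 2 ^ k + (i - 2 ^ k) := by omega
    have h2 : i - 2 ^ k < 2 ^ k := by rw [pow_succ] at hi; omega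
    rw [e, Nat.testBit_two_pow_add_eq, Nat.testBit_lt_two_pow h2]
    simp
  · simp only [h, decide_false]
    exact Nat.testBit_lt_two_pow (by omega)

theorem idp_testBit (k b i : ℕ) (hb : b < k) (hi : i < 2 ^ k) :
    (idp k b).testBit i = i.testBit b := by
  induction k generalizing i with
  | zero => omega
  | succ k ih =>
    unfold idp
    split_ifs with hbk
    · subst hbk
      show ((2 ^ (2 ^ b) - 1) <<< (2 ^ b)).testBit i = _
      rw [Nat.testBit_shiftLeft, Nat.testBit_two_pow_sub_one, testBit_top hi]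
      by_cases h : 2 ^ b ≤ i
      · have : i - 2 ^ b < 2 ^ b := by rw [pow_succ] at hi; omega
        simp [h, this]
      · simp [h]
    · have hb' : b < k := by omega
      show (idp k b ||| idp k b <<< (2 ^ k)).testBit i = _
      rw [Nat.testBit_or, Nat.testBit_shiftLeft]
      by_cases h : 2 ^ k ≤ i
      · have h2 : i - 2 ^ k < 2 ^ k := by rw [pow_succ] at hi; omega
        have h3 : (idp k b).testBit i = false :=
          Nat.testBit_lt_two_pow (lt_of_lt_of_le (idp_lt k b) (Nat.pow_le_pow_right (by norm_num) h))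
        rw [h3, ih (i - 2 ^ k) hb' h2]
        have e : i = 2 ^ k + (i - 2 ^ k) := by omega
        conv_rhs => rw [e]
        rw [Nat.testBit_two_pow_add_gt hb']
        simp [h]
      · have h2 : i < 2 ^ k := by omega
        rw [ih i hb' h2]
        simp [h]

section Words

variable (nets : ℕ → List (ℕ × ℕ))

/-- position map of a word of letters -/
def wordP : List ℕ → ℕ → ℕ
  | [], i => i
  | x :: w, i => netP (nets x) (wordP w i)

/-- a word of letters applied to a bit-vector, letters in order -/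
noncomputable def wordV (w : List ℕ) : ℕ → ℕ :=
  @List.rec ℕ (fun _ => ℕ → ℕ) (fun B => B) (fun x _ ih B => ih (netV (nets x) B)) w

theorem wordV_cons (x : ℕ) (w : List ℕ) (B : ℕ) :
    wordV nets (x :: w) B = wordV nets w (netV (nets x) B) := rfl

variable {nets} {K : ℕ} (hn : ∀ x, NetOK K (nets x))
include hn

theorem wordV_testBit (w : List ℕ) (B i : ℕ) :
    (wordV nets w B).testBit i = B.testBit (wordP nets w i) := by
  induction w generalizing B with
  | nil => rfl
  | cons x w ih => rw [wordV_cons, ih, netV_testBit _ (hn x), wordP]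

theorem wordP_lt (w : List ℕ) (i : ℕ) (hi : i < K) : wordP nets w i < K := by
  induction w with
  | nil => exact hi
  | cons x w ih => rw [wordP]; exact netP_lt _ (hn x) _ ih

theorem wordP_ge (w : List ℕ) (i : ℕ) (hi : K ≤ i) : wordP nets w i = i := by
  induction w with
  | nil => rfl
  | cons x w ih => rw [wordP, ih]; exact netP_ge _ (hn x) _ hi

/-- the permutation of a word -/
noncomputable def wordPerm (w : List ℕ) : Equiv.Perm ℕ :=
  (w.map fun x => netPerm (nets x) (hn x)).prod

theorem wordPerm_apply (w : List ℕ) (i : ℕ) : wordPerm hn w i = wordP nets w i := by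
  induction w with
  | nil => rfl
  | cons x w ih =>
    unfold wordPerm at ih ⊢
    rw [List.map_cons, List.prod_cons, Equiv.Perm.mul_apply, ih, netPerm_apply, wordP]

omit hn in
/-- vectorised check that two words act in the same way -/
noncomputable def eqCheck (nets : ℕ → List (ℕ × ℕ)) (K' : ℕ) (u v : List ℕ) : Bool :=
  (List.range K').all fun b => Nat.beq (wordV nets u (idp K' b)) (wordV nets v (idp K' b))

theorem wordP_eq_of_check {K' : ℕ} (hK : K = 2 ^ K') {u v : List ℕ}
    (h : eqCheck nets K' u v = true) (i : ℕ) : wordP nets u i = wordP nets v i := by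
  by_cases hi : K ≤ i
  · rw [wordP_ge hn u i hi, wordP_ge hn v i hi]
  · have hi' : i < K := by omega
    have hu := wordP_lt hn u i hi'
    have hv := wordP_lt hn v i hi'
    apply Nat.eq_of_testBit_eq
    intro b
    by_cases hb : b < K'
    · unfold eqCheck at h
      rw [List.all_eq_true] at h
      have hb2 := Nat.eq_of_beq_eq_true (h b (List.mem_range.mpr hb))
      have e1 := wordV_testBit hn u (idp K' b) i
      have e2 := wordV_testBit hn v (idp K' b) i
      rw [hb2, e2] at e1
      rw [idp_testBit K' b _ hb (hK ▸ hv), idp_testBit K' b _ hb (hK ▸ hu)] at e1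
      exact e1.symm
    · have hK2 : 2 ^ K' ≤ 2 ^ b := Nat.pow_le_pow_right (by norm_num) (by omega)
      rw [Nat.testBit_lt_two_pow (by omega), Nat.testBit_lt_two_pow (by omega)]

theorem wordPerm_eq_of_check {K' : ℕ} (hK : K = 2 ^ K') {u v : List ℕ}
    (h : eqCheck nets K' u v = true) : wordPerm hn u = wordPerm hn v := by
  ext i
  rw [wordPerm_apply, wordPerm_apply, wordP_eq_of_check hn hK h]

theorem wordPerm_nil : wordPerm hn [] = 1 := rfl

theorem wordPerm_append (u v : List ℕ) : wordPerm hn (u ++ v) = wordPerm hn u * wordPerm hn v := by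
  unfold wordPerm; rw [List.map_append, List.prod_append]

theorem wordPerm_singleton (x : ℕ) : wordPerm hn [x] = netPerm (nets x) (hn x) := by
  unfold wordPerm; simp

/-! ### orbit of the point `0` -/

omit hn in
/-- one round: add the preimages under all listed generators -/
noncomputable def reachStep (nets : ℕ → List (ℕ × ℕ)) (gens : List ℕ) (R : ℕ) : ℕ :=
  @List.rec ℕ (fun _ => ℕ → ℕ) (fun A => A) (fun x _ ih A => ih (Nat.lor A (netV (nets x) R))) gens R

omit hn in
/-- `k` rounds from the single point `0` -/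
noncomputable def reachIter (nets : ℕ → List (ℕ × ℕ)) (gens : List ℕ) (k : ℕ) : ℕ :=
  @Nat.rec (fun _ => ℕ) 1 (fun _ R => reachStep nets gens R) k

theorem reachStep_sound (P : Subgroup (Equiv.Perm ℕ)) (gens : List ℕ)
    (hg : ∀ x ∈ gens, netPerm (nets x) (hn x) ∈ P) (R : ℕ)
    (hR : ∀ i, R.testBit i = true → ∃ σ ∈ P, σ 0 = i) :
    ∀ i, (reachStep nets gens R).testBit i = true → ∃ σ ∈ P, σ 0 = i := by
  unfold reachStep
  suffices H : ∀ (l : List ℕ), (∀ x ∈ l, netPerm (nets x) (hn x) ∈ P) → ∀ A : ℕ,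
      (∀ i, A.testBit i = true → ∃ σ ∈ P, σ 0 = i) →
      ∀ i, (@List.rec ℕ (fun _ => ℕ → ℕ) (fun A => A)
        (fun x _ ih A => ih (Nat.lor A (netV (nets x) R))) l A).testBit i = true →
        ∃ σ ∈ P, σ 0 = i from H gens hg R hR
  intro l
  induction l with
  | nil => intro _ A hA i hi; exact hA i hi
  | cons x l ih =>
    intro hl A hA i hi
    refine ih (fun y hy => hl y (List.mem_cons_of_mem _ hy)) (Nat.lor A (netV (nets x) R)) ?_ i hi
    intro j hj
    have : (A ||| netV (nets x) R).testBit j = true := hj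
    rw [Nat.testBit_or, Bool.or_eq_true] at this
    rcases this with h1 | h1
    · exact hA j h1
    · rw [netV_testBit _ (hn x)] at h1
      obtain ⟨σ, hσ, e⟩ := hR _ h1
      refine ⟨(netPerm (nets x) (hn x))⁻¹ * σ, P.mul_mem (P.inv_mem (hl x List.mem_cons_self)) hσ, ?_⟩
      rw [Equiv.Perm.mul_apply, e, Equiv.Perm.inv_def, Equiv.symm_apply_eq, netPerm_apply]

theorem reachIter_sound (P : Subgroup (Equiv.Perm ℕ)) (gens : List ℕ)
    (hg : ∀ x ∈ gens, netPerm (nets x) (hn x) ∈ P) (k : ℕ) :
    ∀ i, (reachIter nets gens k).testBit i = true → ∃ σ ∈ P, σ 0 = i := by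
  induction k with
  | zero =>
    intro i hi
    have : (1 : ℕ).testBit i = true := hi
    have hi0 : i = 0 := by
      by_contra hne
      have : (1 : ℕ).testBit i = false := Nat.testBit_lt_two_pow (by
        calc 1 < 2 ^ 1 := by norm_num
          _ ≤ 2 ^ i := Nat.pow_le_pow_right (by norm_num) (by omega))
      simp_all
    exact ⟨1, P.one_mem, by simp [hi0]⟩
  | succ k ih =>
    exact reachStep_sound hn P gens hg _ ih

omit hn in
/-- the check that `k` rounds reach all of `0, …, n-1` -/
noncomputable def orbitCheck (nets : ℕ → List (ℕ × ℕ)) (gens : List ℕ) (k n : ℕ) : Bool :=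
  Nat.beq (Nat.land (reachIter nets gens k) (Nat.sub (Nat.pow 2 n) 1)) (Nat.sub (Nat.pow 2 n) 1)

theorem orbit_of_check (P : Subgroup (Equiv.Perm ℕ)) (gens : List ℕ)
    (hg : ∀ x ∈ gens, netPerm (nets x) (hn x) ∈ P) (k n : ℕ)
    (h : orbitCheck nets gens k n = true) :
    ∀ i < n, ∃ σ ∈ P, σ 0 = i := by
  intro i hi
  apply reachIter_sound hn P gens hg k
  have e : reachIter nets gens k &&& (2 ^ n - 1) = 2 ^ n - 1 := Nat.eq_of_beq_eq_true h
  have : (reachIter nets gens k &&& (2 ^ n - 1)).testBit i = true := by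
    rw [e, Nat.testBit_two_pow_sub_one]; simpa using hi
  rw [Nat.testBit_and, Bool.and_eq_true] at this
  exact this.1

/-- a generator fixing the point `0` -/
theorem fix_zero_of_check (x : ℕ) (h : Nat.beq (netV (nets x) 1) 1 = true) : netP (nets x) 0 = 0 := by
  have e := Nat.eq_of_beq_eq_true h
  have h1 := netV_testBit _ (hn x) 1 0
  rw [e] at h1
  by_contra hne
  have : (1 : ℕ).testBit (netP (nets x) 0) = false := Nat.testBit_lt_two_pow (by
    calc 1 < 2 ^ 1 := by norm_num
      _ ≤ 2 ^ (netP (nets x) 0) := Nat.pow_le_pow_right (by norm_num) (by omega))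
  rw [this] at h1
  simp at h1

end Words

end Cfsg.Agent.Lib.Helper92.VecPerm
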