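import Cfsg.Agent.Lib.Helper92.VecPerm2
import Cfsg.Agent.Lib.Helper92.TCert

/-!
# Orbits from arbitrary seeds, counting bits, invariant masks (helper92)
-/

set_option autoImplicit false

namespace Cfsg.Agent.Lib.Helper92.VecPerm
open Cfsg.Agent.Lib.Helper92.TCert (forceN forceN_eq)

section Reach

variable {nets : ℕ → List (ℕ × ℕ)} {K : ℕ} (hn : ∀ x, NetOK K (nets x))
include hn

theorem reachStep_soundS (P : Subgroup (Equiv.Perm ℕ)) (gens : List ℕ)
    (hg : ∀ x ∈ gens, netPerm (nets x) (hn x) ∈ P) (s R : ℕ)
    (hR : ∀ i, R.testBit i = true → ∃ σ ∈ P, σ s = i) :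
    ∀ i, (reachStep nets gens R).testBit i = true → ∃ σ ∈ P, σ s = i := by
  unfold reachStep
  suffices H : ∀ (l : List ℕ), (∀ x ∈ l, netPerm (nets x) (hn x) ∈ P) → ∀ A : ℕ,
      (∀ i, A.testBit i = true → ∃ σ ∈ P, σ s = i) →
      ∀ i, (@List.rec ℕ (fun _ => ℕ → ℕ) (fun A => A)
        (fun x _ ih A => ih (Nat.lor A (netV (nets x) R))) l A).testBit i = true →
        ∃ σ ∈ P, σ s = i from H gens hg R hR
  intro l
  induction l with
  | nil => intro _ A hA i hi; exact hA i hi
  | cons x l ih =>
    intro hl A hA i hi
    refine ih (fun y hy => hl y (List.mem_cons_of_mem _ hy)) (Nat.lor A (netV (nets x) R)) ?_ i hi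
    intro j hj
    have : (A ||| netV (nets x) R).testBit j = true := hj
    rw [Nat.testBit_or, Bool.or_eq_true] at this
    rcases this with h1 | h1
    · exact hA j h1
    · rw [netV_testBit _ (hn x)] at h1
      obtain ⟨σ, hσ, e⟩ := hR _ h1
      refine ⟨(netPerm (nets x) (hn x))⁻¹ * σ, P.mul_mem (P.inv_mem (hl x List.mem_cons_self)) hσ, ?_⟩
      rw [Equiv.Perm.mul_apply, e, Equiv.Perm.inv_def, Equiv.symm_apply_eq, netPerm_apply]

omit hn in
/-- `k` rounds from the start mask `S`, each round evaluated completely -/
noncomputable def reachFrom (nets : ℕ → List (ℕ × ℕ)) (gens : List ℕ) (S k : ℕ) : ℕ :=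
  @Nat.rec (fun _ => ℕ) S (fun _ R => forceN R (fun R' => reachStep nets gens R')) k

omit hn in
theorem reachFrom_succ (gens : List ℕ) (S k : ℕ) :
    reachFrom nets gens S (k + 1) = reachStep nets gens (reachFrom nets gens S k) := by
  show forceN (reachFrom nets gens S k) (fun R' => reachStep nets gens R') = _
  rw [forceN_eq]

theorem reachFrom_sound (P : Subgroup (Equiv.Perm ℕ)) (gens : List ℕ)
    (hg : ∀ x ∈ gens, netPerm (nets x) (hn x) ∈ P) (s k : ℕ) :
    ∀ i, (reachFrom nets gens (2 ^ s) k).testBit i = true → ∃ σ ∈ P, σ s = i := by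
  induction k with
  | zero =>
    intro i hi
    have h1 : (2 ^ s).testBit i = true := hi
    rw [Nat.testBit_two_pow] at h1
    have : s = i := by simpa using h1
    exact ⟨1, P.one_mem, by simp [this]⟩
  | succ k ih =>
    rw [reachFrom_succ]
    exact reachStep_soundS hn P gens hg s _ ih

/-- a generator fixing the point `s` -/
theorem fix_of_check (x s : ℕ) (h : Nat.beq (netV (nets x) (2 ^ s)) (2 ^ s) = true) :
    netP (nets x) s = s := by
  have e := Nat.eq_of_beq_eq_true h
  have h1 := netV_testBit _ (hn x) (2 ^ s) s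
  rw [e, Nat.testBit_two_pow, Nat.testBit_two_pow] at h1
  have : s = netP (nets x) s := by simpa using h1
  exact this.symm

/-- a generator preserving the set of the first `n` points -/
theorem lt_of_check (x n : ℕ) (h : Nat.beq (netV (nets x) (2 ^ n - 1)) (2 ^ n - 1) = true) (i : ℕ) :
    netP (nets x) i < n ↔ i < n := by
  have e := Nat.eq_of_beq_eq_true h
  have h1 := netV_testBit _ (hn x) (2 ^ n - 1) i
  rw [e, Nat.testBit_two_pow_sub_one, Nat.testBit_two_pow_sub_one] at h1
  constructor
  · intro h2
    have : decide (netP (nets x) i < n) = true := decide_eq_true h2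
    rw [← h1] at this
    exact of_decide_eq_true this
  · intro h2
    have : decide (i < n) = true := decide_eq_true h2
    rw [h1] at this
    exact of_decide_eq_true this

end Reach

/-! ### counting bits -/

/-- `acc` plus the number of set bits of `R` among the positions below `k` -/
noncomputable def popc (R k : ℕ) : ℕ → ℕ :=
  @Nat.rec (fun _ => ℕ → ℕ) (fun acc => acc)
    (fun i ih acc => forceN (Nat.add acc (Nat.land (Nat.shiftRight R i) 1)) ih) k

theorem popc_zero (R acc : ℕ) : popc R 0 acc = acc := rfl

theorem popc_succ (R k acc : ℕ) : popc R (k + 1) acc = popc R k (acc + ((R >>> k) &&& 1)) := by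
  show forceN (Nat.add acc (Nat.land (Nat.shiftRight R k) 1)) (popc R k) = _
  rw [forceN_eq]; rfl

theorem shiftRight_and_one (R k : ℕ) : (R >>> k) &&& 1 = if R.testBit k then 1 else 0 := by
  rw [Nat.and_one_is_mod, Nat.shiftRight_eq_div_pow, ← Nat.toNat_testBit]
  cases R.testBit k <;> rfl

theorem popc_eq (R k acc : ℕ) :
    popc R k acc = acc + ((Finset.range k).filter (fun i => R.testBit i = true)).card := by
  induction k generalizing acc with
  | zero => simp [popc_zero]
  | succ k ih =>
    rw [popc_succ, ih, Finset.range_add_one, Finset.filter_insert, shiftRight_and_one]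
    by_cases h : R.testBit k = true
    · rw [if_pos h, if_pos h, Finset.card_insert_of_notMem (by simp)]
      omega
    · rw [if_neg h, if_neg h]
      omega

/-- the number of set bits of `R` among the positions below `k`, with `R` evaluated first -/
noncomputable def popTop (R k : ℕ) : ℕ := forceN R (fun R' => popc R' k 0)

theorem popTop_eq (R k : ℕ) :
    popTop R k = ((Finset.range k).filter (fun i => R.testBit i = true)).card := by
  unfold popTop
  rw [forceN_eq, popc_eq, Nat.zero_add]

theorem card_filter_fin (n : ℕ) (p : ℕ → Prop) [DecidablePred p] :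
    (Finset.univ.filter (fun i : Fin n => p i.val)).card = ((Finset.range n).filter p).card := by
  apply Finset.card_bij (fun i _ => i.val)
  · intro i hi
    simp only [Finset.mem_filter, Finset.mem_univ, true_and] at hi
    simp only [Finset.mem_filter, Finset.mem_range]
    exact ⟨i.isLt, hi⟩
  · intro i _ j _ h
    exact Fin.ext h
  · intro b hb
    simp only [Finset.mem_filter, Finset.mem_range] at hb
    exact ⟨⟨b, hb.1⟩, by simp [hb.2], rfl⟩

end Cfsg.Agent.Lib.Helper92.VecPerm
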